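import Mathlib

/-!
# The logarithmic derivative of the `q`-series of alternating inverse group orders
-/

namespace Cfsg.Agent.Green

open PowerSeries

/-- If `E A = 1` and `(Q ^ k - 1) E k = - E (k - 1)`, the coefficients of `z E' A` are
`-1 / (Q ^ k - 1)`. -/
theorem series_logDeriv (E A : ℕ → ℚ) (Q : ℚ) (h0 : E 0 = 1)
    (hrec : ∀ k, (Q ^ (k + 1) - 1) * E (k + 1) = -E k)
    (hconv : ∀ k, ∑ ij ∈ Finset.HasAntidiagonal.antidiagonal k, E ij.1 * A ij.2 = if k = 0 then 1 else 0)
    (k : ℕ) (hk : 1 ≤ k) :
    (Q ^ k - 1) * ∑ ij ∈ Finset.HasAntidiagonal.antidiagonal k, (ij.1 : ℚ) * E ij.1 * A ij.2 = -1 := by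
  let e : PowerSeries ℚ := PowerSeries.mk E
  let a : PowerSeries ℚ := PowerSeries.mk A
  let D : PowerSeries ℚ → PowerSeries ℚ := fun f => PowerSeries.mk fun i => (i : ℚ) * coeff i f
  let s : PowerSeries ℚ →+* PowerSeries ℚ := rescale Q
  have hea : e * a = 1 := by
    ext i
    rw [coeff_mul, coeff_one, ← hconv i]
    simp [e, a]
  have hs : s e = (1 - X) * e := by
    ext i
    rw [sub_mul, one_mul, map_sub]
    rcases i with _ | i
    · simp [s, e, coeff_rescale]
    · rw [coeff_succ_X_mul]
      simp only [s, e, coeff_rescale, coeff_mk]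
      linarith [hrec i]
  have hsa : (1 - X) * s a = a := by
    have h1 : s e * s a = 1 := by rw [← map_mul, hea, map_one]
    rw [hs] at h1
    calc (1 - X) * s a = e * a * ((1 - X) * s a) := by rw [hea, one_mul]
      _ = a * (((1 - X) * e) * s a) := by ring
      _ = a := by rw [h1, mul_one]
  have hDs : s (D e) = (1 - X) * D e - X * e := by
    ext i
    rw [sub_mul, one_mul, map_sub, map_sub]
    rcases i with _ | i
    · simp [s, D, coeff_rescale]
    · rw [coeff_succ_X_mul, coeff_succ_X_mul]
      simp only [s, e, D, coeff_rescale, coeff_mk]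
      push_cast
      linear_combination ((i : ℚ) + 1) * hrec i
  set r := D e * a with hr
  have hkey : (1 - X) * (s r - r) = -X := by
    rw [hr, map_mul, mul_sub]
    calc (1 - X) * (s (D e) * s a) - (1 - X) * (D e * a)
        = s (D e) * ((1 - X) * s a) - (1 - X) * (D e * a) := by ring
      _ = -X * (e * a) := by rw [hsa, hDs]; ring
      _ = -X := by rw [hea, mul_one]
  have hu : ∀ i, coeff (i + 1) (s r - r) = -1 := by
    intro i
    induction i with
    | zero =>
      have h := congrArg (coeff 1) hkey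
      rw [sub_mul, one_mul, map_sub, coeff_succ_X_mul] at h
      have h0' : coeff 0 (s r - r) = 0 := by
        rw [map_sub, show coeff 0 (s r) = Q ^ 0 * coeff 0 r from coeff_rescale .., pow_zero,
          one_mul, sub_self]
      simpa [h0'] using h
    | succ i ih =>
      have h := congrArg (coeff (i + 2)) hkey
      rw [sub_mul, one_mul, map_sub, coeff_succ_X_mul, ih] at h
      simp [coeff_X] at h
      simp only [map_sub]
      linarith
  obtain ⟨i, rfl⟩ : ∃ i, k = i + 1 := ⟨k - 1, by omega⟩
  have hc : coeff (i + 1) r = ∑ ij ∈ Finset.HasAntidiagonal.antidiagonal (i + 1), (ij.1 : ℚ) * E ij.1 * A ij.2 := by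
    simp [hr, D, e, a, coeff_mul]
  have h := hu i
  rw [map_sub, show coeff (i + 1) (s r) = Q ^ (i + 1) * coeff (i + 1) r from coeff_rescale ..,
    hc] at h
  linarith

end Cfsg.Agent.Green
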