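import Cfsg.Agent.Lib.Green.Lattice

/-!
# Sums of a function over the eigenvalues of an endomorphism
-/

namespace Cfsg.Agent.Green

open Module Submodule Polynomial

section Additive

variable {F : Type*} [Field F] {K : Type*} [Field K] [Algebra F K]
variable {V U : Type*} [AddCommGroup V] [Module F V] [FiniteDimensional F V]
  [AddCommGroup U] [Module F U] [FiniteDimensional F U]

open Module.Basis in
/-- The characteristic polynomial of an invariant subspace and of the quotient. -/
theorem charpoly_eq_mul (f : Module.End F V) (W : Submodule F V) (hW : Inv f W) :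
    f.charpoly = (f.restrict hW).charpoly * (quot f W hW).charpoly := by
  classical
  let bW := Module.finBasis F W
  let bQ := Module.finBasis F (V ⧸ W)
  let b := sumQuot bW bQ
  let A := LinearMap.toMatrix bW bW (f.restrict hW)
  let D := LinearMap.toMatrix bQ bQ (quot f W hW)
  let B : Matrix (Fin (finrank F W)) (Fin (finrank F (V ⧸ W))) F := Matrix.of fun i l ↦
    ((sumQuot bW bQ).repr (f ((sumQuot bW bQ) (Sum.inr l)))) (Sum.inl i)
  suffices LinearMap.toMatrix b b f = Matrix.fromBlocks A B 0 D by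
    rw [← LinearMap.charpoly_toMatrix f b, this, Matrix.charpoly_fromBlocks_zero₂₁,
      LinearMap.charpoly_toMatrix, LinearMap.charpoly_toMatrix]
  ext u v
  cases u with
  | inl i =>
    cases v with
    | inl k =>
      simp only [b, sumQuot_inl, Matrix.fromBlocks_apply₁₁, A, LinearMap.toMatrix_apply]
      apply sumQuot_repr_inl_of_mem
    | inr l => simp [b, LinearMap.toMatrix_apply, Matrix.fromBlocks_apply₁₂, B]
  | inr j =>
    cases v with
    | inl k =>
      suffices W.mkQ (f (bW k)) = 0 by simp [LinearMap.toMatrix_apply, b, this]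
      rw [← LinearMap.mem_ker, Submodule.ker_mkQ]
      exact hW _ (Submodule.coe_mem (bW k))
    | inr l =>
      simp only [LinearMap.toMatrix_apply, sumQuot_repr_inr,
        Matrix.fromBlocks_apply₂₂, b, D]
      rw [← sumQuot_inr bW bQ l]
      rfl

/-- The sum of `ι` over the eigenvalues in `K`. -/
noncomputable def Lval (ι : K → ℂ) (f : Module.End F V) : ℂ :=
  ((f.charpoly.map (algebraMap F K)).roots.map ι).sum

theorem Lval_conj (ι : K → ℂ) {f : Module.End F V} {f' : Module.End F U} (e : U ≃ₗ[F] V)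
    (h : ∀ u, e (f' u) = f (e u)) : Lval ι f = Lval ι f' := by
  have : e.conj f' = f := LinearMap.ext fun v => by
    rw [LinearEquiv.conj_apply_apply, h, e.apply_symm_apply]
  rw [Lval, Lval, ← this, e.charpoly_conj]

theorem Lval_add (ι : K → ℂ) (f : Module.End F V) (W : Submodule F V) (hW : Inv f W) :
    Lval ι f = Lval ι (f.restrict hW) + Lval ι (quot f W hW) := by
  rw [Lval, charpoly_eq_mul f W hW, Polynomial.map_mul, roots_mul, Multiset.map_add,
    Multiset.sum_add]
  · rfl
  · exact mul_ne_zero (Monic.ne_zero ((LinearMap.charpoly_monic _).map _))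
      (Monic.ne_zero ((LinearMap.charpoly_monic _).map _))

theorem Lval_subsingleton [Subsingleton V] (ι : K → ℂ) (f : Module.End F V) : Lval ι f = 0 := by
  have : f.charpoly = 1 := eq_one_of_monic_natDegree_zero (LinearMap.charpoly_monic f)
    (by rw [LinearMap.charpoly_natDegree, finrank_zero_of_subsingleton])
  simp [Lval, this]

end Additive

section Diag

variable {K : Type*} [Field K] [Fintype K]
variable {U : Type*} [AddCommGroup U] [Module K U]

/-- The projection to the eigenspace of `α`, for `a ^ (|K| - 1) = 1`. -/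
noncomputable def eProj (a : Module.End K U) (α : Kˣ) : Module.End K U :=
  -∑ i ∈ Finset.range (Fintype.card K - 1), ((α : K)⁻¹ ^ i) • a ^ i

theorem card_sub_one_pos : 0 < Fintype.card K - 1 :=
  Nat.sub_pos_of_lt Fintype.one_lt_card

theorem inv_pow_card_sub_one (α : Kˣ) : ((α : K)⁻¹) ^ (Fintype.card K - 1) = 1 :=
  FiniteField.pow_card_sub_one_eq_one _ (inv_ne_zero α.ne_zero)

theorem apply_eProj {a : Module.End K U} (ha : a ^ (Fintype.card K - 1) = 1) (α : Kˣ) (v : U) :
    a (eProj a α v) = (α : K) • eProj a α v := by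
  set N := Fintype.card K - 1
  let g : ℕ → U := fun i => ((α : K)⁻¹ ^ i) • (a ^ i) v
  have hshift : ∑ i ∈ Finset.range N, g (i + 1) = ∑ i ∈ Finset.range N, g i := by
    have h1 := Finset.sum_range_succ g N
    have h2 := Finset.sum_range_succ' g N
    have h3 : g N = g 0 := by
      simp only [g, N]
      rw [ha, inv_pow_card_sub_one, pow_zero, pow_zero]
    rw [h1, h3] at h2
    exact (add_right_cancel h2).symm
  simp only [eProj, LinearMap.neg_apply, LinearMap.coe_sum, Finset.sum_apply,
    LinearMap.smul_apply, map_neg, map_sum, map_smul, smul_neg, Finset.smul_sum, smul_smul]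
  congr 1
  calc ∑ i ∈ Finset.range N, ((α : K)⁻¹ ^ i) • a ((a ^ i) v)
      = ∑ i ∈ Finset.range N, (α : K) • g (i + 1) := Finset.sum_congr rfl fun i _ => by
        simp only [g, smul_smul, pow_succ', Module.End.mul_apply, ← mul_assoc,
          mul_inv_cancel₀ α.ne_zero, one_mul]
    _ = _ := by
        rw [← Finset.smul_sum, hshift, Finset.smul_sum]
        simp only [g, smul_smul]
    _ = ∑ i ∈ Finset.range N, ((α : K) * (α : K)⁻¹ ^ i) • (a ^ i) v := rfl

theorem sum_eProj (a : Module.End K U) [Fintype Kˣ] : ∑ α : Kˣ, eProj a α = 1 := by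
  classical
  simp only [eProj, Finset.sum_neg_distrib]
  rw [Finset.sum_comm]
  simp only [← Finset.sum_smul]
  have h : ∀ i ∈ Finset.range (Fintype.card K - 1),
      (∑ α : Kˣ, ((α : K)⁻¹ ^ i)) = if i = 0 then -1 else 0 := by
    intro i hi
    have h' : (∑ α : Kˣ, ((α : K)⁻¹ ^ i)) = if Fintype.card K - 1 ∣ i then -1 else 0 := by
      rw [← FiniteField.sum_pow_units K i]
      refine (Fintype.sum_equiv (Equiv.inv Kˣ) (fun α : Kˣ => (α : K)⁻¹ ^ i)
        (fun α : Kˣ => (α : K) ^ i) fun α => by simp).trans ?_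
      exact Finset.sum_congr (by ext; simp) fun α _ => rfl
    rw [h']
    have hi' := Finset.mem_range.1 hi
    rcases Nat.eq_zero_or_pos i with rfl | hpos
    · simp
    · rw [if_neg hpos.ne', if_neg fun hd => absurd (Nat.le_of_dvd hpos hd) (by omega)]
  rw [Finset.sum_congr rfl fun i hi => by rw [h i hi]]
  simp [Finset.sum_ite_eq', if_pos Fintype.one_lt_card]

theorem eProj_of_mem {a : Module.End K U} {α β : Kˣ} {v : U} (hv : a v = (β : K) • v)
    [DecidableEq Kˣ] : eProj a α v = if α = β then v else 0 := by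
  have hpow : ∀ i : ℕ, (a ^ i) v = (β : K) ^ i • v := by
    intro i
    induction i with
    | zero => simp
    | succ i ih => rw [pow_succ', Module.End.mul_apply, ih, map_smul, hv, smul_smul, pow_succ]
  simp only [eProj, LinearMap.neg_apply, LinearMap.coe_sum, Finset.sum_apply,
    LinearMap.smul_apply, hpow, smul_smul, ← mul_pow, ← Finset.sum_smul]
  split
  · rename_i h
    subst h
    rw [inv_mul_cancel₀ α.ne_zero]
    simp only [one_pow, Finset.sum_const, Finset.card_range, nsmul_eq_mul, mul_one]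
    rw [Nat.cast_sub Fintype.one_lt_card.le, Nat.cast_card_eq_zero]
    simp
  · rename_i h
    have hne : (α : K)⁻¹ * (β : K) ≠ 1 := fun h1 => h (Units.ext (by
      field_simp at h1
      exact h1.symm))
    rw [geom_sum_eq hne, FiniteField.pow_card_sub_one_eq_one _
      (mul_ne_zero (inv_ne_zero α.ne_zero) β.ne_zero), sub_self, zero_div, zero_smul, neg_zero]

theorem eProj_mem {a : Module.End K U} {W : Submodule K U} (hW : Inv a W) (α : Kˣ) {v : U}
    (hv : v ∈ W) : eProj a α v ∈ W := by
  simp only [eProj, LinearMap.neg_apply, LinearMap.coe_sum, Finset.sum_apply,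
    LinearMap.smul_apply]
  have hp : ∀ i : ℕ, (a ^ i) v ∈ W := by
    intro i
    induction i with
    | zero => simpa using hv
    | succ i ih => rw [pow_succ', Module.End.mul_apply]; exact hW _ ih
  exact W.neg_mem (W.sum_mem fun i _ => W.smul_mem _ (hp i))

/-- The eigenspace. -/
def eig (a : Module.End K U) (α : K) : Submodule K U := LinearMap.ker (a - α • 1)

omit [Fintype K] in
theorem mem_eig {a : Module.End K U} {α : K} {v : U} : v ∈ eig a α ↔ a v = α • v := by
  simp [eig, sub_eq_zero]

variable [FiniteDimensional K U]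

/-- An invariant subspace is the product of its eigenspaces. -/
theorem exists_eigEquiv [Fintype Kˣ] {a : Module.End K U} (ha : a ^ (Fintype.card K - 1) = 1)
    {W : Submodule K U} (hW : Inv a W) :
    ∃ e : (∀ α : Kˣ, ↥(W ⊓ eig a α)) ≃ₗ[K] ↥W, ∀ g, (e g : U) = ∑ α, (g α : U) := by
  classical
  let fwd : (∀ α : Kˣ, ↥(W ⊓ eig a α)) →ₗ[K] ↥W :=
    ∑ α : Kˣ, (Submodule.inclusion inf_le_left : ↥(W ⊓ eig a α) →ₗ[K] ↥W) ∘ₗ LinearMap.proj α
  have hfwd : ∀ g, (fwd g : U) = ∑ α, (g α : U) := fun g => by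
    simp [fwd]
  refine ⟨LinearEquiv.ofBijective fwd ⟨fun g g' h => ?_, fun w => ?_⟩, hfwd⟩
  · funext α
    apply Subtype.ext
    have h1 := congrArg (fun w : ↥W => eProj a α (w : U)) h
    simp only [hfwd, map_sum] at h1
    have hr : ∀ (k : ∀ α : Kˣ, ↥(W ⊓ eig a α)),
        (∑ β, eProj a α (k β : U)) = (k α : U) := fun k => by
      rw [Finset.sum_eq_single α]
      · rw [eProj_of_mem (mem_eig.1 (k α).2.2), if_pos rfl]
      · intro β _ hβ
        rw [eProj_of_mem (mem_eig.1 (k β).2.2), if_neg (Ne.symm hβ)]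
      · exact fun h => absurd (Finset.mem_univ α) h
    rw [hr g, hr g'] at h1
    exact h1
  · refine ⟨fun α => ⟨eProj a α (w : U), eProj_mem hW α w.2,
      mem_eig.2 (apply_eProj ha α _)⟩, Subtype.ext ?_⟩
    rw [hfwd]
    simpa using LinearMap.congr_fun (sum_eProj a) (w : U)

theorem finrank_eq_sum_eig [Fintype Kˣ] {a : Module.End K U}
    (ha : a ^ (Fintype.card K - 1) = 1) {W : Submodule K U} (hW : Inv a W) :
    finrank K W = ∑ α : Kˣ, finrank K ↥(W ⊓ eig a α) := by
  obtain ⟨e, -⟩ := exists_eigEquiv ha hW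
  rw [← e.finrank_eq, Module.finrank_pi_fintype]

theorem charpoly_eq_prod_eig [Fintype Kˣ] {a : Module.End K U}
    (ha : a ^ (Fintype.card K - 1) = 1) :
    a.charpoly = ∏ α : Kˣ, (X - C (α : K)) ^ finrank K (eig a α) := by
  classical
  obtain ⟨e, he⟩ := exists_eigEquiv ha (inv_top a)
  let b₀ := Pi.basis fun α : Kˣ => Module.finBasis K ↥((⊤ : Submodule K U) ⊓ eig a α)
  let b := b₀.map (e.trans Submodule.topEquiv)
  have hb : ∀ σ, a (b σ) = (σ.1 : K) • b σ := by
    intro σ
    have hmem : ∀ α : Kˣ, ((b₀ σ α : ↥((⊤ : Submodule K U) ⊓ eig a α)) : U) =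
        if σ.1 = α then ((b₀ σ σ.1 : ↥((⊤ : Submodule K U) ⊓ eig a σ.1)) : U) else 0 := by
      intro α
      rcases eq_or_ne σ.1 α with rfl | hne
      · simp
      · simp [b₀, Pi.basis_apply, hne]
    have hbσ : b σ = ((b₀ σ σ.1 : ↥((⊤ : Submodule K U) ⊓ eig a σ.1)) : U) := by
      show ((e (b₀ σ) : ↥(⊤ : Submodule K U)) : U) = _
      rw [he, Finset.sum_eq_single σ.1]
      · intro α _ hne
        rw [hmem α, if_neg (Ne.symm hne)]
      · exact fun h => absurd (Finset.mem_univ _) h
    rw [hbσ]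
    exact mem_eig.1 (b₀ σ σ.1).2.2
  have hM : LinearMap.toMatrix b b a = Matrix.diagonal fun σ => (σ.1 : K) := by
    ext σ τ
    rw [LinearMap.toMatrix_apply, hb, map_smul, Finsupp.smul_apply, Basis.repr_self,
      Matrix.diagonal_apply]
    rcases eq_or_ne σ τ with rfl | h
    · simp
    · simp [h, Finsupp.single_eq_of_ne' (Ne.symm h)]
  rw [← LinearMap.charpoly_toMatrix a b, hM, Matrix.charpoly_diagonal, Fintype.prod_sigma]
  refine Finset.prod_congr rfl fun α _ => ?_
  simp only [Finset.prod_const, Finset.card_univ, Fintype.card_fin]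
  rw [(LinearEquiv.ofEq _ _ (top_inf_eq (eig a (α : K)))).finrank_eq]

omit [FiniteDimensional K U] in
theorem roots_prod_pow [Fintype Kˣ] (m : Kˣ → ℕ) (ι : K → ℂ) :
    (((∏ α : Kˣ, (X - C (α : K)) ^ m α)).roots.map ι).sum = ∑ α : Kˣ, (m α : ℂ) * ι α := by
  classical
  rw [roots_prod]
  · simp only [roots_pow, roots_X_sub_C, Multiset.map_bind, Multiset.map_nsmul,
      Multiset.map_singleton, Multiset.sum_bind, Multiset.sum_nsmul, Multiset.sum_singleton,
      nsmul_eq_mul]
    rfl
  · exact Finset.prod_ne_zero_iff.2 fun α _ => pow_ne_zero _ (X_sub_C_ne_zero _)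

/-- For a diagonalisable `a`, the sum over eigenvalues counts eigenspaces. -/
theorem Lval_eq_sum_eig [Fintype Kˣ] (ι : K → ℂ) {a : Module.End K U}
    (ha : a ^ (Fintype.card K - 1) = 1) :
    Lval ι a = ∑ α : Kˣ, (finrank K (eig a α) : ℂ) * ι α := by
  rw [Lval, Algebra.algebraMap_self, Polynomial.map_id, charpoly_eq_prod_eig ha]
  exact roots_prod_pow (fun α : Kˣ => finrank K (eig a (α : K))) ι

end Diag

end Cfsg.Agent.Green
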