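import Cfsg.Agent.Lib.Green.Fibre
import Cfsg.Agent.Lib.Green.Series
import Cfsg.Agent.Lib.Green.Spectrum

/-!
# The Möbius sums over the endomorphisms with a primary characteristic polynomial
-/

namespace Cfsg.Agent.Green

open Module Submodule Polynomial

variable {F : Type*} [Field F]
variable {V U : Type*} [AddCommGroup V] [Module F V] [Finite V]
  [AddCommGroup U] [Module F U] [Finite U]

open scoped Classical in
/-- The endomorphisms with characteristic polynomial `P ^ k`. -/
noncomputable def cls (P : F[X]) (k : ℕ) (V : Type*) [AddCommGroup V] [Module F V] [Finite V] :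
    Finset (Module.End F V) :=
  haveI : FiniteDimensional F V := Module.Finite.of_finite
  Finset.univ.filter fun f => f.charpoly = P ^ k

theorem mem_cls [FiniteDimensional F V] {P : F[X]} {k : ℕ} {f : Module.End F V} :
    f ∈ cls P k V ↔ f.charpoly = P ^ k := by
  simp [cls]

/-- The scaled Möbius sum. -/
noncomputable def Esum (P : F[X]) (k : ℕ) (V : Type*) [AddCommGroup V] [Module F V] [Finite V] :
    ℚ := (∑ f ∈ cls P k V, (mob f ⊤ : ℚ)) / glc F V

/-- The scaled number of endomorphisms. -/
noncomputable def Asum (P : F[X]) (k : ℕ) (V : Type*) [AddCommGroup V] [Module F V] [Finite V] :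
    ℚ := ((cls P k V).card : ℚ) / glc F V

theorem sum_cls_congr (P : F[X]) (k : ℕ) (e : U ≃ₗ[F] V) (φ : Module.End F V → ℚ) :
    ∑ f ∈ cls P k V, φ f = ∑ f ∈ cls P k U, φ (e.conj f) := by
  haveI : FiniteDimensional F V := Module.Finite.of_finite
  haveI : FiniteDimensional F U := Module.Finite.of_finite
  symm
  refine Finset.sum_equiv e.conj.toEquiv (fun f => ?_) fun f _ => rfl
  rw [mem_cls, mem_cls, show e.conj.toEquiv f = e.conj f from rfl, e.charpoly_conj]

theorem Esum_congr (P : F[X]) (k : ℕ) (e : U ≃ₗ[F] V) : Esum P k V = Esum P k U := by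
  rw [Esum, Esum, sum_cls_congr P k e, glc_congr e]
  congr 1
  refine Finset.sum_congr rfl fun f _ => ?_
  rw [mob_top_conj (f := e.conj f) (f' := f) e fun u => by simp [LinearEquiv.conj_apply_apply]]

theorem Asum_congr (P : F[X]) (k : ℕ) (e : U ≃ₗ[F] V) : Asum P k V = Asum P k U := by
  rw [Asum, Asum, glc_congr e, Finset.cast_card, Finset.cast_card,
    sum_cls_congr P k e fun _ => 1]

variable [Finite F]

/-- The sequence of Möbius sums. -/
noncomputable def Eseq (P : F[X]) (i : ℕ) : ℚ := Esum P i (Fin (P.natDegree * i) → F)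

/-- The sequence of counts. -/
noncomputable def Aseq (P : F[X]) (i : ℕ) : ℚ := Asum P i (Fin (P.natDegree * i) → F)

theorem Esum_eq (P : F[X]) {i : ℕ} (h : finrank F V = P.natDegree * i) :
    Esum P i V = Eseq P i := by
  haveI : FiniteDimensional F V := Module.Finite.of_finite
  exact Esum_congr P i (LinearEquiv.ofFinrankEq _ _ (by rw [h, finrank_fin_fun]))

theorem Asum_eq (P : F[X]) {i : ℕ} (h : finrank F V = P.natDegree * i) :
    Asum P i V = Aseq P i := by
  haveI : FiniteDimensional F V := Module.Finite.of_finite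
  exact Asum_congr P i (LinearEquiv.ofFinrankEq _ _ (by rw [h, finrank_fin_fun]))

omit [Finite F] in
theorem charpoly_pow_iff [FiniteDimensional F V] {P : F[X]} (hirr : Irreducible P)
    (hmon : P.Monic) {k : ℕ} (f : Module.End F V) (hV : finrank F V = P.natDegree * k)
    {W : Submodule F V} (hW : Inv f W) :
    f.charpoly = P ^ k ↔ ∃ i, i ≤ k ∧ finrank F W = P.natDegree * i ∧
      (f.restrict hW).charpoly = P ^ i ∧ (quot f W hW).charpoly = P ^ (k - i) := by
  constructor
  · intro h
    rw [charpoly_eq_mul f W hW] at h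
    obtain ⟨i, hik, hi⟩ := (dvd_prime_pow hirr.prime k).1 ⟨_, h.symm⟩
    have hi' := eq_of_monic_of_associated (LinearMap.charpoly_monic _) (hmon.pow i) hi
    refine ⟨i, hik, ?_, hi', ?_⟩
    · rw [← LinearMap.charpoly_natDegree (f.restrict hW), hi', natDegree_pow, mul_comm]
    · rw [hi', show P ^ k = P ^ i * P ^ (k - i) by rw [← pow_add, Nat.add_sub_cancel' hik]] at h
      exact mul_left_cancel₀ (pow_ne_zero _ hmon.ne_zero) h
  · rintro ⟨i, hik, -, h1, h2⟩
    rw [charpoly_eq_mul f W hW, h1, h2, ← pow_add, Nat.add_sub_cancel' hik]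

open scoped Classical in
/-- The Möbius sum weighted by a function of the dimension is a convolution. -/
theorem convolution {P : F[X]} (hirr : Irreducible P) (hmon : P.Monic) (k : ℕ)
    (hV : finrank F V = P.natDegree * k) (φ : ℕ → ℚ) :
    ∑ f ∈ cls P k V, ∑ W : Submodule F V, (if Inv f W then (mob f W : ℚ) * φ (finrank F W) else 0) =
      (glc F V : ℚ) * ∑ i ∈ Finset.range (k + 1),
        φ (P.natDegree * i) * (Eseq P i * Aseq P (k - i)) := by
  haveI : FiniteDimensional F V := Module.Finite.of_finite
  rw [Finset.sum_comm]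
  have hd : 0 < P.natDegree := hirr.natDegree_pos
  -- the contribution of one subspace
  have hW : ∀ W : Submodule F V,
      ∑ f ∈ cls P k V, (if Inv f W then (mob f W : ℚ) * φ (finrank F W) else 0) =
      ∑ i ∈ Finset.range (k + 1), if finrank F W = P.natDegree * i then
        φ (P.natDegree * i) * ((Nat.card ↥(trans W) * (glc F ↥W * glc F (V ⧸ W)) : ℕ) : ℚ) *
          (Eseq P i * Aseq P (k - i)) else 0 := by
    intro W
    by_cases hex : ∃ i, i ≤ k ∧ finrank F W = P.natDegree * i
    · obtain ⟨i, hik, hi⟩ := hex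
      rw [Finset.sum_eq_single i]
      rotate_left
      · intro j _ hj
        rw [if_neg fun h => hj (Nat.eq_of_mul_eq_mul_left hd (h.symm.trans hi))]
      · intro h
        exact absurd (Finset.mem_range.2 (by omega)) h
      rw [if_pos hi]
      have hQ : finrank F (V ⧸ W) = P.natDegree * (k - i) := by
        have := W.finrank_quotient_add_finrank
        rw [hV, hi] at this
        rw [Nat.mul_sub, ← this, Nat.add_sub_cancel]
      have key : ∀ f : Module.End F V,
          (if f ∈ cls P k V then (if Inv f W then (mob f W : ℚ) * φ (finrank F W) else 0) else 0) =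
          if h : Inv f W then
            (if (f.restrict h) ∈ cls P i ↥W ∧ quot f W h ∈ cls P (k - i) (V ⧸ W) then
              φ (P.natDegree * i) * (mob (f.restrict h) ⊤ : ℚ) else 0) else 0 := by
        intro f
        by_cases h : Inv f W
        · rw [dif_pos h, if_pos h]
          by_cases hc : f.charpoly = P ^ k
          · obtain ⟨i', hik', hi', h1, h2⟩ := (charpoly_pow_iff hirr hmon f hV h).1 hc
            have : i' = i := Nat.eq_of_mul_eq_mul_left hd (hi'.symm.trans hi)
            subst this
            rw [if_pos (mem_cls.2 hc), if_pos ⟨mem_cls.2 h1, mem_cls.2 h2⟩, hi, mob_restrict h, mul_comm]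
          · rw [if_neg fun h' => hc (mem_cls.1 h'), if_neg fun ⟨h1, h2⟩ =>
              hc ((charpoly_pow_iff hirr hmon f hV h).2
                ⟨i, hik, hi, mem_cls.1 h1, mem_cls.1 h2⟩)]
        · rw [dif_neg h, if_neg h, ite_self]
      calc ∑ f ∈ cls P k V, (if Inv f W then (mob f W : ℚ) * φ (finrank F W) else 0)
          = ∑ f : Module.End F V, if f ∈ cls P k V then
              (if Inv f W then (mob f W : ℚ) * φ (finrank F W) else 0) else 0 := by
            rw [Finset.sum_ite_mem, Finset.univ_inter]
        _ = (Nat.card ↥(trans W) : ℚ) * ∑ a : Module.End F ↥W, ∑ b : Module.End F (V ⧸ W),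
              if a ∈ cls P i ↥W ∧ b ∈ cls P (k - i) (V ⧸ W) then
                φ (P.natDegree * i) * (mob a ⊤ : ℚ) else 0 := by
            rw [Finset.sum_congr rfl fun f _ => key f]
            exact sum_inv W fun a b => if a ∈ cls P i ↥W ∧ b ∈ cls P (k - i) (V ⧸ W) then
              φ (P.natDegree * i) * (mob a ⊤ : ℚ) else 0
        _ = _ := by
            have hin : ∀ a : Module.End F ↥W, (∑ b : Module.End F (V ⧸ W),
                if a ∈ cls P i ↥W ∧ b ∈ cls P (k - i) (V ⧸ W) then
                  φ (P.natDegree * i) * (mob a ⊤ : ℚ) else 0) =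
                if a ∈ cls P i ↥W then ((cls P (k - i) (V ⧸ W)).card : ℚ) *
                  (φ (P.natDegree * i) * (mob a ⊤ : ℚ)) else 0 := by
              intro a
              by_cases ha : a ∈ cls P i ↥W
              · simp only [ha, true_and, if_true]
                rw [Finset.sum_ite_mem, Finset.univ_inter, Finset.sum_const, nsmul_eq_mul]
              · simp [ha]
            rw [Finset.sum_congr rfl fun a _ => hin a, Finset.sum_ite_mem, Finset.univ_inter,
              ← Finset.mul_sum, ← Finset.mul_sum, ← Esum_eq P hi, ← Asum_eq P hQ, Esum, Asum]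
            have h1 : (glc F ↥W : ℚ) ≠ 0 := Nat.cast_ne_zero.2 glc_pos.ne'
            have h2 : (glc F (V ⧸ W) : ℚ) ≠ 0 := Nat.cast_ne_zero.2 glc_pos.ne'
            push_cast
            field_simp
    · rw [Finset.sum_eq_zero fun f hf => ?_, Finset.sum_eq_zero fun i hi => ?_]
      · rw [if_neg fun h => hex ⟨i, Nat.lt_succ_iff.1 (Finset.mem_range.1 hi), h⟩]
      · refine if_neg fun h => hex ?_
        obtain ⟨i, hik, hi, -⟩ := (charpoly_pow_iff hirr hmon f hV h).1 (mem_cls.1 hf)
        exact ⟨i, hik, hi⟩
  rw [Finset.sum_congr rfl fun W _ => hW W, Finset.sum_comm, Finset.mul_sum]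
  refine Finset.sum_congr rfl fun i hi => ?_
  -- subspaces of dimension `deg P * i`
  have hle : P.natDegree * i ≤ finrank F V := by
    rw [hV]
    exact Nat.mul_le_mul_left _ (Nat.lt_succ_iff.1 (Finset.mem_range.1 hi))
  obtain ⟨W₀, hW₀⟩ : ∃ W : Submodule F V, finrank F W = P.natDegree * i := by
    let b := Module.finBasis F V
    refine ⟨Submodule.span F (Set.range fun j : Fin (P.natDegree * i) => b (Fin.castLE hle j)), ?_⟩
    show finrank F ↥(Submodule.span F (Set.range (⇑b ∘ Fin.castLE hle))) = _
    rw [finrank_span_eq_card (b.linearIndependent.comp _ (Fin.castLE_injective hle)),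
      Fintype.card_fin]
  have hconst : ∀ W : Submodule F V, finrank F W = P.natDegree * i →
      Nat.card ↥(trans W) * (glc F ↥W * glc F (V ⧸ W)) =
        Nat.card ↥(trans W₀) * (glc F ↥W₀ * glc F (V ⧸ W₀)) := by
    intro W hWd
    have h1 := card_sub_mul W
    have h2 := card_sub_mul W₀
    simp only [hWd] at h1
    simp only [hW₀] at h2
    haveI : Nonempty {W' : Submodule F V // finrank F W' = P.natDegree * i} := ⟨⟨W₀, hW₀⟩⟩
    exact Nat.eq_of_mul_eq_mul_left Nat.card_pos (h1.trans h2.symm)
  rw [← Finset.sum_filter, Finset.sum_congr rfl fun W hWf => by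
    rw [hconst W (Finset.mem_filter.1 hWf).2], Finset.sum_const, nsmul_eq_mul]
  have h2 := card_sub_mul W₀
  simp only [hW₀] at h2
  have hcard : Nat.card {W' : Submodule F V // finrank F W' = P.natDegree * i} =
      (Finset.univ.filter fun W' : Submodule F V => finrank F W' = P.natDegree * i).card :=
    Nat.subtype_card _ (by simp)
  rw [← h2, hcard]
  push_cast
  ring

theorem sum_Eseq_Aseq {P : F[X]} (hirr : Irreducible P) (hmon : P.Monic) (k : ℕ) :
    ∑ i ∈ Finset.range (k + 1), Eseq P i * Aseq P (k - i) = if k = 0 then 1 else 0 := by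
  classical
  have h := convolution (V := Fin (P.natDegree * k) → F) hirr hmon k (by rw [finrank_fin_fun])
    fun _ => 1
  simp only [mul_one, one_mul] at h
  have hg : (glc F (Fin (P.natDegree * k) → F) : ℚ) ≠ 0 := Nat.cast_ne_zero.2 glc_pos.ne'
  have hl : ∀ f : Module.End F (Fin (P.natDegree * k) → F),
      (∑ W : Submodule F (Fin (P.natDegree * k) → F), if Inv f W then (mob f W : ℚ) else 0) =
        if (⊤ : Submodule F (Fin (P.natDegree * k) → F)) = ⊥ then 1 else 0 := by
    intro f
    have := congrArg (fun z : ℤ => (z : ℚ)) (sum_mob f (inv_top f))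
    push_cast at this
    simpa using this
  rw [Finset.sum_congr rfl fun f _ => hl f, Finset.sum_const, nsmul_eq_mul] at h
  refine mul_left_cancel₀ hg ?_
  rw [← h]
  rcases Nat.eq_zero_or_pos k with rfl | hk
  · have hsub : Subsingleton (Fin (P.natDegree * 0) → F) := by
      rw [mul_zero]
      infer_instance
    rw [if_pos rfl, if_pos (Subsingleton.elim _ _), mul_one, mul_one]
    have h1 : cls P 0 (Fin (P.natDegree * 0) → F) = {0} := by
      ext f
      simp only [mem_cls, Finset.mem_singleton, pow_zero]
      exact ⟨fun _ => Subsingleton.elim _ _, fun _ =>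
        eq_one_of_monic_natDegree_zero (LinearMap.charpoly_monic f)
          (by rw [LinearMap.charpoly_natDegree, finrank_zero_of_subsingleton])⟩
    rw [h1, Finset.card_singleton, glc, Nat.card_eq_one_iff_unique.2
      ⟨⟨fun a b => Units.ext (Subsingleton.elim _ _)⟩, ⟨1⟩⟩]
  · rw [if_neg hk.ne', if_neg, mul_zero, mul_zero]
    intro htb
    have := finrank_top F (Fin (P.natDegree * k) → F)
    rw [htb, finrank_bot, finrank_fin_fun] at this
    exact (Nat.mul_pos hirr.natDegree_pos hk).ne this

omit [Finite F] [Finite V] in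
theorem inv_aeval {f : Module.End F V} {W : Submodule F V} (hW : Inv f W) (R : F[X]) :
    Inv (aeval f R) W := by
  intro v hv
  induction R using Polynomial.induction_on' with
  | add p r hp hr => rw [map_add, LinearMap.add_apply]; exact W.add_mem hp hr
  | monomial m c =>
    rw [aeval_monomial, Module.End.mul_apply, Module.algebraMap_end_apply]
    refine W.smul_mem c ?_
    induction m with
    | zero => simpa using hv
    | succ m ih => rw [pow_succ', Module.End.mul_apply]; exact hW _ ih

omit [Finite F] in
theorem aeval_eq_zero_of_mob_ne_zero [FiniteDimensional F V] {P : F[X]} {k : ℕ}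
    {f : Module.End F V} (hf : f.charpoly = P ^ k) (h : mob f ⊤ ≠ 0) : aeval f P = 0 := by
  by_contra hne
  refine h (mob_eq_zero_of_not_le f (W₀ := LinearMap.ker (aeval f P)) ?_ ?_ ⊤ (inv_top f) ?_)
  · intro v hv
    rw [LinearMap.mem_ker] at hv ⊢
    rw [← Module.End.mul_apply, show aeval f P * f = f * aeval f P by
      rw [show f * aeval f P = aeval f (X * P) by simp, show aeval f P * f = aeval f (P * X) by simp,
        mul_comm], Module.End.mul_apply, hv, map_zero]
  · intro W hW hW0 hmeet
    classical
    obtain ⟨w, hw, hw0⟩ := (Submodule.ne_bot_iff _).1 hW0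
    have hnil : (aeval f P) ^ k = 0 := by
      rw [← map_pow, ← hf, LinearMap.aeval_self_charpoly]
    have hex : ∃ j, ((aeval f P) ^ j) w = 0 := ⟨k, by rw [hnil]; rfl⟩
    set j := Nat.find hex with hj
    have hj0 : j ≠ 0 := fun h0 => hw0 (by
      have := Nat.find_spec hex
      rwa [← hj, h0, pow_zero, Module.End.one_apply] at this)
    obtain ⟨i, hi⟩ := Nat.exists_eq_succ_of_ne_zero hj0
    refine Nat.find_min hex (m := i) (by omega) ?_
    have h1 : ((aeval f P) ^ i) w ∈ W ⊓ LinearMap.ker (aeval f P) := by
      refine ⟨?_, ?_⟩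
      · rw [← map_pow]
        exact inv_aeval hW _ w hw
      · show ((aeval f P) ^ i) w ∈ LinearMap.ker (aeval f P)
        rw [LinearMap.mem_ker, ← Module.End.mul_apply, ← pow_succ']
        have := Nat.find_spec hex
        rwa [← hj, hi] at this
    rw [hmeet, Submodule.mem_bot] at h1
    exact h1
  · exact fun hle => hne (LinearMap.ext fun v => LinearMap.mem_ker.1 (hle Submodule.mem_top))

end Cfsg.Agent.Green
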