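import Cfsg.Agent.Lib.Green.Recursion

/-!
# Green's cuspidal class function

`green ι f` is the sum, over the invariant subspaces `W`, of the Möbius function times the sum of
`ι` over the eigenvalues on `W`.  It is cuspidal and vanishes off the primary elements.
-/

namespace Cfsg.Agent.Green

open Module Submodule Polynomial

variable {F : Type*} [Field F] {K : Type*} [Field K] [Algebra F K]
variable {V U : Type*} [AddCommGroup V] [Module F V] [Finite V]
  [AddCommGroup U] [Module F U] [Finite U]

open scoped Classical in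
/-- The eigenvalue sum on a subspace. -/
noncomputable def LW (ι : K → ℂ) (f : Module.End F V) (W : Submodule F V) : ℂ :=
  if h : Inv f W then Lval ι (f.restrict h) else 0

open scoped Classical in
/-- Green's class function. -/
noncomputable def green (ι : K → ℂ) (f : Module.End F V) : ℂ :=
  ∑ W : Submodule F V, if Inv f W then (mob f W : ℂ) * LW ι f W else 0

open scoped Classical in
/-- The Möbius sum weighted by the dimension. -/
noncomputable def Dsum (f : Module.End F V) : ℂ :=
  ∑ W : Submodule F V, if Inv f W then (mob f W : ℂ) * (finrank F W : ℂ) else 0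

theorem LW_range {f : Module.End F V} {f' : Module.End F U} (ι : K → ℂ) (e : U →ₗ[F] V)
    (he : Function.Injective e) (h : ∀ u, e (f' u) = f (e u)) :
    LW ι f (LinearMap.range e) = Lval ι f' := by
  have hinv : Inv f (LinearMap.range e) := by
    rintro _ ⟨u, rfl⟩
    exact ⟨f' u, h u⟩
  rw [LW, dif_pos hinv]
  exact Lval_conj ι (LinearEquiv.ofInjective e he) fun u => Subtype.ext (h u)

theorem LW_map {f : Module.End F V} {f' : Module.End F U} (ι : K → ℂ) (e : U →ₗ[F] V)
    (he : Function.Injective e) (h : ∀ u, e (f' u) = f (e u)) (W : Submodule F U) :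
    LW ι f (W.map e) = LW ι f' W := by
  by_cases hW : Inv f' W
  · conv_rhs => rw [LW, dif_pos hW]
    have : W.map e = LinearMap.range (e ∘ₗ W.subtype) := by
      rw [LinearMap.range_comp, Submodule.range_subtype]
    rw [this]
    exact LW_range ι _ (he.comp W.injective_subtype) fun w => h w
  · rw [LW, LW, dif_neg hW, dif_neg fun h' => hW ((inv_map e he h W).1 h')]

theorem green_conj (ι : K → ℂ) {f : Module.End F V} {f' : Module.End F U} (e : U ≃ₗ[F] V)
    (h : ∀ u, e (f' u) = f (e u)) : green ι f = green ι f' := by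
  classical
  rw [green, green]
  symm
  refine Fintype.sum_bijective (Submodule.map (e : U →ₗ[F] V))
    ⟨Submodule.map_injective_of_injective e.injective,
      fun W => ⟨W.comap (e : U →ₗ[F] V), Submodule.map_comap_eq_of_surjective e.surjective W⟩⟩ _ _
    fun W => ?_
  rw [mob_map (f := f) (f' := f') (e : U →ₗ[F] V) e.injective h,
    LW_map (f := f) (f' := f') ι (e : U →ₗ[F] V) e.injective h]
  simp only [inv_map (f := f) (f' := f') (e : U →ₗ[F] V) e.injective h]

theorem LW_bot (ι : K → ℂ) (f : Module.End F V) : LW ι f ⊥ = 0 := by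
  haveI : FiniteDimensional F V := Module.Finite.of_finite
  rw [LW, dif_pos (inv_bot f), Lval_subsingleton]

theorem LW_top [FiniteDimensional F V] (ι : K → ℂ) (f : Module.End F V) :
    LW ι f ⊤ = Lval ι f := by
  rw [← LinearMap.range_id, LW_range (f := f) (f' := f) ι LinearMap.id Function.injective_id
    fun _ => rfl]

theorem LW_add (ι : K → ℂ) {X W : Submodule F V} {f t : Module.End F V} (hX : Inv f X)
    (ht : t ∈ trans X) (hW : Inv (f + t) W) :
    LW ι (f + t) W = LW ι f (W ⊓ X) + LW ι (quot f X hX) (W.map X.mkQ) := by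
  haveI : FiniteDimensional F V := Module.Finite.of_finite
  rw [LW, dif_pos hW]
  let X' : Submodule F W := X.comap W.subtype
  have hX' : Inv ((f + t).restrict hW) X' := fun w hw => (inv_add_trans hX ht) _ hw
  rw [Lval_add ι _ X' hX']
  congr 1
  · rw [← LW_range (f := f) (f' := ((f + t).restrict hW).restrict hX') ι
      (W.subtype ∘ₗ X'.subtype) (W.injective_subtype.comp X'.injective_subtype) (fun u => ?_)]
    · rw [LinearMap.range_comp, Submodule.range_subtype, Submodule.map_comap_subtype]
    · show f ((u : ↥W) : V) + t ((u : ↥W) : V) = f ((u : ↥W) : V)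
      rw [show t ((u : ↥W) : V) = 0 from ht.1 _ u.2, add_zero]
  · let e' : (↥W ⧸ X') →ₗ[F] V ⧸ X := X'.mapQ X W.subtype le_rfl
    have he' : Function.Injective e' := by
      rw [← LinearMap.ker_eq_bot, eq_bot_iff]
      intro q hq
      obtain ⟨w, rfl⟩ := X'.mkQ_surjective q
      rw [Submodule.mem_bot]
      exact (Submodule.Quotient.mk_eq_zero X').2
        ((Submodule.Quotient.mk_eq_zero X (x := (w : V))).1 (LinearMap.mem_ker.1 hq))
    have hr : LinearMap.range e' = W.map X.mkQ := by
      apply le_antisymm
      · rintro _ ⟨q, rfl⟩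
        obtain ⟨w, rfl⟩ := X'.mkQ_surjective q
        exact ⟨w, w.2, rfl⟩
      · rintro _ ⟨w, hw, rfl⟩
        exact ⟨X'.mkQ ⟨w, hw⟩, rfl⟩
    rw [← hr]
    refine (LW_range ι e' he' fun q => ?_).symm
    obtain ⟨w, rfl⟩ := X'.mkQ_surjective q
    show X.mkQ ((f + t) (w : V)) = X.mkQ (f w)
    rw [LinearMap.add_apply, map_add, mkQ_trans ht, add_zero]

open scoped Classical in
/-- Averaged sums with additive weights vanish. -/
theorem sum_average_additive (f : Module.End F V) {X : Submodule F V} (hX : Inv f X)
    (hbot : X ≠ ⊥) (htop : X ≠ ⊤) (ψ₁ : Submodule F V → ℂ) (ψ₂ : Submodule F (V ⧸ X) → ℂ) :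
    ∑ t : Module.End F V, (if t ∈ trans X then
      ∑ W : Submodule F V, (if Inv (f + t) W then
        (mob (f + t) W : ℂ) * (ψ₁ (W ⊓ X) + ψ₂ (W.map X.mkQ)) else 0) else 0) = 0 := by
  rw [sum_average f X hX fun A B => ψ₁ A + ψ₂ B]
  have hA := congrArg (fun z : ℤ => (z : ℂ)) (sum_mob f hX)
  have hB := congrArg (fun z : ℤ => (z : ℂ)) (sum_mob (quot f X hX) (inv_top _))
  have hq : (⊤ : Submodule F (V ⧸ X)) ≠ ⊥ := by
    intro h
    refine htop (eq_top_iff.2 fun v _ => ?_)
    have : X.mkQ v ∈ (⊥ : Submodule F (V ⧸ X)) := h ▸ Submodule.mem_top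
    rwa [Submodule.mem_bot, Submodule.mkQ_apply, Submodule.Quotient.mk_eq_zero] at this
  rw [if_neg hbot] at hA
  rw [if_neg hq] at hB
  push_cast at hA hB
  have key : ∀ A B, (if A ≤ X ∧ Inv f A ∧ Inv (quot f X hX) B then
      ((mob f A * mob (quot f X hX) B : ℤ) : ℂ) * (ψ₁ A + ψ₂ B) else 0) =
      (if A ≤ X ∧ Inv f A then (mob f A : ℂ) * ψ₁ A else 0) *
        (if B ≤ ⊤ ∧ Inv (quot f X hX) B then (mob (quot f X hX) B : ℂ) else 0) +
      (if A ≤ X ∧ Inv f A then (mob f A : ℂ) else 0) *
        (if B ≤ ⊤ ∧ Inv (quot f X hX) B then (mob (quot f X hX) B : ℂ) * ψ₂ B else 0) := by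
    intro A B
    by_cases h1 : A ≤ X ∧ Inv f A <;> by_cases h2 : Inv (quot f X hX) B
    · simp [h1, h2]; ring
    · simp [h1, h2]
    · rw [if_neg fun h => h1 ⟨h.1, h.2.1⟩]; simp [h1]
    · rw [if_neg fun h => h2 h.2.2]; simp [h1]
  simp only [key, Finset.sum_add_distrib, ← Finset.mul_sum, hB, mul_zero, Finset.sum_const_zero,
    zero_add, ← Finset.sum_mul, hA, zero_mul]

open scoped Classical in
/-- Cuspidality. -/
theorem sum_green (ι : K → ℂ) (f : Module.End F V) {X : Submodule F V} (hX : Inv f X)
    (hbot : X ≠ ⊥) (htop : X ≠ ⊤) :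
    ∑ t : Module.End F V, (if t ∈ trans X then green ι (f + t) else 0) = 0 := by
  refine Eq.trans ?_ (sum_average_additive f hX hbot htop (LW ι f) (LW ι (quot f X hX)))
  refine Finset.sum_congr rfl fun t _ => ?_
  by_cases ht : t ∈ trans X
  · rw [if_pos ht, if_pos ht, green]
    refine Finset.sum_congr rfl fun W _ => ?_
    by_cases h : Inv (f + t) W
    · rw [if_pos h, if_pos h, LW_add ι hX ht h]
    · rw [if_neg h, if_neg h]
  · rw [if_neg ht, if_neg ht]

theorem aeval_comm {V U : Type*} [AddCommGroup V] [Module F V] [AddCommGroup U] [Module F U]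
    {f : Module.End F V} {f' : Module.End F U} (e : U →ₗ[F] V) (h : ∀ u, e (f' u) = f (e u))
    (R : F[X]) (u : U) : e (aeval f' R u) = aeval f R (e u) := by
  induction R using Polynomial.induction_on' with
  | add p r hp hr => simp [hp, hr]
  | monomial m c =>
    simp only [aeval_monomial, Module.End.mul_apply, Module.algebraMap_end_apply, map_smul]
    congr 1
    induction m with
    | zero => rfl
    | succ m ih => rw [pow_succ', pow_succ', Module.End.mul_apply, Module.End.mul_apply, h, ih]

omit [Finite V] in
/-- An irreducible factor of the characteristic polynomial divides any polynomial killing `f`. -/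
theorem dvd_of_aeval_eq_zero : ∀ (m : ℕ) {V : Type*} [AddCommGroup V] [Module F V]
    [FiniteDimensional F V] (f : Module.End F V), finrank F V ≤ m → ∀ {P Q : F[X]},
    Irreducible P → P ∣ f.charpoly → aeval f Q = 0 → P ∣ Q := by
  intro m
  induction m using Nat.strong_induction_on with
  | _ m ih =>
  intro V _ _ _ f hm P Q hP hdvd hQ
  rcases subsingleton_or_nontrivial V with hV | hV
  · have : f.charpoly = 1 := eq_one_of_monic_natDegree_zero (LinearMap.charpoly_monic f)
      (by rw [LinearMap.charpoly_natDegree, finrank_zero_of_subsingleton])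
    rw [this] at hdvd
    exact absurd (isUnit_of_dvd_one hdvd) hP.not_isUnit
  by_cases hW : ∃ W : Submodule F V, Inv f W ∧ W ≠ ⊥ ∧ W ≠ ⊤
  · obtain ⟨W, hW, hbot, htop⟩ := hW
    rw [charpoly_eq_mul f W hW] at hdvd
    have h1 := W.finrank_quotient_add_finrank
    have h2 : 0 < finrank F W :=
      Nat.pos_of_ne_zero fun h => hbot (Submodule.finrank_eq_zero.1 h)
    have h3 : finrank F W < finrank F V := Submodule.finrank_lt htop
    rcases hP.prime.dvd_or_dvd hdvd with h | h
    · refine ih (finrank F W) (by omega) (f.restrict hW) le_rfl hP h (LinearMap.ext fun w => ?_)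
      apply Subtype.ext
      have key : ∀ R : F[X], ((aeval (f.restrict hW) R w : ↥W) : V) = aeval f R (w : V) :=
        fun R => aeval_comm W.subtype (fun _ => rfl) R w
      rw [key, hQ]
      rfl
    · refine ih (finrank F (V ⧸ W)) (by omega) (quot f W hW) le_rfl hP h
        (Submodule.linearMap_qext _ (LinearMap.ext fun v => ?_))
      have key : ∀ R : F[X], aeval (quot f W hW) R (W.mkQ v) = W.mkQ (aeval f R v) :=
        fun R => (aeval_comm W.mkQ (fun u => (quot_mk f W hW u).symm) R v).symm
      rw [LinearMap.comp_apply, key, hQ]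
      simp
  · push Not at hW
    have hirr : Irreducible (minpoly F f) := by
      refine ⟨minpoly.not_isUnit F f, fun a b hab => ?_⟩
      have hprod : aeval f a * aeval f b = 0 := by
        rw [← map_mul, ← hab, minpoly.aeval]
      have hint : IsIntegral F f := Algebra.IsIntegral.isIntegral f
      have hne : a * b ≠ 0 := hab ▸ minpoly.ne_zero hint
      have hdeg : (minpoly F f).natDegree = a.natDegree + b.natDegree := by
        rw [hab, natDegree_mul (left_ne_zero_of_mul hne) (right_ne_zero_of_mul hne)]
      have hker : LinearMap.ker (aeval f a) = ⊥ ∨ LinearMap.ker (aeval f a) = ⊤ := by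
        by_cases h0 : LinearMap.ker (aeval f a) = ⊥
        · exact Or.inl h0
        refine Or.inr (hW _ (fun v hv => ?_) h0)
        rw [LinearMap.mem_ker] at hv ⊢
        rw [← Module.End.mul_apply, show aeval f a * f = f * aeval f a by
          rw [show f * aeval f a = aeval f (X * a) by simp,
            show aeval f a * f = aeval f (a * X) by simp, mul_comm],
          Module.End.mul_apply, hv, map_zero]
      have huu : ∀ c : F[X], c ≠ 0 → aeval f c = 0 → (minpoly F f).natDegree ≤ c.natDegree :=
        fun c hc h => natDegree_le_of_dvd (minpoly.dvd F f h) hc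
      rcases hker with h | h
      · left
        have hb : aeval f b = 0 := by
          ext v
          have := LinearMap.congr_fun hprod v
          rw [Module.End.mul_apply, LinearMap.zero_apply] at this
          exact LinearMap.ker_eq_bot'.1 h _ this
        have := huu b (right_ne_zero_of_mul hne) hb
        rw [isUnit_iff_degree_eq_zero, degree_eq_natDegree (left_ne_zero_of_mul hne)]
        norm_cast
        omega
      · right
        have ha : aeval f a = 0 := LinearMap.ker_eq_top.1 h
        have := huu a (left_ne_zero_of_mul hne) ha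
        rw [isUnit_iff_degree_eq_zero, degree_eq_natDegree (right_ne_zero_of_mul hne)]
        norm_cast
        omega
    obtain ⟨v, hv⟩ := exists_ne (0 : V)
    have hmin : aeval f (minpoly F f) = 0 := minpoly.aeval F f
    have hmon : (minpoly F f).Monic := minpoly.monic (Algebra.IsIntegral.isIntegral f)
    have hfr : finrank F V = (minpoly F f).natDegree := by
      rw [← finrank_cyc hirr hmin hv,
        hW _ (inv_cyc hmon hirr hmin v) (fun h => hv (by
          have := mem_cyc hmon hirr hmin v (1 : F[X])
          rw [h, map_one, Module.End.one_apply, Submodule.mem_bot] at this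
          exact this)), finrank_top]
    have hcp : f.charpoly = minpoly F f := by
      refine (eq_of_monic_of_dvd_of_natDegree_le hmon (LinearMap.charpoly_monic f)
        (minpoly.dvd F f (LinearMap.aeval_self_charpoly f)) ?_)
      rw [LinearMap.charpoly_natDegree, hfr]
    exact (hcp ▸ hdvd : P ∣ minpoly F f).trans (minpoly.dvd F f hQ)

end Cfsg.Agent.Green
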