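import Cfsg.Agent.Lib.Green.Mobius

/-!
# Endomorphisms keeping a subspace
-/

namespace Cfsg.Agent.Green

open Module Submodule

variable {F : Type*} [Field F] {V U : Type*} [AddCommGroup V] [Module F V] [Finite V]
  [AddCommGroup U] [Module F U] [Finite U]

open scoped Classical in
/-- Summing over the endomorphisms keeping `W` a function of the two diagonal parts. -/
theorem sum_inv {R : Type*} [CommRing R] (W : Submodule F V)
    (Ψ : Module.End F ↥W → Module.End F (V ⧸ W) → R) :
    ∑ f : Module.End F V,
        (if h : Inv f W then Ψ (f.restrict h) (quot f W h) else 0) =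
      (Nat.card ↥(trans W) : R) * ∑ a : Module.End F ↥W, ∑ b : Module.End F (V ⧸ W), Ψ a b := by
  obtain ⟨σ, hσ⟩ := LinearMap.exists_rightInverse_of_surjective W.mkQ W.range_mkQ
  have hσ' : ∀ q, W.mkQ (σ q) = q := fun q => LinearMap.congr_fun hσ q
  have hmem : ∀ v, v - σ (W.mkQ v) ∈ W := fun v => by
    rw [← Submodule.Quotient.mk_eq_zero W, ← Submodule.mkQ_apply, map_sub, hσ', sub_self]
  let p : V →ₗ[F] ↥W := LinearMap.codRestrict W (LinearMap.id - σ ∘ₗ W.mkQ) hmem
  have hpW : ∀ w : ↥W, p w = w := fun w => Subtype.ext (by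
    show (w : V) - σ (W.mkQ w) = w
    rw [show W.mkQ (w : V) = 0 from (Submodule.Quotient.mk_eq_zero W).2 w.2, map_zero, sub_zero])
  let mk : Module.End F ↥W → Module.End F (V ⧸ W) → Module.End F V :=
    fun a b => W.subtype ∘ₗ a ∘ₗ p + σ ∘ₗ b ∘ₗ W.mkQ
  have hmkW : ∀ a b (w : ↥W), mk a b (w : V) = (a w : V) := fun a b w => by
    simp [mk, hpW, (Submodule.Quotient.mk_eq_zero W).2 w.2]
  have hmkQ : ∀ a b v, W.mkQ (mk a b v) = b (W.mkQ v) := fun a b v => by
    simp only [mk, LinearMap.add_apply, LinearMap.comp_apply, map_add, hσ', Submodule.subtype_apply]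
    rw [show W.mkQ ((a (p v) : ↥W) : V) = 0 from (Submodule.Quotient.mk_eq_zero W).2 (a (p v)).2,
      zero_add]
  let Φ : (Module.End F ↥W × Module.End F (V ⧸ W)) × ↥(trans W) → Module.End F V :=
    fun x => mk x.1.1 x.1.2 + (x.2 : Module.End F V)
  have hinvΦ : ∀ x, Inv (Φ x) W := fun x w hw => by
    show mk x.1.1 x.1.2 w + (x.2 : Module.End F V) w ∈ W
    rw [x.2.2.1 w hw, add_zero, show mk x.1.1 x.1.2 w = _ from hmkW _ _ ⟨w, hw⟩]
    exact (x.1.1 _).2
  have hres : ∀ x (h : Inv (Φ x) W), (Φ x).restrict h = x.1.1 ∧ quot (Φ x) W h = x.1.2 := by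
    intro x h
    constructor
    · refine LinearMap.ext fun w => Subtype.ext ?_
      show mk x.1.1 x.1.2 (w : V) + (x.2 : Module.End F V) (w : V) = _
      rw [x.2.2.1 _ w.2, add_zero, hmkW]
    · apply Submodule.linearMap_qext
      ext v
      show W.mkQ (mk x.1.1 x.1.2 v + (x.2 : Module.End F V) v) = x.1.2 (W.mkQ v)
      rw [map_add, hmkQ, mkQ_trans x.2.2, add_zero]
  have hinj : Function.Injective Φ := by
    intro x y hxy
    have h1 := hres x (hinvΦ x)
    have h2 := hres y (hinvΦ y)
    have e1 : x.1.1 = y.1.1 := by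
      rw [← h1.1, ← h2.1]
      exact LinearMap.ext fun w => Subtype.ext (LinearMap.congr_fun hxy (w : V))
    have e2 : x.1.2 = y.1.2 := by
      rw [← h1.2, ← h2.2]
      apply Submodule.linearMap_qext
      ext v
      exact congrArg W.mkQ (LinearMap.congr_fun hxy v)
    refine Prod.ext (Prod.ext e1 e2) (Subtype.ext ?_)
    have h3 : mk x.1.1 x.1.2 + (x.2 : Module.End F V) = mk y.1.1 y.1.2 + y.2 := hxy
    rw [e1, e2] at h3
    exact add_left_cancel h3
  symm
  calc (Nat.card ↥(trans W) : R) * ∑ a : Module.End F ↥W, ∑ b : Module.End F (V ⧸ W), Ψ a b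
      = ∑ x : (Module.End F ↥W × Module.End F (V ⧸ W)) × ↥(trans W), Ψ x.1.1 x.1.2 := by
        rw [Fintype.sum_prod_type, Fintype.sum_prod_type, Finset.mul_sum]
        refine Finset.sum_congr rfl fun a _ => ?_
        rw [Finset.mul_sum]
        refine Finset.sum_congr rfl fun b _ => ?_
        simp only []
        rw [Finset.sum_const, nsmul_eq_mul, Finset.card_univ, ← Nat.card_eq_fintype_card]
    _ = _ := by
        refine Fintype.sum_of_injective Φ hinj _ _ (fun f hf => ?_) fun x => ?_
        · refine dif_neg fun h => hf ⟨((f.restrict h, quot f W h),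
            ⟨f - mk (f.restrict h) (quot f W h), fun w hw => ?_, fun v => ?_⟩), ?_⟩
          · rw [LinearMap.sub_apply, show mk _ _ w = _ from hmkW _ _ ⟨w, hw⟩]
            exact sub_self _
          · rw [LinearMap.sub_apply, ← Submodule.Quotient.mk_eq_zero W, ← Submodule.mkQ_apply,
              map_sub, hmkQ]
            exact sub_self _
          · exact add_sub_cancel _ f
        · obtain ⟨e1, e2⟩ := hres x (hinvΦ x)
          rw [dif_pos (hinvΦ x), e1, e2]

/-- Two subspaces of the same dimension are moved to each other. -/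
theorem exists_equiv_map {W W' : Submodule F V} (h : finrank F W = finrank F W') :
    ∃ e : V ≃ₗ[F] V, W.map (e : V →ₗ[F] V) = W' := by
  haveI : FiniteDimensional F V := Module.Finite.of_finite
  obtain ⟨C, hC⟩ := Submodule.exists_isCompl W
  obtain ⟨C', hC'⟩ := Submodule.exists_isCompl W'
  have h1 := Submodule.finrank_add_eq_of_isCompl hC
  have h2 := Submodule.finrank_add_eq_of_isCompl hC'
  let e : V ≃ₗ[F] V := (Submodule.prodEquivOfIsCompl W C hC).symm ≪≫ₗ
    (LinearEquiv.prodCongr (LinearEquiv.ofFinrankEq _ _ h)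
      (LinearEquiv.ofFinrankEq C C' (by omega))) ≪≫ₗ Submodule.prodEquivOfIsCompl W' C' hC'
  have he : ∀ w : ↥W, e (w : V) = ((LinearEquiv.ofFinrankEq _ _ h) w : V) := fun w => by
    simp [e, Submodule.prodEquivOfIsCompl_symm_apply_left W C hC w]
  refine ⟨e, le_antisymm ?_ fun w' hw' => ?_⟩
  · rintro _ ⟨w, hw, rfl⟩
    rw [show (e : V →ₗ[F] V) w = e w from rfl, he ⟨w, hw⟩]
    exact ((LinearEquiv.ofFinrankEq _ _ h) _).2
  · refine ⟨((LinearEquiv.ofFinrankEq _ _ h).symm ⟨w', hw'⟩ : ↥W), Subtype.prop _, ?_⟩
    show e _ = w'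
    rw [he, LinearEquiv.apply_symm_apply]

/-- The number of automorphisms. -/
noncomputable def glc (F V : Type*) [Field F] [AddCommGroup V] [Module F V] : ℕ :=
  Nat.card (Module.End F V)ˣ

theorem glc_pos : 0 < glc F V := Nat.card_pos

theorem glc_congr (e : V ≃ₗ[F] U) : glc F V = glc F U :=
  Nat.card_congr (Units.mapEquiv e.conjRingEquiv.toMulEquiv).toEquiv

/-- The number of subspaces of a given dimension, times the stabiliser. -/
theorem card_sub_mul (W : Submodule F V) :
    Nat.card {W' : Submodule F V // finrank F W' = finrank F W} *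
        (Nat.card ↥(trans W) * (glc F ↥W * glc F (V ⧸ W))) = glc F V := by
  classical
  haveI : FiniteDimensional F V := Module.Finite.of_finite
  have hstab : Nat.card {g : (Module.End F V)ˣ // Inv (g : Module.End F V) W} =
      Nat.card ↥(trans W) * (glc F ↥W * glc F (V ⧸ W)) := by
    have h := sum_inv (R := ℤ) W fun a b => if IsUnit a ∧ IsUnit b then 1 else 0
    have hU : ∀ {M : Type _} [AddCommGroup M] [Module F M] [Finite M],
        ((Finset.univ.filter fun a : Module.End F M => IsUnit a).card : ℤ) = glc F M := by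
      intro M _ _ _
      norm_cast
      rw [glc, ← Nat.card_eq_finsetCard]
      exact Nat.card_congr
        { toFun := fun f => (Finset.mem_filter.1 f.2).2.unit
          invFun := fun g => ⟨g, Finset.mem_filter.2 ⟨Finset.mem_univ _, g.isUnit⟩⟩
          left_inv := fun f => rfl
          right_inv := fun g => Units.ext rfl }
    have hl : ∑ f : Module.End F V, (if h : Inv f W then
          (if IsUnit (f.restrict h) ∧ IsUnit (quot f W h) then (1 : ℤ) else 0) else 0) =
        (Nat.card {g : (Module.End F V)ˣ // Inv (g : Module.End F V) W} : ℤ) := by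
      have key : ∀ f : Module.End F V, (if h : Inv f W then
          (if IsUnit (f.restrict h) ∧ IsUnit (quot f W h) then (1 : ℤ) else 0) else 0) =
          if IsUnit f ∧ Inv f W then 1 else 0 := by
        intro f
        by_cases h : Inv f W
        · rw [dif_pos h]
          have : (IsUnit (f.restrict h) ∧ IsUnit (quot f W h)) ↔ IsUnit f := by
            simp only [LinearMap.isUnit_iff_isUnit_det]
            rw [LinearMap.det_eq_det_mul_det W f h, IsUnit.mul_iff]
            rfl
          simp only [this, h, and_true]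
        · rw [dif_neg h, if_neg fun hc => h hc.2]
      simp only [key]
      rw [Finset.sum_boole]
      norm_cast
      rw [← Nat.card_eq_finsetCard]
      exact Nat.card_congr
        { toFun := fun f => ⟨(Finset.mem_filter.1 f.2).2.1.unit, (Finset.mem_filter.1 f.2).2.2⟩
          invFun := fun g => ⟨g.1, Finset.mem_filter.2 ⟨Finset.mem_univ _, g.1.isUnit, g.2⟩⟩
          left_inv := fun f => rfl
          right_inv := fun g => Subtype.ext (Units.ext rfl) }
    rw [hl] at h
    have hr : ∀ a : Module.End F ↥W, (∑ b : Module.End F (V ⧸ W),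
        if IsUnit a ∧ IsUnit b then (1 : ℤ) else 0) =
        if IsUnit a then (glc F (V ⧸ W) : ℤ) else 0 := fun a => by
      by_cases ha : IsUnit a
      · simp only [ha, true_and, if_true, Finset.sum_boole]
        exact hU
      · simp [ha]
    simp only [hr] at h
    rw [← Finset.sum_filter, Finset.sum_const, nsmul_eq_mul] at h
    rw [show ((Finset.univ.filter fun a : Module.End F ↥W => IsUnit a).card : ℤ) = glc F ↥W
      from hU] at h
    exact_mod_cast h
  rw [← hstab, glc, ← Nat.card_prod]
  let Φ : (Module.End F V)ˣ → {W' : Submodule F V // finrank F W' = finrank F W} := fun g =>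
    ⟨W.map (g : Module.End F V), (LinearEquiv.finrank_eq (Submodule.equivMapOfInjective _
      ((LinearMap.GeneralLinearGroup.generalLinearEquiv F V g).injective) W)).symm⟩
  have hΦ : ∀ W', ∃ g, Φ g = W' := fun W' => by
    obtain ⟨e, he⟩ := exists_equiv_map W'.2.symm
    exact ⟨(LinearMap.GeneralLinearGroup.generalLinearEquiv F V).symm e, Subtype.ext he⟩
  choose sInv hsInv using hΦ
  have hcomp : ∀ g h : (Module.End F V)ˣ,
      W.map ((g * h : (Module.End F V)ˣ) : Module.End F V) =
        (W.map (h : Module.End F V)).map (g : Module.End F V) := fun g h => by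
    rw [← Submodule.map_comp]
    rfl
  have hstabMap : ∀ g : (Module.End F V)ˣ, Inv (g : Module.End F V) W ↔
      W.map (g : Module.End F V) = W := by
    intro g
    constructor
    · intro hg
      refine Submodule.eq_of_le_of_finrank_eq ?_ (LinearEquiv.finrank_eq
        (Submodule.equivMapOfInjective _
          ((LinearMap.GeneralLinearGroup.generalLinearEquiv F V g).injective) W)).symm
      rintro _ ⟨w, hw, rfl⟩
      exact hg w hw
    · intro hg w hw
      exact hg ▸ Submodule.mem_map_of_mem hw
  refine Nat.card_congr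
    { toFun := fun x => sInv x.1 * x.2.1
      invFun := fun g => (Φ g, ⟨(sInv (Φ g))⁻¹ * g, ?_⟩)
      left_inv := ?_
      right_inv := fun g => mul_inv_cancel_left _ _ }
  · rw [hstabMap, hcomp, show W.map (g : Module.End F V) = (Φ g).1 from rfl]
    have h1 : W.map (sInv (Φ g) : Module.End F V) = (Φ g).1 :=
      congrArg Subtype.val (hsInv (Φ g))
    rw [← h1, ← hcomp, inv_mul_cancel]
    exact Submodule.map_id W
  · intro x
    have hx : Φ (sInv x.1 * x.2.1) = x.1 := by
      apply Subtype.ext
      show W.map _ = _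
      rw [hcomp, (hstabMap _).1 x.2.2]
      exact congrArg Subtype.val (hsInv x.1)
    refine Prod.ext hx (Subtype.ext ?_)
    show (sInv (Φ _))⁻¹ * _ = _
    rw [hx, inv_mul_cancel_left]

end Cfsg.Agent.Green
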