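import Cfsg.Agent.Lib.Green.Spectrum
import Cfsg.Agent.Lib.Characters.Artin
import Cfsg.Agent.BlockCharsA.RegularPart

/-!
# Brauer's lift

For a representation of a finite group over a finite field `K` and an injective homomorphism
`ι : Kˣ →* ℂˣ`, the sum of `ι` over the eigenvalues is a generalised character, when the regular
elements of the group act with eigenvalues in `K`.
-/

namespace Cfsg.Agent.Green

open Module Submodule
open scoped ComplexConjugate

universe u

variable {K : Type*} [Field K]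

open scoped Classical in
/-- A homomorphism of the units, as a function on the field. -/
noncomputable def ext0 (ι : Kˣ →* ℂˣ) (x : K) : ℂ :=
  if h : x = 0 then 0 else (ι (Units.mk0 x h) : ℂ)

theorem ext0_units (ι : Kˣ →* ℂˣ) (x : Kˣ) : ext0 ι (x : K) = (ι x : ℂ) := by
  rw [ext0, dif_neg x.ne_zero, Units.mk0_val]

theorem sum_linear {Q : Type*} [Group Q] [Fintype Q] (lam : Q →* ℂˣ) :
    ∃ z : ℤ, ∑ v : Q, (lam v : ℂ) = (Nat.card Q : ℂ) * z := by
  by_cases h : ∀ v, lam v = 1
  · exact ⟨1, by simp [h, Nat.card_eq_fintype_card]⟩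
  · push Not at h
    obtain ⟨w, hw⟩ := h
    refine ⟨0, ?_⟩
    have e : (lam w : ℂ) * ∑ v : Q, (lam v : ℂ) = ∑ v : Q, (lam v : ℂ) := by
      rw [Finset.mul_sum]
      exact Fintype.sum_equiv (Equiv.mulLeft w) _ _ fun v => by
        rw [Equiv.coe_mulLeft, map_mul, Units.val_mul]
    have hne : (lam w : ℂ) - 1 ≠ 0 := sub_ne_zero.2 fun h' => hw (Units.ext h')
    rw [Int.cast_zero, mul_zero]
    refine (mul_eq_zero.1 ?_).resolve_left hne
    rw [sub_mul, one_mul, e, sub_self]

section Regular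

variable [Fintype K]

theorem eig_conj {U : Type*} [AddCommGroup U] [Module K U] {s s' x : Module.End K U}
    (hx : Function.Bijective x) (h : s' * x = x * s) (β : K) :
    (eig s β).map x = eig s' β := by
  apply le_antisymm
  · rintro _ ⟨v, hv, rfl⟩
    rw [mem_eig, ← Module.End.mul_apply, h, Module.End.mul_apply, mem_eig.1 hv, map_smul]
  · intro v hv
    obtain ⟨w, rfl⟩ := hx.2 v
    refine ⟨w, mem_eig.2 (hx.1 ?_), rfl⟩
    rw [← Module.End.mul_apply, ← h, Module.End.mul_apply, mem_eig.1 hv, map_smul]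

theorem sum_regular (ι : Kˣ →* ℂˣ) (hι : Function.Injective ι) :
    ∀ (m : ℕ) {R : Type u} [Group R] [Fintype R] [Group.IsNilpotent R] {U : Type*}
      [AddCommGroup U] [Module K U] [FiniteDimensional K U] (ρ : R →* Module.End K U)
      (_ : ∀ r, ρ r ^ (Fintype.card K - 1) = 1) (lam : R →* ℂˣ), finrank K U ≤ m →
      ∃ z : ℤ, ∑ r : R, Lval (ext0 ι) (ρ r) * (lam r : ℂ) = (Nat.card R : ℂ) * z := by
  classical
  intro m
  induction m using Nat.strong_induction_on with
  | _ m ih =>
  intro R _ _ _ U _ _ _ ρ hρ lam hm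
  rcases subsingleton_or_nontrivial U with hU | hU
  · exact ⟨0, by simp [Lval_subsingleton]⟩
  have hN : 0 < Fintype.card K - 1 := card_sub_one_pos
  have hbij : ∀ r, Function.Bijective (ρ r) := fun r => by
    refine Function.bijective_iff_has_inverse.2 ⟨ρ r⁻¹, fun v => ?_, fun v => ?_⟩ <;>
      rw [← Module.End.mul_apply, ← map_mul] <;> simp
  have huniq : ∀ {f : Module.End K U}, Function.Bijective f → ∀ {c d : Kˣ},
      (c : K) • f = (d : K) • f → c = d := by
    intro f hf c d h
    obtain ⟨v, hv⟩ := exists_ne (0 : U)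
    have h1 := LinearMap.congr_fun h v
    simp only [LinearMap.smul_apply] at h1
    have h2 : f v ≠ 0 := fun h0 => hv (hf.1 (h0.trans (map_zero f).symm))
    exact Units.ext (smul_left_injective K h2 h1)
  -- the scalar elements
  let H : Subgroup R :=
    { carrier := {r | ∃ c : Kˣ, ρ r = (c : K) • 1}
      one_mem' := ⟨1, by simp⟩
      mul_mem' := fun {a b} ⟨c, hc⟩ ⟨d, hd⟩ => ⟨c * d, by
        rw [map_mul, hc, hd, Units.val_mul, smul_mul_assoc, one_mul, smul_smul]⟩
      inv_mem' := fun {a} ⟨c, hc⟩ => ⟨c⁻¹, by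
        have h1 : ρ a⁻¹ * ρ a = 1 := by rw [← map_mul, inv_mul_cancel, map_one]
        rw [hc, mul_smul_comm, mul_one] at h1
        rw [← h1, smul_smul, ← Units.val_mul, inv_mul_cancel, Units.val_one, one_smul]⟩ }
  by_cases hH : H = ⊤
  · have hsc : ∀ r, ∃ c : Kˣ, ρ r = (c : K) • 1 := fun r => hH.ge (Subgroup.mem_top r)
    choose c hc using hsc
    have h1bij : Function.Bijective (1 : Module.End K U) := Function.bijective_id
    let cH : R →* Kˣ :=
      { toFun := c
        map_one' := huniq h1bij (by rw [← hc, map_one, Units.val_one, one_smul])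
        map_mul' := fun a b => huniq h1bij (by
          rw [← hc, map_mul, hc, hc, Units.val_mul, smul_mul_assoc, one_mul, smul_smul]) }
    have hL : ∀ r, Lval (ext0 ι) (ρ r) = (finrank K U : ℂ) * (ι (c r) : ℂ) := by
      intro r
      rw [Lval_eq_sum_eig _ (hρ r), Finset.sum_eq_single (c r)]
      · rw [ext0_units, show eig (ρ r) (c r : K) = ⊤ from eq_top_iff.2 fun v _ => mem_eig.2 (by
          rw [hc]; simp), finrank_top]
      · intro α _ hne
        rw [show eig (ρ r) (α : K) = ⊥ from eq_bot_iff.2 fun v hv => ?_, finrank_bot, Nat.cast_zero,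
          zero_mul]
        rw [mem_eig, hc] at hv
        simp only [LinearMap.smul_apply, Module.End.one_apply] at hv
        rw [Submodule.mem_bot]
        by_contra hv0
        exact hne (Units.ext (smul_left_injective K hv0 hv).symm)
      · exact fun h => absurd (Finset.mem_univ _) h
    obtain ⟨z, hz⟩ := sum_linear ((ι.comp cH) * lam)
    refine ⟨(finrank K U : ℤ) * z, ?_⟩
    simp only [hL, mul_assoc, ← Finset.mul_sum]
    have : ∑ r : R, (ι (c r) : ℂ) * (lam r : ℂ) = (Nat.card R : ℂ) * z := by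
      rw [← hz]
      exact Finset.sum_congr rfl fun r _ => rfl
    rw [this]
    push_cast
    ring
  -- an element central modulo the scalars
  haveI hHn : H.Normal := ⟨fun h hh g => by
    obtain ⟨c, hc⟩ := hh
    refine ⟨c, ?_⟩
    rw [map_mul, map_mul, hc, mul_smul_comm, mul_one, smul_mul_assoc, ← map_mul, mul_inv_cancel,
      map_one]⟩
  haveI : Nontrivial (R ⧸ H) := QuotientGroup.nontrivial_iff.2 hH
  obtain ⟨z₀, hz₀, hz₁⟩ := (Subgroup.center (R ⧸ H)).ne_bot_iff_exists_ne_one.1
    (Group.IsNilpotent.center_ne_bot (G := R ⧸ H)) |> fun ⟨z, hz⟩ =>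
      (⟨(z : R ⧸ H), z.2, fun h => hz (Subtype.ext h)⟩ : ∃ z₀, z₀ ∈ Subgroup.center (R ⧸ H) ∧
        z₀ ≠ 1)
  obtain ⟨a, rfl⟩ := QuotientGroup.mk_surjective z₀
  have haH : a ∉ H := fun h => hz₁ ((QuotientGroup.eq_one_iff a).2 h)
  have hcomm : ∀ r : R, ∃ c : Kˣ, ρ r * ρ a = (c : K) • (ρ a * ρ r) := by
    intro r
    have h1 := Subgroup.mem_center_iff.1 hz₀ (QuotientGroup.mk r)
    rw [← QuotientGroup.mk_mul, ← QuotientGroup.mk_mul, QuotientGroup.eq] at h1
    obtain ⟨c, hc⟩ := h1
    refine ⟨c⁻¹, ?_⟩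
    have h2 : ρ (a * r) = (c : K) • ρ (r * a) := by
      rw [show a * r = (r * a) * ((r * a)⁻¹ * (a * r)) by group, map_mul, hc, mul_smul_comm,
        mul_one]
    rw [← map_mul, ← map_mul, h2, smul_smul, ← Units.val_mul, inv_mul_cancel, Units.val_one,
      one_smul]
  choose c hc using hcomm
  have hcH : ∀ x y, c (x * y) = c x * c y := fun x y => huniq (hbij (a * (x * y))) (by
    rw [map_mul, ← hc, map_mul, mul_assoc, hc, mul_smul_comm, ← mul_assoc, hc, smul_mul_assoc,
      smul_smul, Units.val_mul, mul_comm (c x : K), mul_assoc])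
  let cH : R →* Kˣ := MonoidHom.mk' c hcH
  set S : Subgroup R := cH.ker with hS
  -- off `S` the eigenvalue sum vanishes
  have hzero : ∀ r, r ∉ S → Lval (ext0 ι) (ρ r) = 0 := by
    intro r hr
    have hc1 : c r ≠ 1 := fun h => hr (MonoidHom.mem_ker.2 h)
    have h1 : ρ r * ρ a = ρ a * ((c r : K) • ρ r) := by rw [hc r, mul_smul_comm]
    have heig : ∀ β : Kˣ, finrank K (eig (ρ r) ((c r * β : Kˣ) : K)) =
        finrank K (eig (ρ r) (β : K)) := by
      intro β
      have hs : eig ((c r : K) • ρ r) ((c r * β : Kˣ) : K) = eig (ρ r) (β : K) := by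
        ext v
        simp only [mem_eig, LinearMap.smul_apply, Units.val_mul, ← smul_smul]
        exact (smul_right_injective U (c r).ne_zero).eq_iff
      rw [← eig_conj (hbij a) h1, hs]
      exact LinearEquiv.finrank_eq (Submodule.equivMapOfInjective _ (hbij a).1 _).symm
    rw [Lval_eq_sum_eig _ (hρ r)]
    set T := ∑ α : Kˣ, (finrank K (eig (ρ r) (α : K)) : ℂ) * ext0 ι (α : K)
    have h2 : T = (ι (c r) : ℂ) * T := by
      simp only [T, Finset.mul_sum]
      rw [← Equiv.sum_comp (Equiv.mulLeft (c r))]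
      refine Finset.sum_congr rfl fun β _ => ?_
      rw [Equiv.coe_mulLeft, heig, ext0_units, ext0_units, map_mul, Units.val_mul]
      ring
    have hne : (1 : ℂ) - (ι (c r) : ℂ) ≠ 0 := sub_ne_zero.2 fun h =>
      hc1 (hι (by rw [map_one]; exact Units.ext h.symm))
    refine (mul_eq_zero.1 ?_).resolve_left hne
    rw [sub_mul, one_mul, ← h2, sub_self]
  -- the eigenspaces of `a`
  set E : Kˣ → Submodule K U := fun α => eig (ρ a) (α : K) with hE
  have hSE : ∀ (s : ↥S) (α : Kˣ), Inv (ρ s) (E α) := by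
    intro s α v hv
    have h1 : c s = 1 := MonoidHom.mem_ker.1 s.2
    have h2 := hc s
    rw [h1, Units.val_one, one_smul] at h2
    rw [hE, mem_eig, ← Module.End.mul_apply, ← h2, Module.End.mul_apply, mem_eig.1 hv, map_smul]
  have hlt : ∀ α, finrank K (E α) < finrank K U := by
    intro α
    refine Submodule.finrank_lt fun h => haH ⟨α, LinearMap.ext fun v => ?_⟩
    exact mem_eig.1 (h.ge (Submodule.mem_top : v ∈ ⊤))
  let M : Kˣ → R → ℂ := fun α s =>
    ∑ β : Kˣ, (finrank K ↥(E α ⊓ eig (ρ s) (β : K)) : ℂ) * ext0 ι (β : K)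
  have hM : ∀ s ∈ S, Lval (ext0 ι) (ρ s) = ∑ α : Kˣ, M α s := by
    intro s hs
    rw [Lval_eq_sum_eig _ (hρ s)]
    simp only [M]
    rw [Finset.sum_comm]
    refine Finset.sum_congr rfl fun β _ => ?_
    rw [← Finset.sum_mul, ← Nat.cast_sum]
    congr 2
    have hinv : Inv (ρ a) (eig (ρ s) (β : K)) := by
      intro v hv
      have h1 : c s = 1 := MonoidHom.mem_ker.1 hs
      have h2 := hc s
      rw [h1, Units.val_one, one_smul] at h2
      rw [mem_eig, ← Module.End.mul_apply, h2, Module.End.mul_apply, mem_eig.1 hv, map_smul]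
    rw [finrank_eq_sum_eig (hρ a) hinv]
    exact Finset.sum_congr rfl fun α _ => by rw [inf_comm]
  have hz : ∀ α, ∃ z : ℤ, ∑ s : ↥S, M α s * (lam s : ℂ) = (Nat.card ↥S : ℂ) * z := by
    intro α
    let ρα : ↥S →* Module.End K ↥(E α) :=
      { toFun := fun s => (ρ (s : R)).restrict (hSE s α)
        map_one' := LinearMap.ext fun v => Subtype.ext (by simp)
        map_mul' := fun x y => LinearMap.ext fun v => Subtype.ext (by
          show ρ ((x : R) * (y : R)) (v : U) = ρ (x : R) (ρ (y : R) (v : U))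
          rw [map_mul]
          rfl) }
    have hρα : ∀ s, ρα s ^ (Fintype.card K - 1) = 1 := fun s => by
      apply LinearMap.ext
      intro v
      apply Subtype.ext
      rw [← map_pow]
      show ρ ((s : R) ^ _) (v : U) = _
      rw [map_pow, hρ]
      rfl
    obtain ⟨z, hz⟩ := ih _ (lt_of_lt_of_le (hlt α) hm) ρα hρα (lam.comp S.subtype) le_rfl
    refine ⟨z, ?_⟩
    rw [← hz]
    refine Finset.sum_congr rfl fun s _ => ?_
    rw [Lval_eq_sum_eig _ (hρα s)]
    congr 1
    refine Finset.sum_congr rfl fun β _ => ?_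
    congr 2
    have : (eig (ρα s) (β : K)).map (E α).subtype = E α ⊓ eig (ρ (s : R)) (β : K) := by
      ext v
      constructor
      · rintro ⟨w, hw, rfl⟩
        exact ⟨w.2, mem_eig.2 (congrArg Subtype.val (mem_eig.1 hw))⟩
      · rintro ⟨hv, hv'⟩
        exact ⟨⟨v, hv⟩, mem_eig.2 (Subtype.ext (mem_eig.1 hv')), rfl⟩
    rw [← this, ← LinearEquiv.finrank_eq (Submodule.equivMapOfInjective _
      (E α).injective_subtype _)]
  choose z hz using hz
  have hzinv' : ∀ (r : R) (α : Kˣ), z (c r⁻¹ * α) = z α := by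
    intro r α
    have hEmap : (E α).map (ρ r) = E (c r⁻¹ * α) := by
      have hci : (c r⁻¹ : K) * (c r : K) = 1 := by
        rw [← Units.val_mul, show c r⁻¹ * c r = cH (r⁻¹ * r) from (hcH _ _).symm, inv_mul_cancel,
          map_one, Units.val_one]
      have h2' : ∀ v, ρ a (ρ r v) = (c r⁻¹ : K) • ρ r (ρ a v) := fun v => by
        have h2 := LinearMap.congr_fun (hc r) v
        simp only [Module.End.mul_apply, LinearMap.smul_apply] at h2
        rw [h2, smul_smul, hci, one_smul]
      apply le_antisymm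
      · rintro _ ⟨v, hv, rfl⟩
        rw [hE, mem_eig, h2', mem_eig.1 hv, map_smul, smul_smul, Units.val_mul]
      · intro w hw
        obtain ⟨v, rfl⟩ := (hbij r).2 w
        refine ⟨v, mem_eig.2 ((hbij r).1 (smul_right_injective U (c r⁻¹).ne_zero ?_)), rfl⟩
        show (c r⁻¹ : K) • ρ r (ρ a v) = (c r⁻¹ : K) • ρ r ((α : K) • v)
        rw [← h2', mem_eig.1 hw, Units.val_mul, map_smul, smul_smul]
    have hmem : ∀ s : ↥S, r * (s : R) * r⁻¹ ∈ S := fun s =>
      (inferInstance : S.Normal).conj_mem _ s.2 r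
    let conjS : ↥S → ↥S := fun s => ⟨r * (s : R) * r⁻¹, hmem s⟩
    have hconj : Function.Bijective conjS := Finite.injective_iff_bijective.1 fun x y h => by
      simpa [conjS] using h
    have : ∑ s : ↥S, M (c r⁻¹ * α) s * (lam s : ℂ) = ∑ s : ↥S, M α s * (lam s : ℂ) := by
      symm
      refine Fintype.sum_bijective conjS hconj _ _ fun s => ?_
      have hl : (lam (r * (s : R) * r⁻¹) : ℂ) = lam (s : R) := by
        rw [map_mul, map_mul, mul_comm, ← mul_assoc, map_inv, inv_mul_cancel, one_mul]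
      show _ = M (c r⁻¹ * α) (r * (s : R) * r⁻¹) * _
      rw [hl]
      congr 1
      refine Finset.sum_congr rfl fun β _ => ?_
      congr 2
      have hsr : ρ (r * (s : R) * r⁻¹) * ρ r = ρ r * ρ (s : R) := by
        rw [← map_mul, ← map_mul, inv_mul_cancel_right]
      conv_rhs => rw [← hEmap, ← eig_conj (hbij r) hsr, ← Submodule.map_inf _ (hbij r).1]
      exact LinearEquiv.finrank_eq (Submodule.equivMapOfInjective _ (hbij r).1 _)
    rw [hz, hz] at this
    exact_mod_cast mul_left_cancel₀ (Nat.cast_ne_zero.2 Nat.card_pos.ne') this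
  have hzinv : ∀ (r : R) (α : Kˣ), z (c r * α) = z α := fun r α => by
    simpa using hzinv' r⁻¹ α
  set C : Subgroup Kˣ := cH.range
  have hconst : ∀ α (x : Kˣ), x ∈ C → z (α * x) = z α := by
    rintro α _ ⟨r, rfl⟩
    rw [mul_comm]
    exact hzinv r α
  refine ⟨∑ q : Kˣ ⧸ C, z q.out, ?_⟩
  have hsum : ∑ α : Kˣ, z α = (Nat.card ↥C : ℤ) * ∑ q : Kˣ ⧸ C, z q.out := by
    rw [← Finset.sum_fiberwise Finset.univ (fun α : Kˣ => (α : Kˣ ⧸ C)), Finset.mul_sum]
    refine Finset.sum_congr rfl fun q _ => ?_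
    rw [Finset.sum_congr rfl (g := fun _ => z q.out) fun α hα => ?_, Finset.sum_const,
      nsmul_eq_mul]
    · congr 1
      norm_cast
      rw [← Nat.card_eq_finsetCard]
      refine Nat.card_congr ((Equiv.subtypeEquivRight fun x => ?_).trans
        ((QuotientGroup.preimageMkEquivSubgroupProdSet C {q}).trans (Equiv.prodUnique _ _)))
      simp
    · obtain ⟨-, hα⟩ := Finset.mem_filter.1 hα
      subst hα
      obtain ⟨x, hx⟩ := QuotientGroup.mk_out_eq_mul C α
      rw [hx, hconst α _ x.2]
  have hcard : (Nat.card ↥S : ℂ) * (Nat.card ↥C : ℂ) = (Nat.card R : ℂ) := by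
    rw [← Nat.cast_mul, ← Subgroup.index_ker cH, hS, Subgroup.card_mul_index]
  calc ∑ r : R, Lval (ext0 ι) (ρ r) * (lam r : ℂ)
      = ∑ s : ↥S, Lval (ext0 ι) (ρ s) * (lam s : ℂ) := by
        symm
        refine Fintype.sum_of_injective (Subtype.val : ↥S → R) Subtype.val_injective _ _
          (fun r hr => ?_) fun s => rfl
        rw [hzero r fun h => hr ⟨⟨r, h⟩, rfl⟩, zero_mul]
    _ = ∑ α : Kˣ, ∑ s : ↥S, M α s * (lam s : ℂ) := by
        rw [Finset.sum_comm]
        exact Finset.sum_congr rfl fun s _ => by rw [hM s s.2, Finset.sum_mul]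
    _ = (Nat.card ↥S : ℂ) * ((∑ α : Kˣ, z α : ℤ) : ℂ) := by
        rw [Int.cast_sum, Finset.mul_sum]
        exact Finset.sum_congr rfl fun α _ => hz α
    _ = _ := by
        rw [hsum, Int.cast_mul, ← mul_assoc, Int.cast_natCast, hcard]

end Regular

/-- A commuting unipotent factor does not change the eigenvalue sum. -/
theorem Lval_mul_unipotent (ι : K → ℂ) : ∀ (m : ℕ) {U : Type*} [AddCommGroup U] [Module K U]
    [FiniteDimensional K U] (r v : Module.End K U), finrank K U ≤ m → Commute r v →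
    IsNilpotent (v - 1) → Lval ι (r * v) = Lval ι r := by
  intro m
  induction m using Nat.strong_induction_on with
  | _ m ih =>
  intro U _ _ _ r v hm hcomm hv
  rcases subsingleton_or_nontrivial U with hU | hU
  · simp [Lval_subsingleton]
  set W := LinearMap.ker (v - 1)
  have hWne : W ≠ ⊥ := by
    intro h
    obtain ⟨k, hk⟩ := hv
    have hinj : Function.Injective ⇑((v - 1) ^ k) := by
      rw [Module.End.coe_pow]
      exact (LinearMap.ker_eq_bot.1 h).iterate k
    obtain ⟨x, hx⟩ := exists_ne (0 : U)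
    exact hx (hinj (by simp [hk]))
  have hmem : ∀ x ∈ W, v x = x := fun x hx => sub_eq_zero.1 (LinearMap.mem_ker.1 hx)
  have hr : Inv r W := fun x hx => by
    rw [LinearMap.mem_ker, LinearMap.sub_apply, Module.End.one_apply, ← Module.End.mul_apply,
      ← hcomm.eq, Module.End.mul_apply, hmem x hx, sub_self]
  have hvW : Inv v W := fun x hx => by rw [hmem x hx]; exact hx
  have hrv : Inv (r * v) W := fun x hx => hr _ (hvW x hx)
  rw [Lval_add ι (r * v) W hrv, Lval_add ι r W hr,
    show (r * v).restrict hrv = r.restrict hr from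
      LinearMap.ext fun x => Subtype.ext (show r (v (x : U)) = r (x : U) by rw [hmem _ x.2])]
  congr 1
  have hq : quot (r * v) W hrv = quot r W hr * quot v W hvW := by
    apply Submodule.linearMap_qext
    ext x
    rfl
  rw [hq]
  have hlt : finrank K (U ⧸ W) < m := by
    have h1 := W.finrank_quotient_add_finrank
    have h2 : 0 < finrank K W :=
      Nat.pos_of_ne_zero fun h => hWne (Submodule.finrank_eq_zero.1 h)
    omega
  refine ih _ hlt _ _ le_rfl ?_ ?_
  · apply Submodule.linearMap_qext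
    ext x
    exact congrArg W.mkQ (LinearMap.congr_fun hcomm.eq x)
  · obtain ⟨k, hk⟩ := hv
    refine ⟨k, ?_⟩
    have hpow : ∀ (j : ℕ) (x : U), ((quot v W hvW - 1) ^ j) (W.mkQ x) = W.mkQ (((v - 1) ^ j) x) := by
      intro j
      induction j with
      | zero => intro x; rfl
      | succ j ihj =>
        intro x
        rw [pow_succ, pow_succ, Module.End.mul_apply, Module.End.mul_apply, LinearMap.sub_apply,
          Module.End.one_apply, quot_mk, ← map_sub, ihj]
        rfl
    apply Submodule.linearMap_qext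
    ext x
    simp only [LinearMap.comp_apply, hpow, hk, LinearMap.zero_apply, map_zero]

open Cfsg.Agent.Characters Cfsg.Agent.Characters.Artin in
/-- Brauer's lift is a generalised character. -/
theorem isGen_Lval [Fintype K] {p : ℕ} (hp : p.Prime) [CharP K p] (ι : Kˣ →* ℂˣ)
    (hι : Function.Injective ι) {G : Type u} [Group G] [Fintype G] {U : Type*}
    [AddCommGroup U] [Module K U] [FiniteDimensional K U] (ρ : G →* Module.End K U)
    (hreg : ∀ g, ¬ p ∣ orderOf g → ρ g ^ (Fintype.card K - 1) = 1) :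
    Cfsg.IsGeneralizedCharacter G (fun g => Lval (ext0 ι) (ρ g)) := by
  classical
  haveI := Fact.mk hp
  have hcf : Cfsg.IsClassFunction G (fun g => Lval (ext0 ι) (ρ g)) := by
    intro g h
    let e : U ≃ₗ[K] U := LinearEquiv.ofLinear (ρ h) (ρ h⁻¹)
      (by rw [← Module.End.mul_eq_comp, ← map_mul, mul_inv_cancel, map_one]; rfl)
      (by rw [← Module.End.mul_eq_comp, ← map_mul, inv_mul_cancel, map_one]; rfl)
    refine Lval_conj _ e fun u => ?_
    show ρ h (ρ g u) = ρ (h * g * h⁻¹) (ρ h u)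
    rw [← Module.End.mul_apply, ← Module.End.mul_apply, ← map_mul, ← map_mul]
    group
  refine isGen_of_classInner_int hcf fun χ hχ => ?_
  suffices ∀ φ ∈ linSpan (fun E : Subgroup G => ∃ q : ℕ, q.Prime ∧ Cfsg.IsElementary q E),
      ∃ z : ℤ, Cfsg.classInner (fun g => Lval (ext0 ι) (ρ g)) φ = (z : ℂ) from
    this χ (brauer_induction (isCharacter_of_isIrr hχ))
  intro φ hφ
  induction hφ using AddSubgroup.closure_induction with
  | zero => exact ⟨0, by simp [classInner_def]⟩
  | add a b _ _ iha ihb =>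
    obtain ⟨x, hx⟩ := iha
    obtain ⟨y, hy⟩ := ihb
    exact ⟨x + y, by
      rw [Int.cast_add, ← hx, ← hy]
      simp [classInner_def, mul_add, Finset.sum_add_distrib]⟩
  | neg a _ iha =>
    obtain ⟨x, hx⟩ := iha
    exact ⟨-x, by rw [Int.cast_neg, ← hx]; simp [classInner_def]⟩
  | mem φ hφ =>
    obtain ⟨E, lam, ⟨q, hq, hE⟩, rfl⟩ := hφ
    haveI := Fintype.ofFinite E
    rw [frobenius_reciprocity' E _ hcf]
    haveI := isNilpotent_of_isElementary hq hE
    obtain ⟨R, hRn, hR, -⟩ := BlockCharsA.RegularPart.exists_regular_subgroup (G := ↥E) hp hq hE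
    obtain ⟨P⟩ : Nonempty (Sylow p E) := inferInstance
    have hPn : (P : Subgroup E).Normal :=
      P.normal_of_normalizerCondition Group.normalizerCondition_of_isNilpotent
    haveI := Fintype.ofFinite R
    haveI := Fintype.ofFinite (P : Subgroup E)
    have hdisj : Disjoint R (P : Subgroup E) := by
      rw [Subgroup.disjoint_def]
      intro x hxR hxP
      obtain ⟨k, hk⟩ := IsPGroup.iff_orderOf.1 P.isPGroup' ⟨x, hxP⟩
      rw [Subgroup.orderOf_mk] at hk
      rcases k with _ | k
      · rwa [pow_zero, orderOf_eq_one_iff] at hk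
      · exact absurd (hk ▸ dvd_pow_self p (Nat.succ_ne_zero k)) ((hR x).1 hxR)
    have hsurj : ∀ e : E, ∃ x : R × (P : Subgroup E), (x.1 : E) * (x.2 : E) = e := by
      intro e
      set b := p ^ (orderOf e).factorization p
      set m := orderOf e / b
      have hbm : Nat.Coprime b m := Nat.Coprime.pow_left _
        ((hp.coprime_iff_not_dvd).2 (Nat.not_dvd_ordCompl hp (orderOf_pos e).ne'))
      obtain ⟨j, hj0, hj1⟩ := Nat.chineseRemainder hbm 0 1
      obtain ⟨i, hi0, hi1⟩ := Nat.chineseRemainder hbm 1 0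
      have hmul : b * m = orderOf e := Nat.ordProj_mul_ordCompl_eq_self _ _
      have hr : e ^ j ∈ R := by
        rw [hR]
        intro hd
        refine Nat.not_dvd_ordCompl hp (orderOf_pos e).ne' (hd.trans
          (orderOf_dvd_of_pow_eq_one ?_))
        obtain ⟨k, hk⟩ := Nat.modEq_zero_iff_dvd.1 hj0
        rw [← pow_mul, hk, show b * k * m = orderOf e * k by rw [← hmul]; ring, pow_mul,
          pow_orderOf_eq_one, one_pow]
      have hu : e ^ i ∈ (P : Subgroup E) := by
        haveI := hPn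
        suffices hZ : IsPGroup p (Subgroup.zpowers (e ^ i)) by
          have := P.is_maximal' (P.isPGroup'.to_sup_of_normal_left hZ) le_sup_left
          exact this ▸ Subgroup.mem_sup_right (Subgroup.mem_zpowers _)
        refine IsPGroup.of_card (n := (orderOf (e ^ i)).factorization p) ?_
        rw [Nat.card_zpowers]
        have hdvd : orderOf (e ^ i) ∣ b := orderOf_dvd_of_pow_eq_one (by
          obtain ⟨k, hk⟩ := Nat.modEq_zero_iff_dvd.1 hi1
          rw [← pow_mul, hk, show m * k * b = orderOf e * k by rw [← hmul]; ring, pow_mul,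
            pow_orderOf_eq_one, one_pow])
        obtain ⟨k, -, hk⟩ := (Nat.dvd_prime_pow hp).1 hdvd
        rw [hk, hp.factorization_pow, Finsupp.single_eq_same]
      refine ⟨(⟨_, hr⟩, ⟨_, hu⟩), ?_⟩
      show e ^ j * e ^ i = e
      rw [← pow_add]
      conv_rhs => rw [← pow_one e]
      refine pow_eq_pow_iff_modEq.2 ?_
      rw [← hmul]
      refine (Nat.modEq_and_modEq_iff_modEq_mul hbm).1 ⟨?_, ?_⟩
      · simpa using hj0.add hi0
      · simpa using hj1.add hi1
    have hbij : Function.Bijective fun x : R × (P : Subgroup E) => (x.1 : E) * (x.2 : E) := by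
      refine ⟨fun x y h => ?_, hsurj⟩
      have h' : (y.1 : E)⁻¹ * x.1 = (y.2 : E) * (x.2 : E)⁻¹ := by
        have h2 : (x.1 : E) * x.2 = y.1 * y.2 := h
        rw [eq_mul_inv_iff_mul_eq, mul_assoc, h2, inv_mul_cancel_left]
      have h1 := Subgroup.disjoint_def.1 hdisj (mul_mem (inv_mem y.1.2) x.1.2)
        (h' ▸ mul_mem y.2.2 (inv_mem x.2.2))
      refine Prod.ext (Subtype.ext (inv_mul_eq_one.1 h1).symm) (Subtype.ext ?_)
      rw [h', mul_inv_eq_one] at h1
      exact h1.symm
    let lam' : E →* ℂˣ := (Units.map (starRingEnd ℂ : ℂ →* ℂ)).comp lam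
    have hL : ∀ (r : R) (u : (P : Subgroup E)),
        Lval (ext0 ι) (ρ (((r : E) * (u : E) : E) : G)) = Lval (ext0 ι) (ρ ((r : E) : G)) := by
      intro r u
      have hcomm : Commute ((r : E) : G) ((u : E) : G) :=
        (Subgroup.commute_of_normal_of_disjoint R P hRn hPn hdisj r u r.2 u.2).map E.subtype
      rw [Subgroup.coe_mul, map_mul]
      refine Lval_mul_unipotent _ _ _ _ le_rfl (hcomm.map ρ) ?_
      obtain ⟨k, hk⟩ := IsPGroup.iff_orderOf.1 P.isPGroup' u
      refine ⟨p ^ k, ?_⟩
      rcases subsingleton_or_nontrivial U with hU | hU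
      · exact Subsingleton.elim _ _
      haveI : CharP (Module.End K U) p :=
        charP_of_injective_algebraMap (FaithfulSMul.algebraMap_injective K _) p
      rw [sub_pow_char_pow_of_commute (p := p) (h := Commute.one_right _), one_pow, ← map_pow,
        ← SubmonoidClass.coe_pow, ← SubmonoidClass.coe_pow, ← hk, pow_orderOf_eq_one]
      simp
    haveI : Group.IsNilpotent R := inferInstance
    obtain ⟨z₁, hz₁⟩ := sum_regular ι hι _ ((ρ.comp E.subtype).comp R.subtype)
      (fun r => hreg _ (by rw [Subgroup.coe_subtype, Subgroup.orderOf_coe]; exact (hR _).1 r.2))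
      (lam'.comp R.subtype) le_rfl
    obtain ⟨z₂, hz₂⟩ := sum_linear (lam'.comp (P : Subgroup E).subtype)
    have hcard : Nat.card E = Nat.card R * Nat.card (P : Subgroup E) := by
      rw [← Nat.card_prod]
      exact (Nat.card_congr (Equiv.ofBijective _ hbij)).symm
    refine ⟨z₁ * z₂, ?_⟩
    rw [classInner_def]
    show _ * ∑ e : E, Lval (ext0 ι) (ρ (e : G)) * (lam' e : ℂ) = _
    rw [← Fintype.sum_bijective _ hbij
      (fun x : R × (P : Subgroup E) =>
        (Lval (ext0 ι) (ρ ((x.1 : E) : G)) * (lam' x.1 : ℂ)) * (lam' x.2 : ℂ)) _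
      fun x => by rw [hL, map_mul, Units.val_mul, mul_assoc]]
    rw [Fintype.sum_prod_type]
    dsimp only
    rw [← Finset.sum_mul_sum]
    rw [show ∑ r : R, Lval (ext0 ι) (ρ ((r : E) : G)) * (lam' r : ℂ) = (Nat.card R : ℂ) * z₁
      from hz₁, show ∑ u : (P : Subgroup E), (lam' u : ℂ) = (Nat.card (P : Subgroup E) : ℂ) * z₂
      from hz₂, hcard]
    have h1 : (Nat.card R : ℂ) ≠ 0 := natCard_ne_zero
    have h2 : (Nat.card (P : Subgroup E) : ℂ) ≠ 0 := natCard_ne_zero
    push_cast
    field_simp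

end Cfsg.Agent.Green
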