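import Cfsg.Agent.Lib.Green.Roots
import Cfsg.Agent.Lib.Green.Lift

/-!
# Inner products of Green's class functions
-/

namespace Cfsg.Agent.Green

open Module Submodule Polynomial
open scoped ComplexConjugate

variable {F : Type*} [Field F] {V : Type*} [AddCommGroup V] [Module F V] [Finite V]

theorem restrict_congr {f g : Module.End F V} {W : Submodule F V} (hf : Inv f W) (hg : Inv g W)
    (h : ∀ v ∈ W, f v = g v) : f.restrict hf = g.restrict hg :=
  LinearMap.ext fun w => Subtype.ext (h _ w.2)

theorem isUnit_iff_coeff [FiniteDimensional F V] (f : Module.End F V) :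
    IsUnit f ↔ f.charpoly.coeff 0 ≠ 0 := by
  rw [LinearMap.isUnit_iff_isUnit_det, LinearMap.det_eq_sign_charpoly_coeff, isUnit_iff_ne_zero]
  simp

variable {K : Type*} [Field K] [Algebra F K]

open scoped Classical in
/-- A function invariant under translations is orthogonal to Green's function. -/
theorem sum_mul_green (ι : K → ℂ) {X : Submodule F V} (hbot : X ≠ ⊥) (htop : X ≠ ⊤)
    (h : Module.End F V → ℂ) (hinv : ∀ f, h f ≠ 0 → Inv f X)
    (hshift : ∀ f t, t ∈ trans X → h (f + t) = h f) :
    ∑ f : Module.End F V, h f * conj (green ι f) = 0 := by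
  have key : (Nat.card ↥(trans X) : ℂ) * ∑ f : Module.End F V, h f * conj (green ι f) = 0 := by
    calc (Nat.card ↥(trans X) : ℂ) * ∑ f : Module.End F V, h f * conj (green ι f)
        = ∑ t : Module.End F V, if t ∈ trans X then
            ∑ f : Module.End F V, h f * conj (green ι f) else 0 := by
          rw [← Finset.sum_filter (p := fun t => t ∈ trans X), Finset.sum_const, nsmul_eq_mul,
            Nat.subtype_card (Finset.univ.filter fun t => t ∈ trans X) (by simp)]
      _ = ∑ t : Module.End F V, if t ∈ trans X then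
            ∑ f : Module.End F V, h f * conj (green ι (f + t)) else 0 := by
          refine Finset.sum_congr rfl fun t _ => ?_
          by_cases ht : t ∈ trans X
          · rw [if_pos ht, if_pos ht]
            refine (Fintype.sum_equiv (Equiv.addRight t) _ _ fun f => ?_).symm
            rw [Equiv.coe_addRight, hshift f t ht]
          · rw [if_neg ht, if_neg ht]
      _ = ∑ f : Module.End F V, h f *
            conj (∑ t : Module.End F V, if t ∈ trans X then green ι (f + t) else 0) := by
          simp only [map_sum, apply_ite (starRingEnd ℂ), map_zero, Finset.mul_sum, mul_ite,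
            mul_zero]
          rw [Finset.sum_comm]
          refine Finset.sum_congr rfl fun t _ => ?_
          by_cases ht : t ∈ trans X <;> simp [ht]
      _ = 0 := Finset.sum_eq_zero fun f _ => by
          by_cases hf : h f = 0
          · rw [hf, zero_mul]
          · rw [sum_green ι f (hinv f hf) hbot htop, map_zero, mul_zero]
  exact (mul_eq_zero.1 key).resolve_left (Nat.cast_ne_zero.2 Nat.card_pos.ne')

open scoped Classical in
/-- The inner product reduces to the eigenvalue sum. -/
theorem sum_green_mul_green (ι ι' : K → ℂ) (hn : 0 < finrank F V) :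
    ∑ f : Module.End F V, (if IsUnit f then green ι f * conj (green ι' f) else 0) =
      -∑ f : Module.End F V, (if IsUnit f then Lval ι f * conj (green ι' f) else 0) := by
  haveI : FiniteDimensional F V := Module.Finite.of_finite
  have hne : (⊤ : Submodule F V) ≠ ⊥ := fun h => by
    have := finrank_top F V
    rw [h, finrank_bot] at this
    omega
  have hU : ∀ {X : Submodule F V} {f t : Module.End F V}, Inv f X → t ∈ trans X →
      (IsUnit (f + t) ↔ IsUnit f) := fun hX ht => by
    rw [isUnit_iff_coeff, isUnit_iff_coeff, charpoly_add_trans hX ht]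
  have hI : ∀ {X : Submodule F V} {f t : Module.End F V}, t ∈ trans X →
      (Inv (f + t) X ↔ Inv f X) := fun {X f t} ht =>
    inv_congr fun v hv => by rw [LinearMap.add_apply, ht.1 v hv, add_zero]
  -- the proper subspaces contribute nothing
  have hA : ∀ (φ : Module.End F V → Submodule F V → ℂ),
      (∀ f t W, Inv f W → t ∈ trans W → φ (f + t) W = φ f W) →
      ∀ W : Submodule F V, W ≠ ⊥ → W ≠ ⊤ → ∑ f : Module.End F V,
        (if IsUnit f ∧ Inv f W then (mob f W : ℂ) * φ f W else 0) * conj (green ι' f) = 0 := by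
    intro φ hφ W hb ht
    refine sum_mul_green ι' hb ht _ (fun f hf => ?_) fun f t htt => ?_
    · by_contra hc
      exact hf (if_neg fun h => hc h.2)
    · by_cases h : Inv f W
      · simp only [hU h htt, hI htt, h, and_true]
        rw [hφ f t W h htt,
          mob_congr (f := f + t) (g := f) fun v hv => by
            rw [LinearMap.add_apply, htt.1 v hv, add_zero]]
      · rw [if_neg fun h' => h ((hI htt).1 h'.2), if_neg fun h' => h h'.2]
  have h1 : ∑ f : Module.End F V, (if IsUnit f then green ι f * conj (green ι' f) else 0) =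
      ∑ f : Module.End F V,
        (if IsUnit f then (mob f ⊤ : ℂ) * Lval ι f else 0) * conj (green ι' f) := by
    calc ∑ f : Module.End F V, (if IsUnit f then green ι f * conj (green ι' f) else 0)
        = ∑ W : Submodule F V, ∑ f : Module.End F V,
            (if IsUnit f ∧ Inv f W then (mob f W : ℂ) * LW ι f W else 0) * conj (green ι' f) := by
          rw [Finset.sum_comm]
          refine Finset.sum_congr rfl fun f _ => ?_
          rw [← Finset.sum_mul]
          by_cases hf : IsUnit f
          · simp only [hf, if_true, true_and]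
            rfl
          · simp [hf]
      _ = _ := by
          rw [Finset.sum_eq_single (⊤ : Submodule F V)]
          · refine Finset.sum_congr rfl fun f _ => ?_
            simp [inv_top, LW_top]
          · intro W _ hW
            by_cases hb : W = ⊥
            · subst hb
              simp [LW_bot]
            refine hA (fun f W => LW ι f W) (fun f t W h ht => ?_) W hb hW
            rw [LW, LW, dif_pos h, dif_pos ((hI ht).2 h),
              restrict_congr ((hI ht).2 h) h fun v hv => by
                rw [LinearMap.add_apply, ht.1 v hv, add_zero]]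
          · exact fun h => absurd (Finset.mem_univ _) h
  have h2 : ∀ f : Module.End F V, (mob f ⊤ : ℂ) = -(1 : ℂ) -
      ∑ W ∈ Finset.univ.filter (fun W : Submodule F V => W ≠ ⊥ ∧ W ≠ ⊤),
        if Inv f W then (mob f W : ℂ) else 0 := by
    intro f
    have hs := congrArg (fun z : ℤ => (z : ℂ)) (sum_mob f (inv_top f))
    rw [if_neg hne] at hs
    push_cast at hs
    simp only [le_top, true_and] at hs
    rw [← Finset.sum_filter_add_sum_filter_not Finset.univ
      (fun W : Submodule F V => W ≠ ⊥ ∧ W ≠ ⊤)] at hs
    rw [show Finset.univ.filter (fun W : Submodule F V => ¬(W ≠ ⊥ ∧ W ≠ ⊤)) = {⊥, ⊤} by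
      ext W; simp only [Finset.mem_filter, Finset.mem_univ, true_and, Finset.mem_insert,
        Finset.mem_singleton]; tauto, Finset.sum_pair (Ne.symm hne)] at hs
    rw [if_pos (inv_bot f), if_pos (inv_top f), mob_bot, Int.cast_one] at hs
    linear_combination hs
  rw [h1, ← Finset.sum_neg_distrib]
  have h3 : ∀ f : Module.End F V,
      (if IsUnit f then (mob f ⊤ : ℂ) * Lval ι f else 0) * conj (green ι' f) =
      -(if IsUnit f then Lval ι f * conj (green ι' f) else 0) -
      ∑ W ∈ Finset.univ.filter (fun W : Submodule F V => W ≠ ⊥ ∧ W ≠ ⊤),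
        (if IsUnit f ∧ Inv f W then (mob f W : ℂ) * Lval ι f else 0) * conj (green ι' f) := by
    intro f
    by_cases hf : IsUnit f
    · simp only [hf, if_true, true_and, h2 f, sub_mul, neg_mul, one_mul, Finset.sum_mul, ite_mul,
        zero_mul, mul_assoc]
    · simp [hf]
  rw [Finset.sum_congr rfl fun f _ => h3 f, Finset.sum_sub_distrib, sub_eq_self, Finset.sum_comm]
  refine Finset.sum_eq_zero fun W hW => ?_
  obtain ⟨-, hb, ht⟩ := Finset.mem_filter.1 hW
  refine hA (fun f _ => Lval ι f) (fun f t W h ht => ?_) W hb ht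
  rw [Lval, Lval, charpoly_add_trans h ht]

variable [Fintype K] [Finite F]

/-- The orbit sum of a character of the units. -/
noncomputable def orb (ι : Kˣ →* ℂˣ) (n : ℕ) (α : Kˣ) : ℂ :=
  ∑ j ∈ Finset.range n, (ι (α ^ Nat.card F ^ j) : ℂ)

open scoped Classical in
/-- The inner product of two of Green's class functions. -/
theorem inner_green (ι ι' : Kˣ →* ℂˣ) {n : ℕ} (hn : finrank F V = n) (hn0 : 0 < n)
    (hK : ∀ d, 0 < d → d ≤ n → d ∣ finrank F K) :
    ((n : ℂ) * ((Nat.card F : ℂ) ^ n - 1)) * ∑ f : Module.End F V,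
        (if IsUnit f then green (ext0 ι) f * conj (green (ext0 ι') f) else 0) =
      (glc F V : ℂ) * ∑ α : Kˣ, (if α ^ (Nat.card F ^ n - 1) = 1 then
        orb (F := F) ι n α * conj (orb (F := F) ι' n α) else 0) := by
  haveI : FiniteDimensional F V := Module.Finite.of_finite
  set q := Nat.card F
  rw [sum_green_mul_green _ _ (hn ▸ hn0)]
  set Φ : Module.End F V → ℂ := fun f => Lval (ext0 ι) f * conj (green (ext0 ι') f)
  set H := Finset.univ.filter fun α : Kˣ => α ^ (q ^ n - 1) = 1 with hH
  let P : Kˣ → F[X] := fun α => minpoly F (α : K)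
  let d : Kˣ → ℕ := fun α => (P α).natDegree
  have hPirr : ∀ α, Irreducible (P α) := fun α => minpoly.irreducible (Algebra.IsIntegral.isIntegral _)
  have hPmon : ∀ α, (P α).Monic := fun α => minpoly.monic (Algebra.IsIntegral.isIntegral _)
  have hd0 : ∀ α, 0 < d α := fun α => (hPirr α).natDegree_pos
  have hq1 : 1 < q ^ n := Nat.one_lt_pow hn0.ne' Finite.one_lt_card
  have hHd : ∀ α ∈ H, d α ∣ n := by
    intro α hα
    have h1 := (Finset.mem_filter.1 hα).2
    refine (dvd_iff_pow (hPirr α) (minpoly.aeval F (α : K)) n).2 ?_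
    have h2 : (α : K) ^ (q ^ n - 1) = 1 := by rw [← Units.val_pow_eq_pow_val, h1, Units.val_one]
    conv_rhs => rw [← one_mul (α : K), ← h2, ← pow_succ]
    rw [Nat.sub_add_cancel hq1.le]
  have hVk : ∀ α ∈ H, finrank F V = (P α).natDegree * (n / d α) := fun α hα => by
    rw [hn, Nat.mul_div_cancel' (hHd α hα)]
  have hunit : ∀ α ∈ H, ∀ f ∈ cls (P α) (n / d α) V, IsUnit f := by
    intro α hα f hf
    rw [isUnit_iff_coeff, mem_cls.1 hf, coeff_zero_eq_eval_zero, eval_pow,
      ← coeff_zero_eq_eval_zero]
    exact pow_ne_zero _ (minpoly.coeff_zero_ne_zero (Algebra.IsIntegral.isIntegral _) α.ne_zero)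
  -- distribute over the roots
  have hdist : ∀ f : Module.End F V, (if IsUnit f then Φ f else 0) =
      ∑ α ∈ H, if f ∈ cls (P α) (n / d α) V then (d α : ℂ)⁻¹ * Φ f else 0 := by
    intro f
    by_cases hΦ : Φ f = 0
    · simp [hΦ]
    by_cases hf : IsUnit f
    · rw [if_pos hf]
      obtain ⟨R, k, hRmon, hRirr, hR⟩ : ∃ (R : F[X]) (k : ℕ), R.Monic ∧ Irreducible R ∧
          f.charpoly = R ^ k := by
        by_contra hc
        push Not at hc
        exact hΦ (by
          simp only [Φ]
          rw [green_eq_zero _ f hc, map_zero, mul_zero])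
      have hRk : n = R.natDegree * k := by
        rw [← hn, ← LinearMap.charpoly_natDegree f, hR, natDegree_pow, mul_comm]
      have hk0 : 0 < k := Nat.pos_of_ne_zero fun h => by simp [h] at hRk; omega
      have hRn : R.natDegree ≤ n := hRk ▸ Nat.le_mul_of_pos_right _ hk0
      have hRdvd := hK _ hRirr.natDegree_pos hRn
      obtain ⟨hcard, hnod⟩ := card_roots_of_dvd (K := K) hRirr hRdvd
      have hR0 : R.coeff 0 ≠ 0 := fun h0 => by
        rw [isUnit_iff_coeff, hR, coeff_zero_eq_eval_zero, eval_pow, ← coeff_zero_eq_eval_zero,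
          h0, zero_pow hk0.ne'] at hf
        exact hf rfl
      have hroot : ∀ α : Kˣ, (α ∈ H ∧ f ∈ cls (P α) (n / d α) V) ↔
          (α : K) ∈ (R.map (algebraMap F K)).roots := by
        intro α
        rw [mem_roots (Polynomial.map_ne_zero hRirr.ne_zero), IsRoot.def, eval_map, ← aeval_def]
        constructor
        · rintro ⟨hαH, hf'⟩
          rw [mem_cls, hR] at hf'
          have h1 : R ∣ P α ^ (n / d α) := hf' ▸ dvd_pow_self R hk0.ne'
          have h2 := hRirr.associated_of_dvd (hPirr α) (hRirr.prime.dvd_of_dvd_pow h1)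
          rw [eq_of_monic_of_associated hRmon (hPmon α) h2]
          exact minpoly.aeval F _
        · intro hα
          have hRP : R = P α :=
            minpoly.eq_of_irreducible_of_monic hRirr hα hRmon
          refine ⟨Finset.mem_filter.2 ⟨Finset.mem_univ _, Units.ext ?_⟩, mem_cls.2 ?_⟩
          · have h3 := (dvd_iff_pow hRirr hα n).1 ⟨k, hRk⟩
            rw [← Nat.sub_add_cancel hq1.le, pow_succ] at h3
            rw [Units.val_pow_eq_pow_val, Units.val_one]
            exact (mul_eq_right₀ α.ne_zero).1 h3
          · rw [hR, hRP]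
            congr 1
            show k = n / (P α).natDegree
            rw [← hRP, hRk, Nat.mul_div_cancel_left _ hRirr.natDegree_pos]
      rw [← Finset.sum_filter, Finset.sum_congr rfl (g := fun _ => (R.natDegree : ℂ)⁻¹ * Φ f)
        fun α hα => ?_, Finset.sum_const, nsmul_eq_mul]
      · have hc : (H.filter fun α => f ∈ cls (P α) (n / d α) V).card = R.natDegree := by
          rw [← hcard, ← Multiset.toFinset_card_of_nodup hnod]
          refine Finset.card_bij (fun α _ => (α : K)) (fun α hα => ?_) (fun a _ b _ h => Units.ext h)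
            fun x hx => ?_
          · rw [Multiset.mem_toFinset]
            exact (hroot α).1 (Finset.mem_filter.1 hα)
          · rw [Multiset.mem_toFinset] at hx
            have hx0 : x ≠ 0 := by
              rintro rfl
              rw [mem_roots (Polynomial.map_ne_zero hRirr.ne_zero), IsRoot.def,
                ← coeff_zero_eq_eval_zero, coeff_map, map_eq_zero] at hx
              exact hR0 hx
            exact ⟨Units.mk0 x hx0, Finset.mem_filter.2 ((hroot _).2 (by simpa using hx)), rfl⟩
        rw [hc, ← mul_assoc, mul_inv_cancel₀ (Nat.cast_ne_zero.2 hRirr.natDegree_pos.ne'), one_mul]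
      · obtain ⟨hαH, hf'⟩ := Finset.mem_filter.1 hα
        have h1 := (hroot α).1 ⟨hαH, hf'⟩
        rw [mem_roots (Polynomial.map_ne_zero hRirr.ne_zero), IsRoot.def, eval_map,
          ← aeval_def] at h1
        have hRP : R = P α := minpoly.eq_of_irreducible_of_monic hRirr h1 hRmon
        rw [show d α = R.natDegree by rw [hRP]]
    · rw [if_neg hf, Finset.sum_eq_zero]
      intro α hα
      rw [if_neg fun h => hf (hunit α hα f h)]
  rw [Finset.sum_congr rfl fun f _ => hdist f, Finset.sum_comm, mul_neg, ← Finset.sum_filter, ← hH,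
    Finset.mul_sum, Finset.mul_sum, ← Finset.sum_neg_distrib]
  refine Finset.sum_congr rfl fun α hα => ?_
  rw [Finset.sum_ite_mem, Finset.univ_inter]
  set k := n / d α
  have hdk : d α * k = n := Nat.mul_div_cancel' (hHd α hα)
  have hk : 1 ≤ k := Nat.pos_of_ne_zero fun h => by simp [h] at hdk; omega
  have hdK : (P α).natDegree ∣ finrank F K :=
    hK _ (hd0 α) (hdk ▸ Nat.le_mul_of_pos_right _ hk)
  have hsum : ∀ ι : Kˣ →* ℂˣ, orb (F := F) ι n α =
      (k : ℂ) * (((P α).map (algebraMap F K)).roots.map (ext0 ι)).sum := by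
    intro ι
    rw [← orbit_sum (ext0 ι) (hPirr α) hdK (minpoly.aeval F (α : K)) k, orb,
      show (P α).natDegree * k = n from hdk]
    exact Finset.sum_congr rfl fun j _ => by rw [← Units.val_pow_eq_pow_val, ext0_units]
  set s := (((P α).map (algebraMap F K)).roots.map (ext0 ι)).sum
  set s' := (((P α).map (algebraMap F K)).roots.map (ext0 ι')).sum
  have hval : ∀ f ∈ cls (P α) k V, (d α : ℂ) * Φ f = (k : ℂ) * s * conj s' * conj (Dsum f) := by
    intro f hf
    have h1 := green_eq_Dsum (ext0 ι') (hPirr α) (hPmon α) (mem_cls.1 hf)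
    have h2 := congrArg (starRingEnd ℂ) h1
    simp only [map_mul, map_natCast] at h2
    simp only [Φ]
    rw [Lval_pow (ext0 ι) (mem_cls.1 hf), mul_left_comm, h2]
    ring
  have hD : ((q : ℂ) ^ n - 1) * ∑ f ∈ cls (P α) k V, conj (Dsum f) =
      -(d α : ℂ) * glc F V := by
    have h := sum_class (hPirr α) (hPmon α) hk (V := V) (by rw [hn]; exact hdk.symm)
    have h' := congrArg (fun x : ℚ => (x : ℂ)) h
    push_cast at h'
    rw [hn] at h'
    convert h' using 2
    refine Finset.sum_congr rfl fun f _ => ?_
    rw [Dsum, map_sum]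
    refine Finset.sum_congr rfl fun W _ => ?_
    by_cases hW : Inv f W <;> simp [hW]
  have hd' : (d α : ℂ) ≠ 0 := Nat.cast_ne_zero.2 (hd0 α).ne'
  rw [← Finset.mul_sum, hsum ι, hsum ι', map_mul, map_natCast]
  have hval' : ∑ f ∈ cls (P α) k V, Φ f =
      (d α : ℂ)⁻¹ * ((k : ℂ) * s * conj s') * ∑ f ∈ cls (P α) k V, conj (Dsum f) := by
    rw [Finset.mul_sum]
    refine Finset.sum_congr rfl fun f hf => ?_
    rw [← inv_mul_cancel_left₀ hd' (Φ f), hval f hf]
    ring
  rw [hval', ← hdk]
  rw [hdk]
  have hn' : (n : ℂ) = (d α : ℂ) * (k : ℂ) := by rw [← Nat.cast_mul, hdk]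
  rw [hn']
  field_simp
  linear_combination (-(s * conj s' * (k : ℂ) ^ 2)) * hD

end Cfsg.Agent.Green
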