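import Mathlib

/-!
# The Möbius function of the lattice of invariant subspaces

For an endomorphism `f` of a finite vector space, `mob f W` is the Möbius function from `⊥` to `W`
in the lattice of `f`-invariant subspaces.
-/

namespace Cfsg.Agent.Green

open Module Submodule

variable {F : Type*} [Field F] {V U : Type*} [AddCommGroup V] [Module F V]
  [AddCommGroup U] [Module F U]

/-- Subspaces of a finite space form a finite type. -/
noncomputable scoped instance (priority := low) fintypeSub [Finite V] :
    Fintype (Submodule F V) := Fintype.ofFinite _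

/-- Endomorphisms of a finite space form a finite type. -/
noncomputable scoped instance (priority := low) fintypeEnd [Finite V] :
    Fintype (Module.End F V) :=
  haveI : Finite (Module.End F V) := Finite.of_injective _ DFunLike.coe_injective
  Fintype.ofFinite _

/-- A quotient of a finite space is finite. -/
scoped instance (priority := low) finiteQuot [Finite V] (X : Submodule F V) : Finite (V ⧸ X) :=
  Finite.of_surjective _ X.mkQ_surjective

/-- `W` is invariant under `f`. -/
def Inv (f : Module.End F V) (W : Submodule F V) : Prop := ∀ v ∈ W, f v ∈ W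

theorem inv_bot (f : Module.End F V) : Inv f ⊥ := fun v hv => by
  rw [Submodule.mem_bot] at hv ⊢
  rw [hv, map_zero]

theorem inv_top (f : Module.End F V) : Inv f ⊤ := fun _ _ => Submodule.mem_top

theorem inv_inf {f : Module.End F V} {A B : Submodule F V} (hA : Inv f A) (hB : Inv f B) :
    Inv f (A ⊓ B) := fun v hv => ⟨hA v hv.1, hB v hv.2⟩

theorem inv_sup {f : Module.End F V} {A B : Submodule F V} (hA : Inv f A) (hB : Inv f B) :
    Inv f (A ⊔ B) := fun v hv => by
  obtain ⟨a, ha, b, hb, rfl⟩ := Submodule.mem_sup.1 hv
  rw [map_add]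
  exact Submodule.add_mem_sup (hA a ha) (hB b hb)

theorem inv_map {f : Module.End F V} {f' : Module.End F U} (e : U →ₗ[F] V)
    (he : Function.Injective e) (h : ∀ u, e (f' u) = f (e u)) (W : Submodule F U) :
    Inv f (W.map e) ↔ Inv f' W := by
  constructor
  · intro hW u hu
    obtain ⟨u', hu', he'⟩ := Submodule.mem_map.1 (hW _ (Submodule.mem_map_of_mem hu))
    rw [← h] at he'
    rwa [← he he']
  · intro hW v hv
    obtain ⟨u, hu, rfl⟩ := Submodule.mem_map.1 hv
    exact Submodule.mem_map.2 ⟨f' u, hW u hu, h u⟩

theorem inv_congr {f g : Module.End F V} {W : Submodule F V} (h : ∀ v ∈ W, f v = g v) :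
    Inv f W ↔ Inv g W :=
  ⟨fun hW v hv => h v hv ▸ hW v hv, fun hW v hv => (h v hv).symm ▸ hW v hv⟩

/-- The endomorphism induced on a quotient by an invariant subspace. -/
def quot (f : Module.End F V) (X : Submodule F V) (hX : Inv f X) : Module.End F (V ⧸ X) :=
  X.mapQ X f hX

@[simp] theorem quot_mk (f : Module.End F V) (X : Submodule F V) (hX : Inv f X) (v : V) :
    quot f X hX (X.mkQ v) = X.mkQ (f v) := rfl

section Finite

variable [Finite V] [Finite U]

open scoped Classical in
/-- The Möbius function of the lattice of invariant subspaces, from `⊥`. -/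
noncomputable def mob (f : Module.End F V) : Submodule F V → ℤ :=
  (wellFounded_lt (α := Submodule F V)).fix fun W rec =>
    (if W = ⊥ then 1 else 0) - ∑ W' : Submodule F V,
      if h : W' < W ∧ Inv f W' then rec W' h.1 else 0

open scoped Classical in
theorem mob_eq (f : Module.End F V) (W : Submodule F V) :
    mob f W = (if W = ⊥ then 1 else 0) -
      ∑ W' : Submodule F V, if W' < W ∧ Inv f W' then mob f W' else 0 := by
  conv_lhs => rw [mob, WellFounded.fix_eq]
  congr 1

theorem mob_bot (f : Module.End F V) : mob f ⊥ = 1 := by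
  classical
  rw [mob_eq, if_pos rfl, Finset.sum_eq_zero fun W' _ => ?_, sub_zero]
  rw [if_neg fun h => not_lt_bot h.1]

open scoped Classical in
/-- The defining property. -/
theorem sum_mob (f : Module.End F V) {W : Submodule F V} (hW : Inv f W) :
    (∑ W' : Submodule F V, if W' ≤ W ∧ Inv f W' then mob f W' else 0) =
      if W = ⊥ then 1 else 0 := by
  have h : ∀ W' : Submodule F V, (if W' ≤ W ∧ Inv f W' then mob f W' else 0) =
      (if W' < W ∧ Inv f W' then mob f W' else 0) + if W' = W then mob f W' else 0 := by
    intro W'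
    rcases eq_or_ne W' W with rfl | hne
    · simp [hW]
    · simp [hne, lt_iff_le_and_ne]
  rw [Finset.sum_congr rfl fun W' _ => h W', Finset.sum_add_distrib,
    Finset.sum_ite_eq' Finset.univ, if_pos (Finset.mem_univ _)]
  conv_lhs => arg 2; rw [mob_eq]
  ring

theorem mob_congr {f g : Module.End F V} : ∀ {W : Submodule F V}, (∀ v ∈ W, f v = g v) →
    mob f W = mob g W := by
  classical
  intro W
  induction W using WellFoundedLT.induction with
  | _ W ih =>
  intro h
  rw [mob_eq, mob_eq]
  congr 1
  refine Finset.sum_congr rfl fun W' _ => ?_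
  by_cases hW' : W' < W
  · have h' : ∀ v ∈ W', f v = g v := fun v hv => h v (hW'.le hv)
    rw [ih W' hW' h']
    simp only [inv_congr h']
  · simp [hW']

theorem mob_map {f : Module.End F V} {f' : Module.End F U} (e : U →ₗ[F] V)
    (he : Function.Injective e) (h : ∀ u, e (f' u) = f (e u)) :
    ∀ W : Submodule F U, mob f (W.map e) = mob f' W := by
  classical
  intro W
  induction W using WellFoundedLT.induction with
  | _ W ih =>
  rw [mob_eq, mob_eq]
  congr 1
  · have : W.map e = ⊥ ↔ W = ⊥ := by
      rw [← Submodule.map_bot e]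
      exact ⟨fun h' => Submodule.map_injective_of_injective he h', fun h' => by rw [h']⟩
    simp only [this]
  · symm
    refine Fintype.sum_of_injective (Submodule.map e) (Submodule.map_injective_of_injective he) _ _
      (fun V' hV' => ?_) fun W' => ?_
    · refine if_neg fun hc => hV' ⟨V'.comap e, ?_⟩
      exact Submodule.map_comap_eq_self (hc.1.le.trans (LinearMap.map_le_range))
    · have h1 : W'.map e < W.map e ↔ W' < W := by
        constructor
        · exact fun h' => lt_of_le_of_ne ((Submodule.map_le_map_iff_of_injective he _ _).1 h'.le)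
            fun h'' => h'.ne (h'' ▸ rfl)
        · exact fun h' => Submodule.map_strictMono_of_injective he h'
      simp only [h1, inv_map e he h]
      split
      · rename_i hc
        exact (ih W' hc.1).symm
      · rfl

theorem mob_top_of_injective {f : Module.End F V} {f' : Module.End F U} (e : U →ₗ[F] V)
    (he : Function.Injective e) (h : ∀ u, e (f' u) = f (e u)) :
    mob f (LinearMap.range e) = mob f' ⊤ := by
  rw [← Submodule.map_top, mob_map e he h]

theorem mob_top_conj {f : Module.End F V} {f' : Module.End F U} (e : U ≃ₗ[F] V)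
    (h : ∀ u, e (f' u) = f (e u)) : mob f ⊤ = mob f' ⊤ := by
  rw [← mob_top_of_injective (e : U →ₗ[F] V) e.injective h, LinearEquiv.range]

theorem mob_restrict {f : Module.End F V} {W : Submodule F V} (hW : Inv f W) :
    mob f W = mob (f.restrict hW) ⊤ := by
  rw [← mob_top_of_injective (f := f) (f' := f.restrict hW) W.subtype W.injective_subtype
    fun _ => rfl, Submodule.range_subtype]

open scoped Classical in
/-- Invariant subspaces meeting an invariant `W₀` trivially only at `⊥` carry all of the Möbius
function inside `W₀`. -/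
theorem mob_eq_zero_of_not_le (f : Module.End F V) {W₀ : Submodule F V} (hW₀ : Inv f W₀)
    (hmeet : ∀ W, Inv f W → W ≠ ⊥ → W ⊓ W₀ ≠ ⊥) :
    ∀ W, Inv f W → ¬ W ≤ W₀ → mob f W = 0 := by
  intro W
  induction W using WellFoundedLT.induction with
  | _ W ih =>
  intro hW hle
  have hne : W ≠ ⊥ := fun h => hle (h ▸ bot_le)
  have h1 := sum_mob f hW
  have h2 := sum_mob f (inv_inf hW hW₀)
  rw [if_neg hne] at h1
  rw [if_neg (hmeet W hW hne)] at h2
  have hsplit : ∀ W' : Submodule F V, (if W' ≤ W ∧ Inv f W' then mob f W' else 0) =
      (if W' ≤ W ⊓ W₀ ∧ Inv f W' then mob f W' else 0) + if W' = W then mob f W' else 0 := by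
    intro W'
    rcases eq_or_ne W' W with rfl | hW'
    · simp [hW, hle]
    · by_cases hc : W' ≤ W ∧ Inv f W'
      · by_cases hle' : W' ≤ W₀
        · simp [hc, hle', hW']
        · simp [hc, hle', hW', ih W' (lt_of_le_of_ne hc.1 hW') hc.2 hle']
      · rw [if_neg hc, if_neg fun h => hc ⟨h.1.trans inf_le_left, h.2⟩, if_neg hW', add_zero]
  rw [Finset.sum_congr rfl fun W' _ => hsplit W', Finset.sum_add_distrib, h2,
    Finset.sum_ite_eq' Finset.univ, if_pos (Finset.mem_univ _), zero_add] at h1
  exact h1

end Finite

end Cfsg.Agent.Green
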