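import Cfsg.Agent.Lib.Green.Virtual

/-!
# Cuspidal characters of the general linear group
-/

namespace Cfsg.Agent.Green

open Module Submodule Polynomial
open scoped ComplexConjugate MatrixGroups

variable {F : Type*} [Field F] [Finite F] {n : ℕ}

/-- Matrices as automorphisms of the coordinate space. -/
noncomputable def glEquiv (F : Type*) [Field F] (n : ℕ) :
    GL (Fin n) F ≃* (Module.End F (Fin n → F))ˣ :=
  Units.mapEquiv (Matrix.toLinAlgEquiv' (R := F) (n := Fin n)).toMulEquiv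

theorem glEquiv_coe (g : GL (Fin n) F) :
    (glEquiv F n g : Module.End F (Fin n → F)) =
      Matrix.toLinAlgEquiv' (g : Matrix (Fin n) (Fin n) F) := rfl

variable {K : Type*} [Field K] [Algebra F K]

/-- Green's cuspidal character. -/
noncomputable def cuspChar (ι : Kˣ →* ℂˣ) (g : GL (Fin n) F) : ℂ :=
  (-1) ^ n * green (ext0 ι) (glEquiv F n g : Module.End F (Fin n → F))

open scoped Classical in
theorem classInner_cuspChar [Fintype (GL (Fin n) F)] (ι ι' : Kˣ →* ℂˣ) :
    Cfsg.classInner (cuspChar (F := F) (n := n) ι) (cuspChar ι') =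
      (glc F (Fin n → F) : ℂ)⁻¹ * ∑ f : Module.End F (Fin n → F),
        (if IsUnit f then green (ext0 ι) f * conj (green (ext0 ι') f) else 0) := by
  haveI := Fintype.ofFinite F
  rw [Cfsg.classInner, glc, Nat.card_congr (glEquiv F n).toEquiv]
  congr 1
  refine Fintype.sum_of_injective (fun g => (glEquiv F n g : Module.End F (Fin n → F)))
    (fun a b h => (glEquiv F n).injective (Units.ext h)) _ _ (fun f hf => ?_) fun g => ?_
  · rw [if_neg]
    rintro ⟨u, rfl⟩
    exact hf ⟨(glEquiv F n).symm u, by simp⟩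
  · rw [if_pos (glEquiv F n g).isUnit]
    have hsq : ((-1 : ℂ) ^ n) * (-1) ^ n = 1 := by rw [← mul_pow]; simp
    have hr : conj ((-1 : ℂ) ^ n) = (-1) ^ n := by simp
    simp only [cuspChar, map_mul, hr]
    linear_combination (green (ext0 ι) (glEquiv F n g : Module.End F (Fin n → F)) *
      conj (green (ext0 ι') (glEquiv F n g : Module.End F (Fin n → F)))) * hsq

/-- The degree of Green's cuspidal character. -/
theorem cuspChar_one (ι : Kˣ →* ℂˣ) (hn : 1 ≤ n) :
    cuspChar (F := F) (n := n) ι 1 = ∏ i ∈ Finset.Ico 1 n, ((Nat.card F : ℂ) ^ i - 1) := by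
  obtain ⟨m, rfl⟩ : ∃ m, n = m + 1 := ⟨n - 1, by omega⟩
  have h := green_eq_Dsum (K := K) (ext0 ι) (irreducible_X_sub_C (1 : F)) (monic_X_sub_C 1)
    (k := m + 1) (f := (1 : Module.End F (Fin (m + 1) → F)))
    (by rw [LinearMap.charpoly_one, finrank_fin_fun, map_one])
  have he : ext0 ι (1 : K) = 1 := by rw [← Units.val_one, ext0_units, map_one, Units.val_one]
  rw [natDegree_X_sub_C, Nat.cast_one, one_mul, Polynomial.map_sub, Polynomial.map_X,
    Polynomial.map_C, roots_X_sub_C, Multiset.map_singleton, Multiset.sum_singleton, map_one,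
    he, one_mul, Dsum_one m (finrank_fin_fun F)] at h
  rw [cuspChar, map_one, Units.val_one, h, mul_neg, pow_succ, mul_neg_one, neg_mul, neg_neg]
  rw [show (-1 : ℂ) ^ m = (-1) ^ (Finset.Ico 1 (m + 1)).card by simp, ← Finset.prod_neg]
  exact Finset.prod_congr rfl fun i _ => by ring

omit [Finite F] in
theorem toLin_mem_trans {X : Submodule F (Fin n → F)} {m : ℕ}
    (hX : ∀ v, v ∈ X ↔ ∀ i : Fin n, m ≤ i.val → v i = 0) (T : Matrix (Fin n) (Fin n) F) :
    Matrix.toLinAlgEquiv' T ∈ trans X ↔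
      ∀ i j : Fin n, ¬(i.val < m ∧ m ≤ j.val) → T i j = 0 := by
  constructor
  · rintro ⟨h1, h2⟩ i j hij
    have hT : Matrix.toLinAlgEquiv' T (Pi.single j 1) i = T i j := by
      rw [Matrix.toLinAlgEquiv'_apply, Matrix.mulVec_single_one]
      rfl
    rw [← hT]
    by_cases hj : m ≤ j.val
    · exact (hX _).1 (h2 _) i (by omega)
    · rw [h1 _ ((hX _).2 fun k hk => Pi.single_eq_of_ne (by
        intro hkj
        exact hj (hkj ▸ hk)) _)]
      rfl
  · intro h
    refine ⟨fun x hx => funext fun i => ?_, fun v => (hX _).2 fun i hi => ?_⟩ <;>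
      rw [Matrix.toLinAlgEquiv'_apply] <;> simp only [Matrix.mulVec, dotProduct] <;>
      refine Finset.sum_eq_zero fun j _ => ?_
    · by_cases hj : m ≤ j.val
      · exact mul_eq_zero_of_right _ ((hX x).1 hx j hj)
      · exact mul_eq_zero_of_left (h i j fun h' => hj h'.2) _
    · exact mul_eq_zero_of_left (h i j fun h' => absurd h'.1 (by omega)) _

open scoped Classical in
/-- Cuspidality of Green's character. -/
theorem sum_cuspChar [Fintype (GL (Fin n) F)] (ι : Kˣ →* ℂˣ) {m : ℕ} (hm : 0 < m) (hmn : m < n) :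
    ∑ g : GL (Fin n) F, (if (∀ i j : Fin n, ¬(i.val < m ∧ m ≤ j.val) →
        (g : Matrix (Fin n) (Fin n) F) i j = (1 : Matrix (Fin n) (Fin n) F) i j)
      then cuspChar ι g else 0) = 0 := by
  haveI := Fintype.ofFinite F
  let X : Submodule F (Fin n → F) :=
    { carrier := {v | ∀ i : Fin n, m ≤ i.val → v i = 0}
      add_mem' := fun {a b} ha hb i hi => by simp [ha i hi, hb i hi]
      zero_mem' := fun i _ => rfl
      smul_mem' := fun c a ha i hi => by simp [ha i hi] }
  have hX : ∀ v, v ∈ X ↔ ∀ i : Fin n, m ≤ i.val → v i = 0 := fun v => Iff.rfl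
  have hbot : X ≠ ⊥ := fun h => by
    have hv : (Pi.single ⟨0, by omega⟩ 1 : Fin n → F) ∈ X := (hX _).2 fun i hi =>
      Pi.single_eq_of_ne (by intro h0; subst h0; simp at hi; omega) _
    rw [h, Submodule.mem_bot] at hv
    exact one_ne_zero (Pi.single_eq_zero_iff.1 hv)
  have htop : X ≠ ⊤ := fun h => by
    have hv := (hX (Pi.single ⟨m, hmn⟩ 1 : Fin n → F)).1 (h ▸ Submodule.mem_top) ⟨m, hmn⟩ le_rfl
    rw [Pi.single_eq_same] at hv
    exact one_ne_zero hv
  have hmem : ∀ g : GL (Fin n) F, (∀ i j : Fin n, ¬(i.val < m ∧ m ≤ j.val) →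
      (g : Matrix (Fin n) (Fin n) F) i j = (1 : Matrix (Fin n) (Fin n) F) i j) ↔
      (glEquiv F n g : Module.End F (Fin n → F)) - 1 ∈ trans X := by
    intro g
    rw [glEquiv_coe, ← map_one (Matrix.toLinAlgEquiv' (R := F) (n := Fin n)), ← map_sub,
      toLin_mem_trans hX]
    simp only [Matrix.sub_apply, sub_eq_zero]
  have h0 := sum_green (ext0 ι) (1 : Module.End F (Fin n → F)) (X := X) (fun v hv => hv) hbot htop
  rw [← Finset.sum_filter] at h0 ⊢
  have h1 : ∑ g ∈ Finset.univ.filter (fun g : GL (Fin n) F => ∀ i j : Fin n,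
      ¬(i.val < m ∧ m ≤ j.val) →
      (g : Matrix (Fin n) (Fin n) F) i j = (1 : Matrix (Fin n) (Fin n) F) i j), cuspChar ι g =
      (-1) ^ n * ∑ t ∈ Finset.univ.filter (fun t => t ∈ trans X), green (ext0 ι) (1 + t) := by
    rw [Finset.mul_sum]
    refine Finset.sum_bij (fun g _ => (glEquiv F n g : Module.End F (Fin n → F)) - 1)
      (fun g hg => Finset.mem_filter.2 ⟨Finset.mem_univ _, (hmem g).1 (Finset.mem_filter.1 hg).2⟩)
      (fun a _ b _ h => (glEquiv F n).injective (Units.ext (sub_left_injective h)))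
      (fun t ht => ?_) fun g _ => by rw [add_sub_cancel]; rfl
    have ht' := (Finset.mem_filter.1 ht).2
    obtain ⟨e1, e2⟩ := one_add_mul_one_sub ht'
    let u : (Module.End F (Fin n → F))ˣ := ⟨1 + t, 1 - t, e1, e2⟩
    have hu : ((glEquiv F n ((glEquiv F n).symm u) : (Module.End F (Fin n → F))ˣ) :
        Module.End F (Fin n → F)) - 1 = t := by
      rw [MulEquiv.apply_symm_apply]
      exact add_sub_cancel_left 1 t
    exact ⟨(glEquiv F n).symm u, Finset.mem_filter.2 ⟨Finset.mem_univ _,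
      (hmem _).2 (by rw [hu]; exact ht')⟩, hu⟩
  rw [h1, h0, mul_zero]

variable [Fintype K]

open scoped Classical in
/-- Green's cuspidal character is a generalised character. -/
theorem isGen_cuspChar {p : ℕ} (hp : p.Prime) [CharP F p] [CharP K p]
    (hK : ∀ d, 0 < d → d ≤ n → d ∣ finrank F K) (ι : Kˣ →* ℂˣ) (hι : Function.Injective ι) :
    Cfsg.IsGeneralizedCharacter (GL (Fin n) F) (cuspChar ι) := by
  haveI := Fintype.ofFinite F
  letI : Fintype (Module.End F (Fin n → F))ˣ := Fintype.ofFinite _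
  have h := Characters.isGen_comp (glEquiv F n).toMonoidHom
    (isGen_green (V := Fin n → F) hp (fun d hd hd' => hK d hd (by
      rwa [finrank_fin_fun] at hd')) ι hι)
  rcases Nat.even_or_odd n with he | ho
  · convert h using 1
    funext g
    simp [cuspChar, he.neg_one_pow]
  · convert Characters.isGen_sub Characters.isGen_zero h using 1
    funext g
    simp [cuspChar, ho.neg_one_pow]

section Orth

variable (ι₀ : Kˣ →* ℂˣ)

omit [Finite F] in
open scoped Classical in
/-- Orthogonality on the subgroup of `M`th roots of unity. -/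
theorem sum_root_char (hι : Function.Injective ι₀) {M : ℕ} (hM : 0 < M)
    (hdvd : M ∣ Fintype.card Kˣ) (u v : ℕ) :
    ∑ α : Kˣ, (if α ^ M = 1 then (ι₀ (α ^ u) : ℂ) * conj ((ι₀ (α ^ v) : ℂ)) else 0) =
      if u ≡ v [MOD M] then (M : ℂ) else 0 := by
  obtain ⟨g, hg⟩ := IsCyclic.exists_ofOrder_eq_natCard (α := Kˣ)
  rw [Nat.card_eq_fintype_card] at hg
  set L := Fintype.card Kˣ with hL
  have hL0 : 0 < L := Fintype.card_pos
  have hg0 : orderOf (g ^ (L / M)) = M := by
    rw [orderOf_pow' _ (Nat.div_pos (Nat.le_of_dvd hL0 hdvd) hM).ne', hg,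
      Nat.gcd_eq_right (Nat.div_dvd_of_dvd hdvd), Nat.div_div_self hdvd hL0.ne']
  have hcard : (Finset.univ.filter fun α : Kˣ => α ^ M = 1).card = M := by
    refine le_antisymm (IsCyclic.card_pow_eq_one_le hM) ?_
    calc M = ((Finset.range M).image fun i => (g ^ (L / M)) ^ i).card := by
          rw [Finset.card_image_of_injOn, Finset.card_range]
          intro a ha b hb h
          simp only [Finset.coe_range, Set.mem_Iio] at ha hb
          exact pow_injOn_Iio_orderOf (by rwa [Set.mem_Iio, hg0]) (by rwa [Set.mem_Iio, hg0]) h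
      _ ≤ _ := Finset.card_le_card fun x hx => by
          obtain ⟨i, -, rfl⟩ := Finset.mem_image.1 hx
          refine Finset.mem_filter.2 ⟨Finset.mem_univ _, ?_⟩
          rw [← pow_mul, mul_comm, pow_mul, show (g ^ (L / M)) ^ M = 1 by
            rw [← orderOf_dvd_iff_pow_eq_one, hg0], one_pow]
  have hconj : ∀ x : Kˣ, (ι₀ x : ℂ) * conj ((ι₀ x : ℂ)) = 1 := fun x => by
    rw [Complex.mul_conj', Complex.norm_eq_one_of_pow_eq_one (n := L) ?_ hL0.ne']
    · simp
    · rw [← Units.val_pow_eq_pow_val, ← map_pow, hL, pow_card_eq_one, map_one, Units.val_one]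
  rw [← Finset.sum_filter]
  split_ifs with huv
  · rw [Finset.sum_congr rfl (g := fun _ => (1 : ℂ)) fun α hα => ?_, Finset.sum_const, hcard,
      nsmul_eq_mul, mul_one]
    have ho : orderOf α ∣ M := orderOf_dvd_of_pow_eq_one (Finset.mem_filter.1 hα).2
    rw [pow_eq_pow_iff_modEq.2 (huv.of_dvd ho), hconj]
  · set s := Finset.univ.filter fun α : Kˣ => α ^ M = 1 with hs
    set φ : Kˣ → ℂ := fun α => (ι₀ (α ^ u) : ℂ) * conj ((ι₀ (α ^ v) : ℂ)) with hφ
    set a := g ^ (L / M)
    have haM : a ^ M = 1 := by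
      rw [← hg0]
      exact pow_orderOf_eq_one a
    have hne : φ a ≠ 1 := fun h => huv <| by
      have h1 : (ι₀ (a ^ u) : ℂ) = (ι₀ (a ^ v) : ℂ) := by
        calc (ι₀ (a ^ u) : ℂ) = (ι₀ (a ^ u) : ℂ) * ((ι₀ (a ^ v) : ℂ) * conj ((ι₀ (a ^ v) : ℂ))) := by
              rw [hconj, mul_one]
          _ = φ a * (ι₀ (a ^ v) : ℂ) := by rw [hφ]; ring
          _ = _ := by rw [h, one_mul]
      exact hg0 ▸ pow_eq_pow_iff_modEq.1 (hι (Units.ext h1))
    have he : φ a * ∑ α ∈ s, φ α = ∑ α ∈ s, φ α := by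
      rw [Finset.mul_sum]
      refine Finset.sum_equiv (Equiv.mulLeft a) (fun α => ?_) fun α _ => ?_
      · simp [hs, mul_pow, haM]
      · simp only [hφ, Equiv.coe_mulLeft, mul_pow, map_mul, Units.val_mul]
        ring
    have : (φ a - 1) * ∑ α ∈ s, φ α = 0 := by rw [sub_mul, he, one_mul, sub_self]
    exact (mul_eq_zero.1 this).resolve_left (sub_ne_zero.2 hne)

omit [Finite F] in
open scoped Classical in
theorem sum_orb (hι : Function.Injective ι₀) {M : ℕ} (hM : 0 < M) (hdvd : M ∣ Fintype.card Kˣ)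
    (m a a' : ℕ) :
    ∑ α : Kˣ, (if α ^ M = 1 then
        orb (F := F) (ι₀ ^ a) m α * conj (orb (F := F) (ι₀ ^ a') m α) else 0) =
      ∑ i ∈ Finset.range m, ∑ j ∈ Finset.range m,
        if Nat.card F ^ i * a ≡ Nat.card F ^ j * a' [MOD M] then (M : ℂ) else 0 := by
  simp only [orb, MonoidHom.pow_apply, ← map_pow, ← pow_mul, map_sum, Finset.sum_mul,
    Finset.mul_sum]
  rw [Finset.sum_congr rfl (g := fun α => ∑ i ∈ Finset.range m, ∑ j ∈ Finset.range m,
      if α ^ M = 1 then (ι₀ (α ^ (Nat.card F ^ i * a)) : ℂ) *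
        conj ((ι₀ (α ^ (Nat.card F ^ j * a')) : ℂ)) else 0) fun α _ => by
      split_ifs with h
      · rw [Finset.sum_comm]
      · simp, Finset.sum_comm]
  refine Finset.sum_congr rfl fun i _ => ?_
  rw [Finset.sum_comm]
  exact Finset.sum_congr rfl fun j _ =>
    sum_root_char ι₀ hι hM hdvd (Nat.card F ^ i * a) (Nat.card F ^ j * a')

end Orth

open scoped Classical in
/-- The cuspidal characters. -/
theorem exists_cusp [Fintype F] [Fintype (GL (Fin n) F)] (hn : 2 ≤ n) :
    ∃ Φ : (ZMod (Nat.card F ^ n - 1))ˣ → Cfsg.IrrCharacter (GL (Fin n) F),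
      (∀ b, (Φ b : GL (Fin n) F → ℂ) 1 = ∏ i ∈ Finset.Ico 1 n, ((Nat.card F : ℂ) ^ i - 1)) ∧
      (∀ b (m : ℕ), 0 < m → m < n →
        (∑ g : GL (Fin n) F, if (∀ i j : Fin n, ¬ (i.val < m ∧ m ≤ j.val) →
            (g : Matrix (Fin n) (Fin n) F) i j = (1 : Matrix (Fin n) (Fin n) F) i j)
          then (Φ b : GL (Fin n) F → ℂ) g else 0) = 0) ∧
      ∀ b b', Φ b = Φ b' → ∃ k < n,
        (b' : ZMod (Nat.card F ^ n - 1)) = (b : ZMod (Nat.card F ^ n - 1)) *
          (Nat.card F : ZMod (Nat.card F ^ n - 1)) ^ k := by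
  set q := Nat.card F
  set M := q ^ n - 1 with hMdef
  have hq : 2 ≤ q := Finite.one_lt_card
  have hqn : 2 * q ^ (n - 1) ≤ q ^ n := by
    conv_rhs => rw [show n = n - 1 + 1 by omega, pow_succ']
    exact Nat.mul_le_mul_right _ hq
  have hq' : 2 ≤ q ^ (n - 1) := hq.trans (Nat.le_self_pow (by omega) q)
  have hM : 0 < M := by omega
  haveI : NeZero M := ⟨hM.ne'⟩
  set p := ringChar F
  haveI hp : Fact p.Prime := ⟨CharP.char_is_prime F p⟩
  haveI : NeZero n.factorial := ⟨n.factorial_ne_zero⟩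
  let K := FiniteField.Extension F p n.factorial
  letI : Fintype K := Fintype.ofFinite K
  haveI : CharP K p := charP_of_injective_algebraMap (algebraMap F K).injective p
  have hfin : finrank F K = n.factorial := FiniteField.finrank_extension F p _
  have hK : ∀ d, 0 < d → d ≤ n → d ∣ finrank F K := fun d hd hd' =>
    by rw [hfin]; exact Nat.dvd_factorial hd hd'
  set L := Fintype.card Kˣ with hL
  have hLK : L = q ^ n.factorial - 1 := by
    rw [hL, Fintype.card_units, Fintype.card_eq_nat_card, card_eq_pow (F := F) (K := K), hfin]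
  obtain ⟨j, hj⟩ := Nat.dvd_factorial (show 0 < n by omega) le_rfl
  have hML : M ∣ L := by
    rw [hLK, hj, pow_mul, hMdef]
    simpa using Nat.sub_dvd_pow_sub_pow (q ^ n) 1 j
  haveI : NeZero L := ⟨Fintype.card_ne_zero⟩
  have hc : Nat.card Kˣ = Nat.card (rootsOfUnity L ℂ) := by
    rw [Complex.card_rootsOfUnity, Nat.card_eq_fintype_card]
  let e : Kˣ ≃* rootsOfUnity L ℂ := mulEquivOfCyclicCardEq hc
  let ι₀ : Kˣ →* ℂˣ := (rootsOfUnity L ℂ).subtype.comp e.toMonoidHom
  have hι₀ : Function.Injective ι₀ := (rootsOfUnity L ℂ).subtype_injective.comp e.injective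
  choose lift hlift using ZMod.unitsMap_surjective hML
  let A : (ZMod M)ˣ → ℕ := fun b => ((lift b : (ZMod L)ˣ) : ZMod L).val
  have hA : ∀ b, ((A b : ℕ) : ZMod M) = (b : ZMod M) := fun b => by
    conv_rhs => rw [← hlift b, ZMod.unitsMap_val]
    exact ZMod.natCast_val _
  have hinj : ∀ b, Function.Injective (ι₀ ^ A b) := fun b => by
    rw [injective_iff_map_eq_one]
    intro x hx
    rw [MonoidHom.pow_apply, ← map_pow] at hx
    have h1 : x ^ A b = 1 := hι₀ (hx.trans (map_one ι₀).symm)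
    have h2 : orderOf x ∣ 1 := by
      rw [← (ZMod.val_coe_unit_coprime (lift b)).gcd_eq_one]
      exact Nat.dvd_gcd (orderOf_dvd_of_pow_eq_one h1) (hL ▸ orderOf_dvd_card)
    exact orderOf_eq_one_iff.1 (Nat.dvd_one.1 h2)
  have hn' : finrank F (Fin n → F) = n := finrank_fin_fun F
  have hMc : (M : ℂ) = (q : ℂ) ^ n - 1 := by
    rw [hMdef, Nat.cast_sub (Nat.one_le_pow _ _ (by omega)), Nat.cast_pow, Nat.cast_one]
  have hM0 : (M : ℂ) ≠ 0 := Nat.cast_ne_zero.2 hM.ne'
  have hn0 : (n : ℂ) ≠ 0 := Nat.cast_ne_zero.2 (by omega)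
  have hinner : ∀ b b', ((n : ℂ) * (M : ℂ)) *
      Cfsg.classInner (cuspChar (F := F) (n := n) (ι₀ ^ A b)) (cuspChar (ι₀ ^ A b')) =
      ∑ i ∈ Finset.range n, ∑ j ∈ Finset.range n,
        if q ^ i * A b ≡ q ^ j * A b' [MOD M] then (M : ℂ) else 0 := by
    intro b b'
    have h := inner_green (ι₀ ^ A b) (ι₀ ^ A b') hn' (by omega) hK
    rw [sum_orb ι₀ hι₀ hM hML, ← hMc] at h
    rw [classInner_cuspChar, mul_left_comm, h, ← mul_assoc,
      inv_mul_cancel₀ (Nat.cast_ne_zero.2 glc_pos.ne'), one_mul]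
  have hlt : ∀ i, i < n → q ^ i < M := fun i hi => by
    have : q ^ i ≤ q ^ (n - 1) := Nat.pow_le_pow_right (by omega) (by omega)
    omega
  have hnorm : ∀ b, Cfsg.classInner (cuspChar (F := F) (n := n) (ι₀ ^ A b))
      (cuspChar (ι₀ ^ A b)) = 1 := by
    intro b
    refine mul_left_cancel₀ (mul_ne_zero hn0 hM0) ?_
    rw [hinner b b, mul_one, Finset.sum_congr rfl fun i hi => Finset.sum_eq_single i
      (fun j hj hji => if_neg fun h => hji ?_) fun h => absurd hi h]
    · rw [Finset.sum_congr rfl fun i _ => if_pos (Nat.ModEq.refl _), Finset.sum_const,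
        Finset.card_range, nsmul_eq_mul]
    · have hcop : Nat.gcd M (A b) = 1 := by
        rw [Nat.gcd_comm]
        exact ((ZMod.val_coe_unit_coprime (lift b)).coprime_dvd_right hML).gcd_eq_one
      have h1 := Nat.ModEq.cancel_right_of_coprime hcop h
      exact (Nat.pow_right_injective hq (h1.eq_of_lt_of_lt (hlt i (Finset.mem_range.1 hi))
        (hlt j (Finset.mem_range.1 hj)))).symm
  have hone : ∀ b, cuspChar (F := F) (n := n) (ι₀ ^ A b) 1 =
      ((∏ i ∈ Finset.Ico 1 n, ((q : ℝ) ^ i - 1) : ℝ) : ℂ) := fun b => by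
    rw [cuspChar_one _ (by omega)]
    push_cast
    rfl
  have hirr : ∀ b, Cfsg.IsIrrCharacter (GL (Fin n) F) (cuspChar (ι₀ ^ A b)) := fun b => by
    refine Characters.isIrr_of_gen_norm_one
      (isGen_cuspChar hp.out hK _ (hinj b)) (hnorm b) ?_
    rw [hone, Complex.ofReal_re]
    refine Finset.prod_pos fun i hi => sub_pos.2 (one_lt_pow₀ ?_ ?_)
    · exact_mod_cast hq
    · have := (Finset.mem_Ico.1 hi).1
      omega
  refine ⟨fun b => ⟨_, hirr b⟩, fun b => cuspChar_one _ (by omega),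
    fun b m hm hmn => sum_cuspChar _ hm hmn, fun b b' he => ?_⟩
  have he' := congrArg Subtype.val he
  simp only at he'
  have h0 : Cfsg.classInner (cuspChar (F := F) (n := n) (ι₀ ^ A b)) (cuspChar (ι₀ ^ A b')) = 1 := by
    rw [← he']
    exact hnorm b
  have h1 := hinner b b'
  rw [h0, mul_one] at h1
  obtain ⟨i, hi, h2⟩ := Finset.exists_ne_zero_of_sum_ne_zero
    (h1 ▸ mul_ne_zero hn0 hM0 : _ ≠ (0 : ℂ))
  obtain ⟨k, hk, h3⟩ := Finset.exists_ne_zero_of_sum_ne_zero h2
  have h4 : q ^ i * A b ≡ q ^ k * A b' [MOD M] := by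
    by_contra h
    exact h3 (if_neg h)
  have h5 : (q : ZMod M) ^ n = 1 := by
    rw [← Nat.cast_pow, show q ^ n = M + 1 by omega, Nat.cast_add, ZMod.natCast_self, zero_add,
      Nat.cast_one]
  have h6 := (ZMod.natCast_eq_natCast_iff _ _ _).2 h4
  push_cast [hA] at h6
  have hi' := Finset.mem_range.1 hi
  have hk' := Finset.mem_range.1 hk
  refine ⟨(i + (n - k)) % n, Nat.mod_lt _ (by omega), ?_⟩
  rw [← pow_eq_pow_mod _ h5]
  calc (b' : ZMod M) = (q : ZMod M) ^ k * b' * (q : ZMod M) ^ (n - k) := by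
        rw [mul_right_comm, ← pow_add, Nat.add_sub_cancel' hk'.le, h5, one_mul]
    _ = (q : ZMod M) ^ i * b * (q : ZMod M) ^ (n - k) := by rw [h6]
    _ = _ := by rw [pow_add]; ring

end Cfsg.Agent.Green
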