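import Cfsg.Agent.Lib.Green.Lattice

/-!
# Averaging the Möbius function over a unipotent radical

The average of `mob (f + t)` over the translations `t` attached to an invariant subspace `X`
is the product of the Möbius functions on `X` and on the quotient.
-/

namespace Cfsg.Agent.Green

open Module Submodule

variable {F : Type*} [Field F] {V : Type*} [AddCommGroup V] [Module F V]

/-- The translations attached to `X`: maps killing `X` with values in `X`. -/
def trans (X : Submodule F V) : Submodule F (Module.End F V) where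
  carrier := {t | (∀ x ∈ X, t x = 0) ∧ ∀ v, t v ∈ X}
  add_mem' {a b} ha hb := ⟨fun x hx => by simp [ha.1 x hx, hb.1 x hx],
    fun v => by simpa using X.add_mem (ha.2 v) (hb.2 v)⟩
  zero_mem' := ⟨fun x _ => rfl, fun v => X.zero_mem⟩
  smul_mem' c t ht := ⟨fun x hx => by simp [ht.1 x hx],
    fun v => by simpa using X.smul_mem c (ht.2 v)⟩

theorem inv_add_trans {X : Submodule F V} {f t : Module.End F V} (hX : Inv f X)
    (ht : t ∈ trans X) : Inv (f + t) X := fun v hv => by
  simpa [ht.1 v hv] using hX v hv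

theorem mkQ_trans {X : Submodule F V} {t : Module.End F V} (ht : t ∈ trans X) (v : V) :
    X.mkQ (t v) = 0 := (Submodule.Quotient.mk_eq_zero X).2 (ht.2 v)

theorem quot_add_trans {X : Submodule F V} {f t : Module.End F V} (hX : Inv f X)
    (ht : t ∈ trans X) : quot (f + t) X (inv_add_trans hX ht) = quot f X hX := by
  apply Submodule.linearMap_qext
  ext v
  simp only [LinearMap.comp_apply, quot_mk, LinearMap.add_apply, map_add]
  rw [mkQ_trans ht, add_zero]

/-- The translations keeping a subspace over `(A, B)` in place. -/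
def stab (X A : Submodule F V) (B : Submodule F (V ⧸ X)) : Submodule F (Module.End F V) :=
  trans X ⊓
    { carrier := {t | ∀ v, X.mkQ v ∈ B → t v ∈ A}
      add_mem' := fun {a b} ha hb v hv => by simpa using A.add_mem (ha v hv) (hb v hv)
      zero_mem' := fun v _ => A.zero_mem
      smul_mem' := fun c t ht v hv => by simpa using A.smul_mem c (ht v hv) }

theorem stab_le_trans {X A : Submodule F V} {B : Submodule F (V ⧸ X)} : stab X A B ≤ trans X :=
  inf_le_left

/-- Subspaces of the quotient lift linearly into any subspace over them. -/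
theorem exists_section (X W : Submodule F V) :
    ∃ c : ↥(W.map X.mkQ) →ₗ[F] ↥W, ∀ b, X.mkQ (c b : V) = (b : V ⧸ X) := by
  have hs : Function.Surjective (X.mkQ.submoduleMap W) := LinearMap.submoduleMap_surjective _ _
  obtain ⟨c, hc⟩ := LinearMap.exists_rightInverse_of_surjective _ (LinearMap.range_eq_top.2 hs)
  exact ⟨c, fun b => congrArg Subtype.val (LinearMap.congr_fun hc b)⟩

/-- A translation extending a prescribed map on a subspace of the quotient. -/
theorem exists_trans (X : Submodule F V) (B : Submodule F (V ⧸ X)) (s : ↥B →ₗ[F] ↥X) :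
    ∃ t ∈ trans X, ∀ v (hv : X.mkQ v ∈ B), t v = (s ⟨X.mkQ v, hv⟩ : V) := by
  obtain ⟨e, he⟩ := LinearMap.exists_extend s
  refine ⟨X.subtype ∘ₗ e ∘ₗ X.mkQ, ⟨fun x hx => ?_, fun v => (e (X.mkQ v)).2⟩, fun v hv => ?_⟩
  · simp [(Submodule.Quotient.mk_eq_zero X).2 hx]
  · simp only [LinearMap.comp_apply, Submodule.subtype_apply]
    rw [← he]
    rfl

/-- The subspaces over a pair. -/
def Over (X A : Submodule F V) (B : Submodule F (V ⧸ X)) (W : Submodule F V) : Prop :=
  W ⊓ X = A ∧ W.map X.mkQ = B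

theorem sub_section_mem {X W : Submodule F V} {w : V} (hw : w ∈ W)
    (c : ↥(W.map X.mkQ) →ₗ[F] ↥W) (hc : ∀ b, X.mkQ (c b : V) = (b : V ⧸ X)) :
    w - (c ⟨X.mkQ w, Submodule.mem_map_of_mem hw⟩ : V) ∈ W ⊓ X :=
  ⟨W.sub_mem hw (c _).2, by
    rw [SetLike.mem_coe, ← Submodule.Quotient.mk_eq_zero X, ← Submodule.mkQ_apply, map_sub, hc,
      sub_self]⟩

/-- `1 + t` moves a subspace over `(A, B)` to another one exactly by `stab`, and reaches all. -/
theorem exists_move {X A : Submodule F V} {B : Submodule F (V ⧸ X)} {W₀ W : Submodule F V}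
    (hW₀ : Over X A B W₀) (hW : Over X A B W) :
    ∃ t ∈ trans X, W₀.map (1 + t) = W := by
  obtain ⟨c, hc⟩ := exists_section X W
  obtain ⟨c₀, hc₀⟩ := exists_section X W₀
  let i : ↥B →ₗ[F] ↥(W.map X.mkQ) := Submodule.inclusion hW.2.ge
  let i₀ : ↥B →ₗ[F] ↥(W₀.map X.mkQ) := Submodule.inclusion hW₀.2.ge
  have hmem : ∀ b : ↥B, (c (i b) : V) - (c₀ (i₀ b) : V) ∈ X := fun b => by
    rw [← Submodule.Quotient.mk_eq_zero X, ← Submodule.mkQ_apply, map_sub, hc, hc₀]
    exact sub_self _
  let s : ↥B →ₗ[F] ↥X :=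
    LinearMap.codRestrict X (W.subtype ∘ₗ c ∘ₗ i - W₀.subtype ∘ₗ c₀ ∘ₗ i₀) fun b => hmem b
  obtain ⟨t, ht, hts⟩ := exists_trans X B s
  refine ⟨t, ht, le_antisymm ?_ ?_⟩
  · rintro _ ⟨w, hw, rfl⟩
    have hb : X.mkQ w ∈ B := hW₀.2 ▸ Submodule.mem_map_of_mem hw
    have hsub := (SetLike.ext_iff.1 (hW₀.1.trans hW.1.symm) _).1 (sub_section_mem hw c₀ hc₀)
    have : (1 + t) w = (w - (c₀ ⟨_, Submodule.mem_map_of_mem hw⟩ : V)) +
        (c (i ⟨X.mkQ w, hb⟩) : V) := by
      simp only [LinearMap.add_apply, Module.End.one_apply, hts w hb]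
      show w + ((c (i ⟨X.mkQ w, hb⟩) : V) - (c₀ (i₀ ⟨X.mkQ w, hb⟩) : V)) = _
      rw [show i₀ ⟨X.mkQ w, hb⟩ = ⟨X.mkQ w, Submodule.mem_map_of_mem hw⟩ from rfl]
      abel
    rw [this]
    exact W.add_mem hsub.1 (c _).2
  · intro w hw
    have hb : X.mkQ w ∈ B := hW.2 ▸ Submodule.mem_map_of_mem hw
    have hsub := (SetLike.ext_iff.1 (hW.1.trans hW₀.1.symm) _).1 (sub_section_mem hw c hc)
    refine ⟨(w - (c ⟨_, Submodule.mem_map_of_mem hw⟩ : V)) + (c₀ (i₀ ⟨X.mkQ w, hb⟩) : V),
      W₀.add_mem hsub.1 (c₀ _).2, ?_⟩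
    have hb' : X.mkQ (c₀ (i₀ ⟨X.mkQ w, hb⟩) : V) = X.mkQ w := hc₀ _
    have h0 := ht.1 _ hsub.2
    simp only [LinearMap.add_apply, Module.End.one_apply]
    rw [map_add, h0, zero_add, hts _ (hb'.symm ▸ hb)]
    simp only [hb']
    show _ + ((c (i ⟨X.mkQ w, hb⟩) : V) - (c₀ (i₀ ⟨X.mkQ w, hb⟩) : V)) = w
    rw [show i ⟨X.mkQ w, hb⟩ = ⟨X.mkQ w, Submodule.mem_map_of_mem hw⟩ from rfl]
    abel

theorem over_map_trans {X A : Submodule F V} {B : Submodule F (V ⧸ X)} {W₀ : Submodule F V}
    (hW₀ : Over X A B W₀) {t : Module.End F V} (ht : t ∈ trans X) :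
    Over X A B (W₀.map (1 + t)) := by
  constructor
  · apply le_antisymm
    · rintro v ⟨⟨w, hw, rfl⟩, hvX⟩
      have hwX : w ∈ X := by simpa using X.sub_mem hvX (ht.2 w)
      rw [← hW₀.1]
      simpa [ht.1 w hwX] using (show w ∈ W₀ ⊓ X from ⟨hw, hwX⟩)
    · intro a ha
      rw [← hW₀.1] at ha
      exact ⟨⟨a, ha.1, by simp [ht.1 a ha.2]⟩, ha.2⟩
  · rw [← Submodule.map_comp, show X.mkQ ∘ₗ (1 + t) = X.mkQ from ?_, hW₀.2]
    ext v
    simpa using (Submodule.Quotient.mk_eq_zero X).2 (ht.2 v)

theorem map_eq_map_iff {X A : Submodule F V} {B : Submodule F (V ⧸ X)} {W₀ : Submodule F V}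
    (hW₀ : Over X A B W₀) {t₁ t₂ : Module.End F V} (h₁ : t₁ ∈ trans X) (h₂ : t₂ ∈ trans X) :
    W₀.map (1 + t₁) = W₀.map (1 + t₂) ↔ t₂ - t₁ ∈ stab X A B := by
  constructor
  · intro h
    refine ⟨(trans X).sub_mem h₂ h₁, fun v hv => ?_⟩
    obtain ⟨w, hw, hwv⟩ : X.mkQ v ∈ W₀.map X.mkQ := hW₀.2.symm ▸ hv
    have hvw : (t₂ - t₁) v = (t₂ - t₁) w := by
      rw [← sub_eq_zero, ← map_sub]
      exact ((trans X).sub_mem h₂ h₁).1 _ ((Submodule.Quotient.eq X).1 hwv.symm)
    rw [hvw]
    have hm : (1 + t₂) w ∈ W₀.map (1 + t₁) := by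
      rw [h]
      exact Submodule.mem_map_of_mem hw
    obtain ⟨w', hw', he⟩ := hm
    simp only [LinearMap.add_apply, Module.End.one_apply] at he
    have hX' : w' - w ∈ X := by
      have : w' - w = t₂ w - t₁ w' := by rw [sub_eq_sub_iff_add_eq_add, he, add_comm]
      rw [this]
      exact X.sub_mem (h₂.2 w) (h₁.2 w')
    have ht : t₁ w' = t₁ w := by
      rw [← sub_eq_zero, ← map_sub]
      exact h₁.1 _ hX'
    rw [ht] at he
    rw [← hW₀.1]
    refine ⟨?_, ((trans X).sub_mem h₂ h₁).2 w⟩
    have : (t₂ - t₁) w = w' - w := by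
      simp only [LinearMap.sub_apply]
      rw [sub_eq_sub_iff_add_eq_add, add_comm, ← he]
    rw [this]
    exact W₀.sub_mem hw' hw
  · intro hs
    have key : ∀ a b : Module.End F V, a ∈ trans X → b - a ∈ stab X A B →
        W₀.map (1 + b) ≤ W₀.map (1 + a) := by
      rintro a b ha hab _ ⟨w, hw, rfl⟩
      have hA' : (b - a) w ∈ W₀ ⊓ X :=
        hW₀.1.symm ▸ hab.2 w (hW₀.2 ▸ Submodule.mem_map_of_mem hw)
      refine ⟨w + (b - a) w, W₀.add_mem hw hA'.1, ?_⟩
      have h0 := ha.1 _ hA'.2
      simp only [LinearMap.add_apply, Module.End.one_apply]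
      rw [map_add, h0, add_zero, LinearMap.sub_apply]
      abel
    refine le_antisymm (key _ _ h₂ ?_) (key _ _ h₁ hs)
    rw [← neg_sub]
    exact (stab X A B).neg_mem hs

/-- The subspaces over a pair, counted. -/
theorem card_over_mul_card_stab [Finite V] (X A : Submodule F V) (B : Submodule F (V ⧸ X))
    (hA : A ≤ X) :
    Nat.card {W : Submodule F V // Over X A B W} * Nat.card ↥(stab X A B) =
      Nat.card ↥(trans X) := by
  obtain ⟨σ, hσ⟩ := LinearMap.exists_rightInverse_of_surjective X.mkQ X.range_mkQ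
  have hσ' : ∀ q, X.mkQ (σ q) = q := fun q => LinearMap.congr_fun hσ q
  let W₀ : Submodule F V := A ⊔ B.map σ
  have hA0 : ∀ a ∈ A, X.mkQ a = 0 := fun a ha => (Submodule.Quotient.mk_eq_zero X).2 (hA ha)
  have hW₀ : Over X A B W₀ := by
    refine ⟨le_antisymm ?_ (le_inf le_sup_left hA), le_antisymm ?_ fun b hb => ?_⟩
    · rintro v ⟨hv, hvX⟩
      obtain ⟨a, ha, _, ⟨b, hb, rfl⟩, rfl⟩ := Submodule.mem_sup.1 hv
      have h0 : X.mkQ (a + σ b) = 0 := (Submodule.Quotient.mk_eq_zero X).2 hvX
      rw [map_add, hσ', hA0 a ha, zero_add] at h0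
      simpa [h0] using ha
    · rintro _ ⟨v, hv, rfl⟩
      obtain ⟨a, ha, _, ⟨b, hb, rfl⟩, rfl⟩ := Submodule.mem_sup.1 hv
      rw [map_add, hσ', hA0 a ha, zero_add]
      exact hb
    · exact ⟨σ b, Submodule.mem_sup_right (Submodule.mem_map_of_mem hb), hσ' b⟩
  let Φ : ↥(trans X) → {W : Submodule F V // Over X A B W} :=
    fun t => ⟨_, over_map_trans hW₀ t.2⟩
  have hΦ : ∀ W, ∃ t, Φ t = W := fun W => by
    obtain ⟨t, ht, h⟩ := exists_move hW₀ W.2
    exact ⟨⟨t, ht⟩, Subtype.ext h⟩
  choose sInv hsInv using hΦ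
  have hker : ∀ t₁ t₂ : ↥(trans X), Φ t₁ = Φ t₂ ↔
      ((t₂ : Module.End F V) - t₁) ∈ stab X A B := fun t₁ t₂ =>
    Subtype.ext_iff.trans (map_eq_map_iff hW₀ t₁.2 t₂.2)
  let e : ↥(trans X) ≃ {W : Submodule F V // Over X A B W} × ↥(stab X A B) :=
    { toFun := fun t => (Φ t, ⟨(sInv (Φ t) : Module.End F V) - t,
        (hker t _).1 (hsInv _).symm⟩)
      invFun := fun p => ⟨(sInv p.1 : Module.End F V) - (p.2 : Module.End F V),
        (trans X).sub_mem (sInv p.1).2 (stab_le_trans p.2.2)⟩
      left_inv := fun t => Subtype.ext (sub_sub_cancel _ _)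
      right_inv := fun p => by
        have ht : Φ ⟨(sInv p.1 : Module.End F V) - (p.2 : Module.End F V),
            (trans X).sub_mem (sInv p.1).2 (stab_le_trans p.2.2)⟩ = p.1 := by
          conv_rhs => rw [← hsInv p.1]
          exact (hker _ _).2 (by simp)
        refine Prod.ext ht (Subtype.ext ?_)
        show (sInv (Φ _) : Module.End F V) - ((sInv p.1 : Module.End F V) - _) = _
        rw [ht, sub_sub_cancel] }
  rw [← Nat.card_prod]
  exact Nat.card_congr e.symm

variable [Finite V]

open scoped Classical in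
/-- The sum of the Möbius functions of `f + t` at `W`, over translations keeping `W`. -/
noncomputable def keep (f : Module.End F V) (X W : Submodule F V) : ℤ :=
  ∑ t : Module.End F V, if t ∈ trans X ∧ Inv (f + t) W then mob (f + t) W else 0

open scoped Classical in
/-- The expected value of `keep`. -/
noncomputable def keep' (f : Module.End F V) (X : Submodule F V) (hX : Inv f X)
    (W : Submodule F V) : ℤ :=
  if Inv f (W ⊓ X) ∧ Inv (quot f X hX) (W.map X.mkQ) then
    Nat.card ↥(stab X (W ⊓ X) (W.map X.mkQ)) *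
      (mob f (W ⊓ X) * mob (quot f X hX) (W.map X.mkQ))
  else 0

open scoped Classical in
theorem sum_keep' (f : Module.End F V) (X : Submodule F V) (hX : Inv f X)
    (φ : Submodule F V → Submodule F (V ⧸ X) → ℂ) :
    ∑ W : Submodule F V, (keep' f X hX W : ℂ) * φ (W ⊓ X) (W.map X.mkQ) =
      (Nat.card ↥(trans X) : ℂ) *
        ∑ A : Submodule F V, ∑ B : Submodule F (V ⧸ X),
          if A ≤ X ∧ Inv f A ∧ Inv (quot f X hX) B then
            ((mob f A * mob (quot f X hX) B : ℤ) : ℂ) * φ A B else 0 := by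
  let π : Submodule F V → Submodule F V × Submodule F (V ⧸ X) :=
    fun W => (W ⊓ X, W.map X.mkQ)
  rw [← Finset.sum_fiberwise Finset.univ π, Fintype.sum_prod_type, Finset.mul_sum]
  refine Finset.sum_congr rfl fun A _ => ?_
  rw [Finset.mul_sum]
  refine Finset.sum_congr rfl fun B _ => ?_
  by_cases hA : A ≤ X
  · rw [Finset.sum_congr rfl (g := fun _ => (if Inv f A ∧ Inv (quot f X hX) B then
        ((Nat.card ↥(stab X A B) * (mob f A * mob (quot f X hX) B) : ℤ) : ℂ) else 0) * φ A B)
      fun W hW => ?_]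
    · rw [Finset.sum_const, nsmul_eq_mul]
      have hc : (Finset.univ.filter fun W => π W = (A, B)).card =
          Nat.card {W : Submodule F V // Over X A B W} := by
        rw [← Nat.subtype_card]
        intro W
        simp [π, Over]
      rw [hc]
      by_cases hI : Inv f A ∧ Inv (quot f X hX) B
      · rw [if_pos hI, if_pos ⟨hA, hI⟩, ← card_over_mul_card_stab X A B hA]
        push_cast
        ring
      · rw [if_neg hI, if_neg fun h => hI h.2]
        simp
    · obtain ⟨-, hW⟩ := Finset.mem_filter.1 hW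
      simp only [π, Prod.ext_iff] at hW
      obtain ⟨h1, h2⟩ := hW
      rw [keep', h1, h2]
      split <;> simp
  · rw [Finset.sum_eq_zero fun W hW => ?_, if_neg fun h => hA h.1, mul_zero]
    obtain ⟨-, hW⟩ := Finset.mem_filter.1 hW
    simp only [π, Prod.ext_iff] at hW
    exact absurd (hW.1 ▸ inf_le_right) hA

universe w

open scoped Classical in
/-- The case of the whole space follows from the proper subspaces. -/
theorem top_of_proper {V : Type w} [AddCommGroup V] [Module F V] [Finite V]
    (f : Module.End F V) (X : Submodule F V) (hX : Inv f X)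
    (hprop : ∀ W' : Submodule F V, W' ≠ ⊤ → keep f X W' = keep' f X hX W') :
    keep f X ⊤ = keep' f X hX ⊤ := by
  have h1 : ∑ W' : Submodule F V, (keep f X W' : ℂ) =
      (Nat.card ↥(trans X) : ℂ) * if (⊤ : Submodule F V) = ⊥ then 1 else 0 := by
    simp only [keep, Int.cast_sum]
    rw [Finset.sum_comm]
    rw [Finset.sum_congr rfl (g := fun t => if t ∈ trans X then
      (if (⊤ : Submodule F V) = ⊥ then (1 : ℂ) else 0) else 0) fun t _ => ?_]
    · rw [← Finset.sum_filter, Finset.sum_const, nsmul_eq_mul, ← Nat.subtype_card]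
      intro t
      simp
    · by_cases ht : t ∈ trans X
      · rw [if_pos ht]
        have hs' := congrArg (fun z : ℤ => (z : ℂ)) (sum_mob (f + t) (inv_top (f + t)))
        push_cast at hs'
        rw [← hs']
        refine Finset.sum_congr rfl fun W' _ => ?_
        simp [ht]
      · simp [ht]
  have h2 : ∑ W' : Submodule F V, (keep' f X hX W' : ℂ) =
      (Nat.card ↥(trans X) : ℂ) * if (⊤ : Submodule F V) = ⊥ then 1 else 0 := by
    have hs := sum_keep' f X hX fun _ _ => (1 : ℂ)
    simp only [mul_one] at hs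
    rw [hs]
    congr 1
    have hA := congrArg (fun z : ℤ => (z : ℂ)) (sum_mob f hX)
    have hB := congrArg (fun z : ℤ => (z : ℂ)) (sum_mob (quot f X hX) (inv_top _))
    push_cast at hA hB
    have hprod : ((⊤ : Submodule F V) = ⊥) ↔
        X = ⊥ ∧ (⊤ : Submodule F (V ⧸ X)) = ⊥ := by
      constructor
      · intro h
        have h0 : ∀ v : V, v = 0 := fun v => by
          have : v ∈ (⊥ : Submodule F V) := h ▸ Submodule.mem_top
          simpa using this
        refine ⟨eq_bot_iff.2 fun v _ => by simp [h0 v], eq_bot_iff.2 fun q _ => ?_⟩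
        obtain ⟨v, rfl⟩ := X.mkQ_surjective q
        simp [h0 v]
      · rintro ⟨hX0, hq⟩
        rw [eq_bot_iff]
        intro v _
        have : X.mkQ v ∈ (⊥ : Submodule F (V ⧸ X)) := hq ▸ Submodule.mem_top
        rw [Submodule.mem_bot, Submodule.mkQ_apply, Submodule.Quotient.mk_eq_zero, hX0] at this
        exact this
    have : (if (⊤ : Submodule F V) = ⊥ then (1 : ℂ) else 0) =
        (if X = ⊥ then (1 : ℂ) else 0) *
          (if (⊤ : Submodule F (V ⧸ X)) = ⊥ then 1 else 0) := by
      by_cases a : X = ⊥ <;> by_cases b : (⊤ : Submodule F (V ⧸ X)) = ⊥ <;>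
        simp [hprod, a, b]
    rw [this, ← hA, ← hB, Finset.sum_mul_sum]
    refine Finset.sum_congr rfl fun A _ => Finset.sum_congr rfl fun B _ => ?_
    by_cases a : A ≤ X ∧ Inv f A <;> by_cases b : Inv (quot f X hX) B <;> simp [a, b]
    all_goals simp only [not_and] at a; exact fun h h' => absurd h' (a h)
  have h3 : ∑ W' : Submodule F V, (keep f X W' : ℂ) = ∑ W' : Submodule F V,
      (keep' f X hX W' : ℂ) := by rw [h1, h2]
  rw [← Finset.add_sum_erase _ _ (Finset.mem_univ (⊤ : Submodule F V)),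
    ← Finset.add_sum_erase _ _ (Finset.mem_univ (⊤ : Submodule F V)),
    Finset.sum_congr rfl fun W' hW' => by rw [hprop W' (Finset.ne_of_mem_erase hW')]] at h3
  exact_mod_cast add_right_cancel h3

open scoped Classical in
/-- The average over the translations of `f` by the radical of `X` is the product. -/
theorem keep_eq : ∀ (m : ℕ) {V : Type w} [AddCommGroup V] [Module F V] [Finite V]
    (f : Module.End F V) (X : Submodule F V) (hX : Inv f X) (W : Submodule F V),
    finrank F W ≤ m → keep f X W = keep' f X hX W := by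
  intro m
  induction m using Nat.strong_induction_on with
  | _ m ih =>
  intro V _ _ _ f X hX W hWm
  haveI : FiniteDimensional F V := Module.Finite.of_finite
  set A := W ⊓ X with hAdef
  set B := W.map X.mkQ with hBdef
  by_cases hI : Inv f A ∧ Inv (quot f X hX) B
  · rw [keep', if_pos hI]
    -- some translation keeps `W`
    obtain ⟨c, hc⟩ := exists_section X W
    obtain ⟨t₀, ht₀, hinv₀⟩ : ∃ t₀ ∈ trans X, Inv (f + t₀) W := by
      let qB : ↥B →ₗ[F] ↥B := (quot f X hX).restrict hI.2
      have hmem : ∀ b : ↥B, (c (qB b) : V) - f (c b : V) ∈ X := fun b => by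
        rw [← Submodule.Quotient.mk_eq_zero X, ← Submodule.mkQ_apply, map_sub, hc,
          ← quot_mk f X hX, hc]
        exact sub_self _
      let s : ↥B →ₗ[F] ↥X := LinearMap.codRestrict X
        (W.subtype ∘ₗ c ∘ₗ qB - f ∘ₗ W.subtype ∘ₗ c) fun b => hmem b
      obtain ⟨t₀, ht₀, hts⟩ := exists_trans X B s
      refine ⟨t₀, ht₀, fun w hw => ?_⟩
      have hb : X.mkQ w ∈ B := Submodule.mem_map_of_mem hw
      have hsub : w - (c ⟨_, hb⟩ : V) ∈ A := sub_section_mem hw c hc
      have : (f + t₀) w = f (w - (c ⟨_, hb⟩ : V)) + (c (qB ⟨_, hb⟩) : V) := by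
        rw [LinearMap.add_apply, hts w hb, map_sub]
        show f w + ((c (qB ⟨_, hb⟩) : V) - f (c ⟨_, hb⟩ : V)) = _
        abel
      rw [this]
      exact W.add_mem (hI.1 _ hsub).1 (c _).2
    -- pass to `W`
    let X' : Submodule F W := X.comap W.subtype
    let f' : Module.End F W := (f + t₀).restrict hinv₀
    have hX' : Inv f' X' := fun w hw => (inv_add_trans hX ht₀) _ hw
    have hk : keep f' X' ⊤ = keep' f' X' hX' ⊤ := top_of_proper f' X' hX' fun W' hW' =>
      ih _ (lt_of_lt_of_le (Submodule.finrank_lt hW') hWm) f' X' hX' W' le_rfl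
    -- `trans X'` is the image of the stabiliser
    let res : ↥(stab X A B) →ₗ[F] ↥(trans X') :=
      { toFun := fun t => ⟨(t : Module.End F V).restrict (p := W) (q := W)
            (fun w hw => (t.2.2 w (Submodule.mem_map_of_mem hw)).1),
          ⟨fun x hx => Subtype.ext (t.2.1.1 _ hx), fun w => t.2.1.2 _⟩⟩
        map_add' := fun a b => rfl
        map_smul' := fun r a => rfl }
    have hres : Function.Surjective res := by
      rintro ⟨s, hs⟩
      have hmem : ∀ b : ↥B, (s (c b) : V) ∈ X := fun b => hs.2 (c b)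
      let s' : ↥B →ₗ[F] ↥X := LinearMap.codRestrict X (W.subtype ∘ₗ s ∘ₗ c) hmem
      obtain ⟨t, ht, hts⟩ := exists_trans X B s'
      have htA : ∀ v, X.mkQ v ∈ B → t v ∈ A := fun v hv => by
        rw [hts v hv]
        exact ⟨(s (c _)).2, hmem _⟩
      refine ⟨⟨t, ht, htA⟩, Subtype.ext (LinearMap.ext fun w => Subtype.ext ?_)⟩
      show t w = (s w : V)
      rw [hts w (Submodule.mem_map_of_mem w.2)]
      show (s (c _) : V) = (s w : V)
      congr 1
      rw [← sub_eq_zero, ← map_sub]
      refine hs.1 _ ?_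
      show ((c _ : V) - (w : V)) ∈ X
      rw [← Submodule.Quotient.mk_eq_zero X, ← Submodule.mkQ_apply, map_sub, hc]
      exact sub_self _
    choose σ hσ' using hres
    let e : ↥(stab X A B) ≃ ↥(trans X') × ↥(LinearMap.ker res) :=
      { toFun := fun t => (res t, ⟨t - σ (res t), by
          rw [LinearMap.mem_ker, map_sub, hσ', sub_self]⟩)
        invFun := fun p => σ p.1 + p.2
        left_inv := fun t => add_sub_cancel (σ (res t)) t
        right_inv := fun p => by
          have : res (σ p.1 + p.2) = p.1 := by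
            rw [map_add, hσ', LinearMap.mem_ker.1 p.2.2, add_zero]
          refine Prod.ext this (Subtype.ext ?_)
          show σ p.1 + (p.2 : ↥(stab X A B)) - σ (res _) = _
          rw [this, add_sub_cancel_left] }
    have hterm : ∀ t : ↥(stab X A B), mob (f + (t₀ + (t : Module.End F V))) W =
        mob (f' + (res t : Module.End F W)) ⊤ := by
      intro t
      rw [← mob_top_of_injective (f := f + (t₀ + (t : Module.End F V))) W.subtype
        W.injective_subtype (f' := f' + (res t : Module.End F W)) (fun w => ?_),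
        Submodule.range_subtype]
      show (f + t₀) (w : V) + (t : Module.End F V) w = _
      simp [add_assoc]
    have hkeep : keep f X W = ∑ t : ↥(stab X A B), mob (f + (t₀ + (t : Module.End F V))) W := by
      rw [keep]
      symm
      refine Fintype.sum_of_injective (fun t : ↥(stab X A B) => t₀ + (t : Module.End F V))
        (fun a b h => Subtype.ext (add_left_cancel h)) _ _ (fun u hu => if_neg fun hc => ?_)
        fun t => ?_
      · refine hu ⟨⟨u - t₀, (trans X).sub_mem hc.1 ht₀, fun v hv => ?_⟩, add_sub_cancel t₀ u⟩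
        obtain ⟨w, hw, hwv⟩ : X.mkQ v ∈ W.map X.mkQ := hv
        have : (u - t₀) v = (u - t₀) w := by
          rw [← sub_eq_zero, ← map_sub]
          exact ((trans X).sub_mem hc.1 ht₀).1 _ ((Submodule.Quotient.eq X).1 hwv.symm)
        rw [this]
        refine ⟨?_, ((trans X).sub_mem hc.1 ht₀).2 w⟩
        have h' : (u - t₀) w = (f + u) w - (f + t₀) w := by simp
        rw [h']
        exact W.sub_mem (hc.2 w hw) (hinv₀ w hw)
      · have hin : Inv (f + (t₀ + (t : Module.End F V))) W := fun w hw => by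
          have h' : (f + (t₀ + (t : Module.End F V))) w =
              (f + t₀) w + (t : Module.End F V) w := by simp [add_assoc]
          rw [h']
          exact W.add_mem (hinv₀ w hw) (t.2.2 w (Submodule.mem_map_of_mem hw)).1
        rw [if_pos ⟨(trans X).add_mem ht₀ t.2.1, hin⟩]
    have hsum : ∑ s : ↥(trans X'), mob (f' + (s : Module.End F W)) ⊤ = keep f' X' ⊤ := by
      rw [keep]
      refine Fintype.sum_of_injective (fun s : ↥(trans X') => (s : Module.End F W))
        Subtype.val_injective _ _ (fun u hu => if_neg fun hc => hu ⟨⟨u, hc.1⟩, rfl⟩) fun s => ?_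
      rw [if_pos ⟨s.2, inv_top _⟩]
    have hstab : stab X' (⊤ ⊓ X') ((⊤ : Submodule F ↥W).map X'.mkQ) = trans X' :=
      le_antisymm stab_le_trans fun u hu => ⟨hu, fun v _ => ⟨Submodule.mem_top, hu.2 v⟩⟩
    have hmA : mob f' (⊤ ⊓ X') = mob f A := by
      rw [top_inf_eq, ← mob_map (f := f + t₀) W.subtype W.injective_subtype (fun w => rfl) X',
        show X'.map W.subtype = A from Submodule.map_comap_subtype W X]
      exact mob_congr fun v hv => by simp [ht₀.1 v hv.2]
    have hmB : mob (quot f' X' hX') ((⊤ : Submodule F ↥W).map X'.mkQ) =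
        mob (quot f X hX) B := by
      rw [Submodule.map_top, Submodule.range_mkQ]
      let e' : (↥W ⧸ X') →ₗ[F] V ⧸ X := X'.mapQ X W.subtype le_rfl
      have he' : Function.Injective e' := by
        rw [← LinearMap.ker_eq_bot, eq_bot_iff]
        intro q hq
        obtain ⟨w, rfl⟩ := X'.mkQ_surjective q
        rw [Submodule.mem_bot]
        exact (Submodule.Quotient.mk_eq_zero X').2
          ((Submodule.Quotient.mk_eq_zero X (x := (w : V))).1 (LinearMap.mem_ker.1 hq))
      have hr : LinearMap.range e' = B := by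
        apply le_antisymm
        · rintro _ ⟨q, rfl⟩
          obtain ⟨w, rfl⟩ := X'.mkQ_surjective q
          exact ⟨w, w.2, rfl⟩
        · rintro _ ⟨w, hw, rfl⟩
          exact ⟨X'.mkQ ⟨w, hw⟩, rfl⟩
      rw [← hr]
      refine (mob_top_of_injective e' he' fun q => ?_).symm
      obtain ⟨w, rfl⟩ := X'.mkQ_surjective q
      show X.mkQ ((f + t₀) (w : V)) = X.mkQ (f w)
      rw [LinearMap.add_apply, map_add, mkQ_trans ht₀, add_zero]
    have hIW : Inv f' (⊤ ⊓ X') ∧
        Inv (quot f' X' hX') ((⊤ : Submodule F ↥W).map X'.mkQ) := by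
      refine ⟨?_, ?_⟩
      · rw [top_inf_eq]; exact hX'
      · rw [Submodule.map_top, Submodule.range_mkQ]; exact inv_top _
    rw [keep', if_pos hIW, hstab, hmA, hmB] at hk
    rw [hkeep, Finset.sum_congr rfl fun t _ => hterm t,
      ← Equiv.sum_comp e.symm, Fintype.sum_prod_type, Nat.card_congr e, Nat.card_prod]
    have : ∀ (s : ↥(trans X')) (k : ↥(LinearMap.ker res)),
        mob (f' + (res (e.symm (s, k)) : Module.End F W)) ⊤ =
          mob (f' + (s : Module.End F W)) ⊤ :=
      fun s k => by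
        rw [show res (e.symm (s, k)) = s from congrArg Prod.fst (e.apply_symm_apply _)]
    simp only [this, Finset.sum_const, nsmul_eq_mul]
    rw [← Finset.mul_sum, hsum, hk, Finset.card_univ, ← Nat.card_eq_fintype_card]
    push_cast
    ring
  · rw [keep', if_neg hI]
    refine Finset.sum_eq_zero fun t _ => if_neg fun ⟨ht, hinv⟩ => hI ⟨fun v hv => ?_, ?_⟩
    · have h1 := (inv_add_trans hX ht) v hv.2
      have h2 := hinv v hv.1
      simp only [LinearMap.add_apply, ht.1 v hv.2, add_zero] at h1 h2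
      exact ⟨h2, h1⟩
    · rintro _ ⟨w, hw, rfl⟩
      refine ⟨(f + t) w, hinv w hw, ?_⟩
      rw [← quot_mk (f + t) X (inv_add_trans hX ht), quot_add_trans hX ht]

open scoped Classical in
/-- The average over translations of a sum over invariant subspaces. -/
theorem sum_average {V : Type w} [AddCommGroup V] [Module F V] [Finite V]
    (f : Module.End F V) (X : Submodule F V) (hX : Inv f X)
    (φ : Submodule F V → Submodule F (V ⧸ X) → ℂ) :
    ∑ t : Module.End F V, (if t ∈ trans X then
      ∑ W : Submodule F V, (if Inv (f + t) W then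
        (mob (f + t) W : ℂ) * φ (W ⊓ X) (W.map X.mkQ) else 0) else 0) =
      (Nat.card ↥(trans X) : ℂ) *
        ∑ A : Submodule F V, ∑ B : Submodule F (V ⧸ X),
          if A ≤ X ∧ Inv f A ∧ Inv (quot f X hX) B then
            ((mob f A * mob (quot f X hX) B : ℤ) : ℂ) * φ A B else 0 := by
  rw [← sum_keep' f X hX φ]
  calc _ = ∑ t : Module.End F V, ∑ W : Submodule F V,
        ((if t ∈ trans X ∧ Inv (f + t) W then mob (f + t) W else 0 : ℤ) : ℂ) *
          φ (W ⊓ X) (W.map X.mkQ) := by
        refine Finset.sum_congr rfl fun t _ => ?_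
        by_cases ht : t ∈ trans X
        · rw [if_pos ht]
          refine Finset.sum_congr rfl fun W _ => ?_
          by_cases h : Inv (f + t) W <;> simp [ht, h]
        · simp [ht]
    _ = _ := by
        rw [Finset.sum_comm]
        refine Finset.sum_congr rfl fun W _ => ?_
        rw [← Finset.sum_mul, ← Int.cast_sum, ← keep_eq _ f X hX W le_rfl, keep]

end Cfsg.Agent.Green
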