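import Cfsg.Agent.Lib.Green.Count

/-!
# The recursion for the Möbius sums, and the weighted sum over a primary class
-/

namespace Cfsg.Agent.Green

open Module Submodule Polynomial

variable {F : Type*} [Field F] {V : Type*} [AddCommGroup V] [Module F V] [Finite V]

/-- The translations do not change the diagonal parts. -/
theorem restrict_add_trans {X : Submodule F V} {f t : Module.End F V} (hX : Inv f X)
    (ht : t ∈ trans X) : (f + t).restrict (inv_add_trans hX ht) = f.restrict hX :=
  LinearMap.ext fun x => Subtype.ext (by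
    show f (x : V) + t (x : V) = f (x : V)
    rw [ht.1 _ x.2, add_zero])

open scoped Classical in
/-- The average of the Möbius function of the whole space. -/
theorem mob_average (f : Module.End F V) (X : Submodule F V) (hX : Inv f X) :
    ∑ t : Module.End F V, (if t ∈ trans X then mob (f + t) ⊤ else 0) =
      Nat.card ↥(trans X) * (mob (f.restrict hX) ⊤ * mob (quot f X hX) ⊤) := by
  have h := keep_eq (finrank F (⊤ : Submodule F V)) f X hX ⊤ le_rfl
  rw [keep, keep', top_inf_eq, Submodule.map_top, Submodule.range_mkQ, if_pos ⟨hX, inv_top _⟩,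
    show stab X X (⊤ : Submodule F (V ⧸ X)) = trans X from
      le_antisymm stab_le_trans fun t ht => ⟨ht, fun v _ => ht.2 v⟩, mob_restrict hX] at h
  rw [← h]
  exact Finset.sum_congr rfl fun t _ => by simp [inv_top]

theorem charpoly_add_trans [FiniteDimensional F V] {X : Submodule F V} {f t : Module.End F V}
    (hX : Inv f X) (ht : t ∈ trans X) : (f + t).charpoly = f.charpoly := by
  rw [charpoly_eq_mul _ X (inv_add_trans hX ht), charpoly_eq_mul f X hX, restrict_add_trans hX ht,
    quot_add_trans hX ht]

/-- The subspace spanned by the orbit of a vector. -/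
def cyc (f : Module.End F V) (d : ℕ) (v : V) : Submodule F V :=
  Submodule.span F (Set.range fun i : Fin d => (f ^ (i : ℕ)) v)

section Cyclic

variable [FiniteDimensional F V] {P : F[X]} {f : Module.End F V}

omit [Finite V] in
theorem eq_zero_of_kill (hirr : Irreducible P) (hP : aeval f P = 0) {v : V} (hv : v ≠ 0)
    {R : F[X]} (hR : R.natDegree < P.natDegree) (h : aeval f R v = 0) : R = 0 := by
  by_contra hR0
  obtain ⟨a, b, hab⟩ := hirr.coprime_iff_not_dvd.2 fun hd =>
    absurd (natDegree_le_of_dvd hd hR0) (by omega)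
  refine hv ?_
  have := congrArg (fun S => aeval f S v) hab
  simp only [map_add, map_mul, map_one, hP, mul_zero, zero_add, Module.End.mul_apply,
    Module.End.one_apply, h, map_zero] at this
  exact this.symm

omit [Finite V] [FiniteDimensional F V] in
theorem mem_cyc (hmon : P.Monic) (hirr : Irreducible P) (hP : aeval f P = 0) (v : V) (R : F[X]) :
    aeval f R v ∈ cyc f P.natDegree v := by
  rw [← R.modByMonic_add_div P, map_add, map_mul, hP, zero_mul, add_zero,
    aeval_eq_sum_range' (natDegree_modByMonic_lt R hmon fun h1 =>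
      hirr.not_isUnit (h1 ▸ isUnit_one))]
  simp only [LinearMap.coe_sum, Finset.sum_apply, LinearMap.smul_apply]
  refine Submodule.sum_mem _ fun i hi => Submodule.smul_mem _ _ ?_
  exact Submodule.subset_span ⟨⟨i, Finset.mem_range.1 hi⟩, rfl⟩

omit [Finite V] [FiniteDimensional F V] in
theorem inv_cyc (hmon : P.Monic) (hirr : Irreducible P) (hP : aeval f P = 0) (v : V) :
    Inv f (cyc f P.natDegree v) := by
  intro w hw
  refine Submodule.span_induction ?_ ?_ ?_ ?_ hw
  · rintro _ ⟨i, rfl⟩
    rw [← Module.End.mul_apply, ← pow_succ', show f ^ ((i : ℕ) + 1) = aeval f (X ^ ((i : ℕ) + 1) :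
      F[X]) by simp]
    exact mem_cyc hmon hirr hP v _
  · rw [map_zero]
    exact Submodule.zero_mem _
  · exact fun a b _ _ ha hb => by rw [map_add]; exact Submodule.add_mem _ ha hb
  · exact fun c a _ ha => by rw [map_smul]; exact Submodule.smul_mem _ c ha

omit [Finite V] in
theorem linearIndependent_cyc (hirr : Irreducible P) (hP : aeval f P = 0) {v : V} (hv : v ≠ 0) :
    LinearIndependent F fun i : Fin P.natDegree => (f ^ (i : ℕ)) v := by
  rw [Fintype.linearIndependent_iff]
  intro g hg i
  have hd := hirr.natDegree_pos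
  let R : F[X] := ∑ j : Fin P.natDegree, C (g j) * X ^ (j : ℕ)
  have hR : R.natDegree < P.natDegree := by
    refine lt_of_le_of_lt (natDegree_sum_le_of_forall_le _ _ fun j _ => ?_)
      (Nat.sub_lt hd one_pos)
    exact (natDegree_C_mul_X_pow_le _ _).trans (Nat.le_sub_one_of_lt j.2)
  have hR0 := eq_zero_of_kill hirr hP hv hR (by
    rw [← hg]
    simp [R, LinearMap.coe_sum, Finset.sum_apply, Algebra.algebraMap_eq_smul_one])
  have := congrArg (fun S => coeff S (i : ℕ)) hR0
  simpa [R, coeff_C_mul, coeff_X_pow, Fin.val_inj] using this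

omit [Finite V] in
theorem finrank_cyc (hirr : Irreducible P) (hP : aeval f P = 0) {v : V} (hv : v ≠ 0) :
    finrank F (cyc f P.natDegree v) = P.natDegree := by
  rw [cyc, finrank_span_eq_card (linearIndependent_cyc hirr hP hv), Fintype.card_fin]

omit [Finite V] [FiniteDimensional F V] in
theorem cyc_le {W : Submodule F V} (hW : Inv f W) {v : V} (hv : v ∈ W) (d : ℕ) :
    cyc f d v ≤ W := by
  refine Submodule.span_le.2 ?_
  rintro _ ⟨i, rfl⟩
  have := inv_aeval hW (X ^ (i : ℕ) : F[X]) v hv
  simpa using this

end Cyclic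

variable [Finite F] {P : F[X]} (hirr : Irreducible P) (hmon : P.Monic)

include hirr hmon

open scoped Classical in
/-- The invariant subspaces of dimension `deg P` under a semisimple `f`. -/
theorem card_lines {f : Module.End F V} (hP : aeval f P = 0) :
    ((Finset.univ.filter fun X : Submodule F V => Inv f X ∧ finrank F X = P.natDegree).card : ℚ) *
      ((Nat.card F : ℚ) ^ P.natDegree - 1) = (Nat.card F : ℚ) ^ finrank F V - 1 := by
  haveI : FiniteDimensional F V := Module.Finite.of_finite
  haveI := Fintype.ofFinite V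
  set S := Finset.univ.filter fun X : Submodule F V => Inv f X ∧ finrank F X = P.natDegree
  have hd := hirr.natDegree_pos
  have h1 : (Finset.univ.filter fun v : V => v ≠ 0).card =
      ∑ X ∈ S, ((Finset.univ.filter fun v : V => v ≠ 0).filter fun v =>
        cyc f P.natDegree v = X).card :=
    Finset.card_eq_sum_card_fiberwise fun v hv => by
      have hv' : v ≠ 0 := (Finset.mem_filter.1 hv).2
      exact Finset.mem_filter.2 ⟨Finset.mem_univ _, inv_cyc hmon hirr hP v,
        finrank_cyc hirr hP hv'⟩
  have h2 : ∀ X ∈ S, (((Finset.univ.filter fun v : V => v ≠ 0).filter fun v =>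
      cyc f P.natDegree v = X).card : ℚ) = (Nat.card F : ℚ) ^ P.natDegree - 1 := by
    intro X hX
    obtain ⟨-, hXi, hXd⟩ := Finset.mem_filter.1 hX
    have he : ((Finset.univ.filter fun v : V => v ≠ 0).filter fun v => cyc f P.natDegree v = X) =
        (Finset.univ.filter fun v : V => v ∈ X).erase 0 := by
      ext v
      simp only [Finset.mem_filter, Finset.mem_univ, true_and, Finset.mem_erase]
      constructor
      · rintro ⟨hv, rfl⟩
        exact ⟨hv, by simpa using mem_cyc hmon hirr hP v 1⟩
      · rintro ⟨hv, hvX⟩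
        exact ⟨hv, Submodule.eq_of_le_of_finrank_eq (cyc_le hXi hvX _)
          (by rw [finrank_cyc hirr hP hv, hXd])⟩
    rw [he, Finset.card_erase_of_mem (by simp), Nat.cast_sub (Finset.card_pos.2 ⟨0, by simp⟩),
      ← Fintype.card_subtype, ← Nat.card_eq_fintype_card, Module.natCard_eq_pow_finrank (K := F),
      hXd]
    push_cast
    rfl
  have h3 : ((Finset.univ.filter fun v : V => v ≠ 0).card : ℚ) =
      (Nat.card F : ℚ) ^ finrank F V - 1 := by
    rw [Finset.filter_ne', Finset.card_erase_of_mem (Finset.mem_univ _), Nat.cast_sub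
      (Finset.card_pos.2 ⟨0, Finset.mem_univ _⟩), Finset.card_univ, ← Nat.card_eq_fintype_card,
      Module.natCard_eq_pow_finrank (K := F) (V := V)]
    push_cast
    rfl
  rw [← h3, h1, Nat.cast_sum, Finset.sum_congr rfl h2, Finset.sum_const, nsmul_eq_mul]

/-- The endomorphisms of a `deg P`-dimensional space with characteristic polynomial `P`. -/
theorem card_cls_one (hV : finrank F V = P.natDegree) :
    ((cls P 1 V).card : ℚ) * ((Nat.card F : ℚ) ^ P.natDegree - 1) = glc F V := by
  classical
  haveI : FiniteDimensional F V := Module.Finite.of_finite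
  haveI := Fintype.ofFinite V
  have hd := hirr.natDegree_pos
  have hker : ∀ f : Module.End F V, f ∈ cls P 1 V → aeval f P = 0 := fun f hf => by
    have := LinearMap.aeval_self_charpoly f
    rwa [mem_cls.1 hf, pow_one] at this
  let S := {x : Module.End F V × V // x.1 ∈ cls P 1 V ∧ x.2 ≠ 0}
  let toB : S → Basis (Fin P.natDegree) F V := fun x =>
    basisOfLinearIndependentOfCardEqFinrank' _
      (linearIndependent_cyc hirr (hker _ x.2.1) x.2.2) (by rw [Fintype.card_fin, hV])
  have htoB : ∀ x i, toB x i = (x.1.1 ^ (i : ℕ)) x.1.2 := fun x i => by simp [toB]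
  have hbij : Function.Bijective toB := by
    constructor
    · intro x y hxy
      have h0 : x.1.2 = y.1.2 := by
        have := congrArg (fun b => (b : Basis (Fin P.natDegree) F V) ⟨0, hd⟩) hxy
        simpa [htoB] using this
      refine Subtype.ext (Prod.ext ((toB x).ext fun i => ?_) h0)
      have hi : toB x i = toB y i := by rw [hxy]
      have key : ∀ z : S, z.1.1 (toB z i) = aeval z.1.1 ((X : F[X]) ^ ((i : ℕ) + 1)) z.1.2 :=
        fun z => by rw [htoB, map_pow, aeval_X, pow_succ', Module.End.mul_apply]
      conv_rhs => rw [hi]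
      rw [key, key]
      -- reduce the power modulo `P`
      set R := ((X : F[X]) ^ ((i : ℕ) + 1)) %ₘ P
      have hR : ∀ z : S, aeval z.1.1 ((X : F[X]) ^ ((i : ℕ) + 1)) z.1.2 =
          ∑ j ∈ Finset.range P.natDegree, R.coeff j • (z.1.1 ^ j) z.1.2 := by
        intro z
        conv_lhs => rw [← Polynomial.modByMonic_add_div ((X : F[X]) ^ ((i : ℕ) + 1)) P]
        rw [map_add, map_mul, hker _ z.2.1, zero_mul, add_zero,
          aeval_eq_sum_range' (natDegree_modByMonic_lt _ hmon fun h1 =>
            hirr.not_isUnit (h1 ▸ isUnit_one))]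
        simp [LinearMap.coe_sum, Finset.sum_apply, R]
      rw [hR, hR]
      refine Finset.sum_congr rfl fun j hj => ?_
      have := congrArg (fun b => (b : Basis (Fin P.natDegree) F V) ⟨j, Finset.mem_range.1 hj⟩) hxy
      simp only [htoB] at this
      rw [this]
    · intro b
      let i0 : Fin P.natDegree := ⟨0, hd⟩
      let f : Module.End F V := b.constr F fun i =>
        if h : (i : ℕ) + 1 < P.natDegree then b ⟨i + 1, h⟩
        else -∑ j : Fin P.natDegree, P.coeff j • b j
      have hpow : ∀ m (hm : m < P.natDegree), (f ^ m) (b i0) = b ⟨m, hm⟩ := by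
        intro m
        induction m with
        | zero => intro hm; rfl
        | succ m ih =>
          intro hm
          rw [pow_succ', Module.End.mul_apply, ih (by omega), Basis.constr_basis, dif_pos hm]
      have hkill : aeval f P (b i0) = 0 := by
        rw [aeval_eq_sum_range, Finset.sum_range_succ]
        simp only [LinearMap.add_apply, LinearMap.coe_sum, Finset.sum_apply,
          LinearMap.smul_apply]
        obtain ⟨e, he⟩ : ∃ e, P.natDegree = e + 1 := ⟨P.natDegree - 1, by omega⟩
        have hlast : (f ^ P.natDegree) (b i0) = -∑ j : Fin P.natDegree, P.coeff j • b j := by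
          rw [show f ^ P.natDegree = f ^ (e + 1) by rw [he], pow_succ', Module.End.mul_apply,
            hpow e (by omega)]
          rw [Basis.constr_basis, dif_neg]
          simp only [he]
          omega
        rw [hlast, hmon.coeff_natDegree, one_smul, ← Fin.sum_univ_eq_sum_range, ← sub_eq_add_neg,
          sub_eq_zero]
        exact Finset.sum_congr rfl fun j _ => by rw [hpow j j.2]
      have hP0 : aeval f P = 0 := by
        refine b.ext fun i => ?_
        rw [← hpow i i.2, ← Module.End.mul_apply,
          show aeval f P * f ^ (i : ℕ) = f ^ (i : ℕ) * aeval f P from by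
            rw [show f ^ (i : ℕ) = aeval f (X ^ (i : ℕ) : F[X]) by simp, ← map_mul, ← map_mul,
              mul_comm], Module.End.mul_apply, hkill, map_zero, LinearMap.zero_apply]
      have hcp : f.charpoly = P := by
        rw [← sub_eq_zero]
        refine eq_zero_of_kill hirr hP0 (b.ne_zero i0) ?_ ?_
        · by_cases h0 : f.charpoly - P = 0
          · rw [h0, natDegree_zero]; exact hd
          · rw [natDegree_lt_iff_degree_lt h0]
            refine lt_of_lt_of_le (degree_sub_lt ?_ (LinearMap.charpoly_monic f).ne_zero ?_) ?_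
            · rw [degree_eq_natDegree (LinearMap.charpoly_monic f).ne_zero,
                degree_eq_natDegree hmon.ne_zero, LinearMap.charpoly_natDegree, hV]
            · rw [(LinearMap.charpoly_monic f).leadingCoeff, hmon.leadingCoeff]
            · rw [degree_eq_natDegree (LinearMap.charpoly_monic f).ne_zero,
                LinearMap.charpoly_natDegree, hV]
        · rw [map_sub, LinearMap.aeval_self_charpoly, hP0, sub_self, LinearMap.zero_apply]
      refine ⟨⟨(f, b i0), mem_cls.2 (by rw [pow_one, hcp]), b.ne_zero i0⟩, Basis.eq_of_apply_eq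
        fun i => ?_⟩
      rw [htoB]
      exact hpow i i.2
  have hcard : Nat.card S = glc F V := by
    let b₀ : Basis (Fin P.natDegree) F V := (Module.finBasis F V).reindex (finCongr hV)
    let eB : Basis (Fin P.natDegree) F V ≃ (V ≃ₗ[F] V) :=
      { toFun := fun b => b₀.equiv b (Equiv.refl _)
        invFun := fun g => b₀.map g
        left_inv := fun b => Basis.eq_of_apply_eq fun i => by simp
        right_inv := fun g => b₀.ext' fun i => by simp }
    rw [Nat.card_congr (Equiv.ofBijective _ hbij), Nat.card_congr eB, glc,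
      Nat.card_congr (LinearMap.GeneralLinearGroup.generalLinearEquiv F V).toEquiv]
  rw [← hcard]
  have hS : Nat.card S = (cls P 1 V).card * (Finset.univ.filter fun v : V => v ≠ 0).card := by
    rw [← Finset.card_product, ← Nat.card_eq_finsetCard]
    exact Nat.card_congr (Equiv.subtypeEquivRight fun x => by simp)
  rw [hS, Finset.filter_ne', Finset.card_erase_of_mem (Finset.mem_univ _), Finset.card_univ,
    ← Nat.card_eq_fintype_card, Module.natCard_eq_pow_finrank (K := F) (V := V), hV]
  push_cast [Nat.one_le_pow _ _ Nat.card_pos]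
  rfl

theorem Esum_one (hV : finrank F V = P.natDegree) :
    Esum P 1 V * ((Nat.card F : ℚ) ^ P.natDegree - 1) = -1 := by
  classical
  haveI : FiniteDimensional F V := Module.Finite.of_finite
  have hd := hirr.natDegree_pos
  have hm : ∀ f ∈ cls P 1 V, mob f ⊤ = -1 := by
    intro f hf
    have hne : (⊤ : Submodule F V) ≠ ⊥ := fun h => by
      have := finrank_top F V
      rw [h, finrank_bot, hV] at this
      omega
    rw [mob_eq, if_neg hne, Finset.sum_eq_single (⊥ : Submodule F V)]
    · rw [if_pos ⟨Ne.bot_lt hne, inv_bot f⟩, mob_bot, zero_sub]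
    · intro W _ hW
      refine if_neg fun ⟨hlt, hinv⟩ => hW ?_
      obtain ⟨i, hi1, hi, -⟩ := (charpoly_pow_iff hirr hmon f (by rw [hV, mul_one]) hinv).1
        (mem_cls.1 hf)
      have := Submodule.finrank_lt hlt.ne
      rcases i with _ | i
      · exact Submodule.finrank_eq_zero.1 (by rw [hi, mul_zero])
      · rw [hi, hV, show i = 0 by omega] at this
        simp at this
    · exact fun h => absurd (Finset.mem_univ _) h
  have h0 : (glc F V : ℚ) ≠ 0 := Nat.cast_ne_zero.2 glc_pos.ne'
  rw [Esum, Finset.sum_congr rfl fun f hf => by rw [hm f hf], Finset.sum_const, nsmul_eq_mul,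
    div_mul_eq_mul_div, div_eq_iff h0, ← card_cls_one hirr hmon hV]
  push_cast
  ring

theorem Eseq_rec (k : ℕ) :
    (((Nat.card F : ℚ) ^ P.natDegree) ^ (k + 1) - 1) * Eseq P (k + 1) = -Eseq P k := by
  classical
  let V := Fin (P.natDegree * (k + 1)) → F
  have hV : finrank F V = P.natDegree * (k + 1) := finrank_fin_fun F
  have hd := hirr.natDegree_pos
  set q : ℚ := (Nat.card F : ℚ)
  -- count over the invariant subspaces of dimension `deg P`
  set L := Finset.univ.filter fun X : Submodule F V => finrank F X = P.natDegree with hL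
  have h1 : ∑ X ∈ L, ∑ f ∈ cls P (k + 1) V, (if Inv f X then (mob f ⊤ : ℚ) else 0) *
      (q ^ P.natDegree - 1) =
      (q ^ (P.natDegree * (k + 1)) - 1) * ∑ f ∈ cls P (k + 1) V, (mob f ⊤ : ℚ) := by
    rw [Finset.sum_comm, Finset.mul_sum]
    refine Finset.sum_congr rfl fun f hf => ?_
    rw [← Finset.sum_mul]
    by_cases hm : mob f ⊤ = 0
    · simp [hm]
    · have hP := aeval_eq_zero_of_mob_ne_zero (mem_cls.1 hf) hm
      rw [← Finset.sum_filter, Finset.sum_const, nsmul_eq_mul,
        show q ^ (P.natDegree * (k + 1)) = q ^ finrank F V by rw [hV],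
        ← card_lines hirr hmon hP, mul_right_comm]
      congr 4
      ext X
      simp [hL, and_comm]
  have h2 : ∀ X ∈ L, ∑ f ∈ cls P (k + 1) V, (if Inv f X then (mob f ⊤ : ℚ) else 0) *
      (q ^ P.natDegree - 1) =
      ((Nat.card ↥(trans X) * (glc F ↥X * glc F (V ⧸ X)) : ℕ) : ℚ) * (-Eseq P k) := by
    intro X hX
    have hXd : finrank F X = P.natDegree := (Finset.mem_filter.1 hX).2
    have hQ : finrank F (V ⧸ X) = P.natDegree * k := by
      have := X.finrank_quotient_add_finrank
      have h4 : P.natDegree * (k + 1) = P.natDegree * k + P.natDegree := Nat.mul_succ _ _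
      omega
    let cond : Module.End F V → Prop := fun f => f ∈ cls P (k + 1) V ∧ Inv f X
    have hcond : ∀ f t, t ∈ trans X → (cond (f + t) ↔ cond f) := by
      intro f t ht
      constructor
      · rintro ⟨hc, hi⟩
        have hf : Inv f X := fun v hv => by
          have := hi v hv
          rwa [LinearMap.add_apply, ht.1 v hv, add_zero] at this
        exact ⟨mem_cls.2 (by rw [← charpoly_add_trans hf ht]; exact mem_cls.1 hc), hf⟩
      · rintro ⟨hc, hi⟩
        exact ⟨mem_cls.2 (by rw [charpoly_add_trans hi ht]; exact mem_cls.1 hc),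
          inv_add_trans hi ht⟩
    have hkey : (Nat.card ↥(trans X) : ℚ) *
        ∑ f : Module.End F V, (if cond f then (mob f ⊤ : ℚ) else 0) =
        (Nat.card ↥(trans X) : ℚ) * ∑ f : Module.End F V, if h : Inv f X then
          (if f.restrict h ∈ cls P 1 ↥X ∧ quot f X h ∈ cls P k (V ⧸ X) then
            (mob (f.restrict h) ⊤ : ℚ) * (mob (quot f X h) ⊤ : ℚ) else 0) else 0 := by
      calc (Nat.card ↥(trans X) : ℚ) *
            ∑ f : Module.End F V, (if cond f then (mob f ⊤ : ℚ) else 0)
          = ∑ t : Module.End F V, if t ∈ trans X then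
              ∑ f : Module.End F V, (if cond f then (mob f ⊤ : ℚ) else 0) else 0 := by
            rw [← Finset.sum_filter (p := fun t => t ∈ trans X), Finset.sum_const, nsmul_eq_mul,
              Nat.subtype_card (Finset.univ.filter fun t => t ∈ trans X) (by simp)]
        _ = ∑ f : Module.End F V, if cond f then
              ((∑ t : Module.End F V, if t ∈ trans X then mob (f + t) ⊤ else 0 : ℤ) : ℚ)
              else 0 := by
            rw [Finset.sum_congr rfl (g := fun t => ∑ f : Module.End F V,
              if t ∈ trans X ∧ cond f then (mob (f + t) ⊤ : ℚ) else 0) fun t _ => ?_]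
            · rw [Finset.sum_comm]
              refine Finset.sum_congr rfl fun f _ => ?_
              by_cases hc : cond f
              · simp only [hc, and_true, if_true, Int.cast_sum, Int.cast_ite, Int.cast_zero]
              · simp [hc]
            · by_cases ht : t ∈ trans X
              · simp only [ht, true_and, if_true]
                refine (Fintype.sum_equiv (Equiv.addRight t) _ _ fun f => ?_).symm
                simp only [Equiv.coe_addRight, hcond f t ht]
              · simp [ht]
        _ = _ := by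
            rw [Finset.mul_sum]
            refine Finset.sum_congr rfl fun f _ => ?_
            by_cases hi : Inv f X
            · rw [dif_pos hi, mob_average f X hi]
              have hiff : f ∈ cls P (k + 1) V ↔
                  f.restrict hi ∈ cls P 1 ↥X ∧ quot f X hi ∈ cls P k (V ⧸ X) := by
                rw [mem_cls, mem_cls, mem_cls, charpoly_pow_iff hirr hmon f hV hi]
                constructor
                · rintro ⟨i, -, hi', h1, h2⟩
                  have : i = 1 := Nat.eq_of_mul_eq_mul_left hd (by rw [← hi', hXd, mul_one])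
                  subst this
                  exact ⟨h1, h2⟩
                · rintro ⟨h1, h2⟩
                  exact ⟨1, by omega, by rw [hXd, mul_one], h1, h2⟩
              by_cases hc : f ∈ cls P (k + 1) V
              · rw [if_pos ⟨hc, hi⟩, if_pos (hiff.1 hc)]
                push_cast
                ring
              · rw [if_neg fun h => hc h.1, if_neg fun h => hc (hiff.2 h), mul_zero]
            · rw [dif_neg hi, if_neg fun h => hi h.2, mul_zero]
    have hT : (Nat.card ↥(trans X) : ℚ) ≠ 0 := Nat.cast_ne_zero.2 Nat.card_pos.ne'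
    have hkey' := mul_left_cancel₀ hT hkey
    rw [← Finset.sum_mul, show ∑ f ∈ cls P (k + 1) V, (if Inv f X then (mob f ⊤ : ℚ) else 0) =
      ∑ f : Module.End F V, (if cond f then (mob f ⊤ : ℚ) else 0) by
        have hc : ∑ f ∈ cls P (k + 1) V, (if Inv f X then (mob f ⊤ : ℚ) else 0) =
            ∑ f : Module.End F V, if f ∈ cls P (k + 1) V then
              (if Inv f X then (mob f ⊤ : ℚ) else 0) else 0 := by
          rw [Finset.sum_ite_mem, Finset.univ_inter]
        rw [hc]
        exact Finset.sum_congr rfl fun f _ => by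
          by_cases h1 : f ∈ cls P (k + 1) V <;> by_cases h2 : Inv f X <;> simp [cond, h1, h2],
      hkey',
      sum_inv X fun a b => if a ∈ cls P 1 ↥X ∧ b ∈ cls P k (V ⧸ X) then
        (mob a ⊤ : ℚ) * (mob b ⊤ : ℚ) else 0]
    have hprod : ∑ a : Module.End F ↥X, ∑ b : Module.End F (V ⧸ X),
        (if a ∈ cls P 1 ↥X ∧ b ∈ cls P k (V ⧸ X) then (mob a ⊤ : ℚ) * (mob b ⊤ : ℚ) else 0) =
        (∑ a ∈ cls P 1 ↥X, (mob a ⊤ : ℚ)) * ∑ b ∈ cls P k (V ⧸ X), (mob b ⊤ : ℚ) := by
      rw [Finset.sum_mul_sum, ← Finset.univ_inter (cls P 1 ↥X), ← Finset.sum_ite_mem]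
      refine Finset.sum_congr rfl fun a _ => ?_
      by_cases ha : a ∈ cls P 1 ↥X
      · simp [ha]
      · simp [ha]
    rw [hprod, ← Esum_eq P hQ, Esum]
    have hE1 := Esum_one hirr hmon (V := ↥X) hXd
    rw [Esum] at hE1
    have hg1 : (glc F ↥X : ℚ) ≠ 0 := Nat.cast_ne_zero.2 glc_pos.ne'
    have hg2 : (glc F (V ⧸ X) : ℚ) ≠ 0 := Nat.cast_ne_zero.2 glc_pos.ne'
    push_cast
    field_simp at hE1 ⊢
    linear_combination (∑ b ∈ cls P k (V ⧸ X), (mob b ⊤ : ℚ)) * hE1
  rw [Finset.sum_congr rfl h2, ← Finset.sum_mul] at h1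
  obtain ⟨X₀, hX₀⟩ : ∃ X, X ∈ L := by
    let b := Module.finBasis F V
    have hle : P.natDegree ≤ finrank F V := by rw [hV]; exact Nat.le_mul_of_pos_right _ k.succ_pos
    refine ⟨Submodule.span F (Set.range (⇑b ∘ Fin.castLE hle)), Finset.mem_filter.2
      ⟨Finset.mem_univ _, ?_⟩⟩
    rw [finrank_span_eq_card (b.linearIndependent.comp _ (Fin.castLE_injective hle)),
      Fintype.card_fin]
  have hsum : (∑ X ∈ L, ((Nat.card ↥(trans X) * (glc F ↥X * glc F (V ⧸ X)) : ℕ) : ℚ)) =
      (glc F V : ℚ) := by
    have hXd : finrank F X₀ = P.natDegree := (Finset.mem_filter.1 hX₀).2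
    have hcard : ∀ X ∈ L, Nat.card ↥(trans X) * (glc F ↥X * glc F (V ⧸ X)) * L.card = glc F V := by
      intro X hX
      rw [← card_sub_mul X, mul_comm]
      congr 1
      rw [(Finset.mem_filter.1 hX).2]
      exact (Nat.subtype_card L (by simp [hL])).symm
    have hLpos : (L.card : ℚ) ≠ 0 := Nat.cast_ne_zero.2 (Finset.card_pos.2 ⟨X₀, hX₀⟩).ne'
    refine mul_right_cancel₀ hLpos ?_
    rw [Finset.sum_mul, Finset.sum_congr rfl (g := fun _ => (glc F V : ℚ)) fun X hX => by
      rw [← hcard X hX]; push_cast; ring, Finset.sum_const, nsmul_eq_mul, mul_comm]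
  rw [hsum] at h1
  rw [← pow_mul, Eseq, Esum]
  have hg : (glc F V : ℚ) ≠ 0 := Nat.cast_ne_zero.2 glc_pos.ne'
  rw [mul_div_assoc', ← h1, mul_div_cancel_left₀ _ hg]

open scoped Classical in
/-- The Möbius sum weighted by the dimension over a primary class. -/
theorem sum_class {k : ℕ} (hk : 1 ≤ k) (hV : finrank F V = P.natDegree * k) :
    ((Nat.card F : ℚ) ^ finrank F V - 1) * ∑ f ∈ cls P k V,
        ∑ W : Submodule F V, (if Inv f W then (mob f W : ℚ) * (finrank F W : ℚ) else 0) =
      -(P.natDegree : ℚ) * glc F V := by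
  rw [convolution hirr hmon k hV fun m => (m : ℚ)]
  have h0 : Eseq P 0 = 1 := by
    let W := Fin (P.natDegree * 0) → F
    haveI : Subsingleton W := by
      show Subsingleton (Fin (P.natDegree * 0) → F)
      rw [mul_zero]
      infer_instance
    have h1 : cls P 0 W = {0} := by
      ext f
      simp only [mem_cls, Finset.mem_singleton, pow_zero]
      exact ⟨fun _ => Subsingleton.elim _ _, fun _ =>
        eq_one_of_monic_natDegree_zero (LinearMap.charpoly_monic f)
          (by rw [LinearMap.charpoly_natDegree, finrank_zero_of_subsingleton])⟩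
    show Esum P 0 W = 1
    rw [Esum, h1, Finset.sum_singleton,
      show (⊤ : Submodule F W) = ⊥ from Subsingleton.elim _ _, mob_bot, glc,
      Nat.card_eq_one_iff_unique.2 ⟨⟨fun a b => Units.ext (Subsingleton.elim _ _)⟩, ⟨1⟩⟩]
    norm_num
  have hconv : ∀ j, ∑ ij ∈ Finset.HasAntidiagonal.antidiagonal j, Eseq P ij.1 * Aseq P ij.2 =
      if j = 0 then 1 else 0 := fun j => by
    rw [Finset.Nat.sum_antidiagonal_eq_sum_range_succ fun a b => Eseq P a * Aseq P b]
    exact sum_Eseq_Aseq hirr hmon j
  have h := series_logDeriv (Eseq P) (Aseq P) ((Nat.card F : ℚ) ^ P.natDegree) h0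
    (Eseq_rec hirr hmon) hconv k hk
  rw [Finset.Nat.sum_antidiagonal_eq_sum_range_succ fun a b => (a : ℚ) * Eseq P a * Aseq P b,
    ← pow_mul, ← hV] at h
  push_cast
  simp only [mul_assoc, ← Finset.mul_sum] at h ⊢
  linear_combination ((P.natDegree : ℚ) * (glc F V : ℚ)) * h

end Cfsg.Agent.Green
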