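import Cfsg.Agent.Lib.Green.Values

/-!
# Roots of irreducible polynomials in a finite extension
-/

namespace Cfsg.Agent.Green

open Module Polynomial

variable {F : Type*} [Field F] [Finite F] {K : Type*} [Field K] [Finite K] [Algebra F K]

local notation "q" => Nat.card F

/-- The Frobenius power as an algebra map. -/
theorem exists_frob (j : ℕ) : ∃ φ : K →ₐ[F] K, ∀ x, φ x = x ^ q ^ j := by
  haveI := Fintype.ofFinite F
  induction j with
  | zero => exact ⟨AlgHom.id F K, fun x => by simp⟩
  | succ j ih =>
    obtain ⟨φ, hφ⟩ := ih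
    refine ⟨(FiniteField.frobeniusAlgHom F K).comp φ, fun x => ?_⟩
    simp [hφ, ← pow_mul, pow_succ, Nat.card_eq_fintype_card]

theorem aeval_X_pow_sub_X (x : K) (m : ℕ) :
    aeval x (X ^ q ^ m - X : F[X]) = x ^ q ^ m - x := by simp

theorem card_eq_pow : Nat.card K = q ^ finrank F K := Module.natCard_eq_pow_finrank

theorem splits_of_dvd {P : F[X]} (hirr : Irreducible P) (hd : P.natDegree ∣ finrank F K) :
    (P.map (algebraMap F K)).Splits := by
  haveI := Fintype.ofFinite K
  have hdvd : P ∣ X ^ q ^ finrank F K - X := hirr.natDegree_dvd_iff_dvd_X_pow_card_pow_sub_X.1 hd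
  have hs : ((X ^ q ^ finrank F K - X : F[X]).map (algebraMap F K)).Splits := by
    rw [Polynomial.map_sub, Polynomial.map_pow, Polynomial.map_X, ← card_eq_pow (K := K),
      Nat.card_eq_fintype_card, splits_iff_card_roots, FiniteField.roots_X_pow_card_sub_X,
      FiniteField.X_pow_card_sub_X_natDegree_eq K Fintype.one_lt_card]
    simp
  refine hs.of_dvd ?_ (Polynomial.map_dvd _ hdvd)
  rw [Polynomial.map_sub, Polynomial.map_pow, Polynomial.map_X, ← card_eq_pow (K := K)]
  exact FiniteField.X_pow_card_sub_X_ne_zero K Finite.one_lt_card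

theorem card_roots_of_dvd {P : F[X]} (hirr : Irreducible P) (hd : P.natDegree ∣ finrank F K) :
    Multiset.card (P.map (algebraMap F K)).roots = P.natDegree ∧
      (P.map (algebraMap F K)).roots.Nodup := by
  refine ⟨?_, nodup_roots ((PerfectField.separable_of_irreducible hirr).map)⟩
  rw [splits_iff_card_roots.1 (splits_of_dvd hirr hd), natDegree_map]

theorem dvd_iff_pow {P : F[X]} (hirr : Irreducible P) {α : K} (hα : aeval α P = 0) (m : ℕ) :
    P.natDegree ∣ m ↔ α ^ q ^ m = α := by
  constructor
  · intro h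
    have := aeval_eq_zero_of_dvd_aeval_eq_zero
      (hirr.natDegree_dvd_iff_dvd_X_pow_card_pow_sub_X.1 h) hα
    rwa [aeval_X_pow_sub_X, sub_eq_zero] at this
  · intro h
    refine hirr.natDegree_dvd_of_dvd_X_pow_card_pow_sub_X ?_
    refine ((minpoly.irreducible (Algebra.IsIntegral.isIntegral α)).associated_of_dvd hirr
      (minpoly.dvd F α hα)).symm.dvd.trans (minpoly.dvd F α ?_)
    rw [aeval_X_pow_sub_X, h, sub_self]

/-- The roots are the Frobenius orbit. -/
theorem roots_eq {P : F[X]} (hirr : Irreducible P)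
    (hd : P.natDegree ∣ finrank F K) {α : K} (hα : aeval α P = 0) :
    (P.map (algebraMap F K)).roots = (Multiset.range P.natDegree).map fun j => α ^ q ^ j := by
  obtain ⟨hcard, -⟩ := card_roots_of_dvd hirr hd
  have hlt : ∀ i j, i < j → j < P.natDegree → α ^ q ^ i ≠ α ^ q ^ j := by
    intro i j hij hj h
    obtain ⟨φ, hφ⟩ := exists_frob (F := F) (K := K) i
    have h' : φ α = φ (α ^ q ^ (j - i)) := by
      rw [hφ, hφ, h, ← pow_mul, ← pow_add, Nat.sub_add_cancel hij.le]
    have := Nat.le_of_dvd (by omega)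
      ((dvd_iff_pow hirr hα (j - i)).2 (φ.toRingHom.injective h').symm)
    omega
  have hnod : ((Multiset.range P.natDegree).map fun j => α ^ q ^ j).Nodup := by
    refine Multiset.Nodup.map_on (fun i hi j hj h => ?_) (Multiset.nodup_range _)
    rw [Multiset.mem_range] at hi hj
    by_contra hne
    rcases Nat.lt_or_gt_of_ne hne with h' | h'
    · exact hlt i j h' hj h
    · exact hlt j i h' hi h.symm
  refine (Multiset.eq_of_le_of_card_le ?_ ?_).symm
  · rw [Multiset.le_iff_subset hnod]
    intro x hx
    obtain ⟨j, -, rfl⟩ := Multiset.mem_map.1 hx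
    rw [mem_roots (Polynomial.map_ne_zero hirr.ne_zero), IsRoot.def, eval_map, ← aeval_def]
    obtain ⟨φ, hφ⟩ := exists_frob (F := F) (K := K) j
    rw [← hφ, aeval_algHom_apply, hα, map_zero]
  · rw [hcard, Multiset.card_map, Multiset.card_range]

/-- A periodic orbit sum. -/
theorem sum_range_mul_periodic (g : ℕ → ℂ) (d : ℕ) (hg : ∀ j, g (d + j) = g j) (k : ℕ) :
    ∑ j ∈ Finset.range (d * k), g j = (k : ℂ) * ∑ j ∈ Finset.range d, g j := by
  induction k with
  | zero => simp
  | succ k ih =>
    rw [show d * (k + 1) = d + d * k by ring, Finset.sum_range_add,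
      Finset.sum_congr rfl fun j _ => hg j, ih]
    push_cast
    ring

/-- The orbit sum and the sum over the roots of the minimal polynomial. -/
theorem orbit_sum (ι : K → ℂ) {P : F[X]} (hirr : Irreducible P)
    (hd : P.natDegree ∣ finrank F K) {α : K} (hα : aeval α P = 0) (k : ℕ) :
    ∑ j ∈ Finset.range (P.natDegree * k), ι (α ^ q ^ j) =
      (k : ℂ) * ((P.map (algebraMap F K)).roots.map ι).sum := by
  rw [roots_eq hirr hd hα, sum_range_mul_periodic _ P.natDegree fun j => by
    rw [pow_add, pow_mul, (dvd_iff_pow hirr hα P.natDegree).1 dvd_rfl], Multiset.map_map]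
  rfl

/-- Regular elements have their eigenvalues in a large extension. -/
theorem pow_card_sub_one_of_regular {V : Type*} [AddCommGroup V] [Module F V]
    [FiniteDimensional F V] (hK : ∀ d, 0 < d → d ≤ finrank F V → d ∣ finrank F K)
    {g : Module.End F V} {m : ℕ} (hm : (m : F) ≠ 0) (hg : g ^ m = 1) :
    g ^ (Nat.card K - 1) = 1 := by
  set T : F[X] := X ^ (Nat.card K - 1) - 1
  have hm0 : 0 < m := Nat.pos_of_ne_zero fun h => hm (by rw [h, Nat.cast_zero])
  have hK1 : 1 < Nat.card K := Finite.one_lt_card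
  have hmin : minpoly F g ∣ X ^ m - 1 := minpoly.dvd F g (by simp [hg])
  have hsf : Squarefree (minpoly F g) :=
    ((X_pow_sub_one_separable_iff.2 hm).squarefree).squarefree_of_dvd hmin
  have hfac : ∀ R : F[X], Irreducible R → R ∣ minpoly F g → R ∣ T := by
    intro R hR hRd
    have hdeg : R.natDegree ≤ finrank F V := by
      rw [← LinearMap.charpoly_natDegree g]
      exact natDegree_le_of_dvd (hRd.trans (minpoly.dvd F g (LinearMap.aeval_self_charpoly g)))
        (LinearMap.charpoly_monic g).ne_zero
    have h1 := hR.natDegree_dvd_iff_dvd_X_pow_card_pow_sub_X.1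
      (hK _ hR.natDegree_pos hdeg)
    rw [← card_eq_pow (K := K), show (X ^ Nat.card K - X : F[X]) = X * T by
      rw [mul_sub, mul_one, ← pow_succ', Nat.sub_add_cancel hK1.le]] at h1
    refine (hR.prime.dvd_or_dvd h1).resolve_left fun hX => ?_
    have h2 := ((hR.associated_of_dvd irreducible_X hX).symm.dvd).trans (hRd.trans hmin)
    rw [X_dvd_iff] at h2
    simp [coeff_X_pow, hm0.ne] at h2
  suffices h : minpoly F g ∣ T by
    have := aeval_eq_zero_of_dvd_aeval_eq_zero h (minpoly.aeval F g)
    simpa [T, sub_eq_zero] using this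
  have key : ∀ R : F[X], Squarefree R → (∀ S, Irreducible S → S ∣ R → S ∣ T) → R ∣ T := by
    intro R
    induction R using UniqueFactorizationMonoid.induction_on_prime with
    | h₁ => intro h; exact absurd h not_squarefree_zero
    | h₂ x hx => intro _ _; exact hx.dvd
    | h₃ a p ha hp ih =>
      intro h h'
      have hpT : p ∣ T := h' p hp.irreducible (dvd_mul_right _ _)
      have haT : a ∣ T := ih h.of_mul_right fun S hS hSa => h' S hS (hSa.mul_left p)
      have hcop : IsCoprime p a := hp.irreducible.coprime_iff_not_dvd.2 fun hpa =>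
        hp.not_unit (h p (mul_dvd_mul_left p hpa))
      exact hcop.mul_dvd hpT haT
  exact key _ hsf hfac

end Cfsg.Agent.Green
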