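import Cfsg.Agent.Lib.Green.Cuspidal

/-!
# The values of Green's class function
-/

namespace Cfsg.Agent.Green

open Module Submodule Polynomial

variable {F : Type*} [Field F] {K : Type*} [Field K] [Algebra F K]
variable {V : Type*} [AddCommGroup V] [Module F V] [Finite V]

theorem one_add_mul_one_sub {X : Submodule F V} {u : Module.End F V} (hu : u ∈ trans X) :
    (1 + u) * (1 - u) = 1 ∧ (1 - u) * (1 + u) = 1 := by
  have huu : u * u = 0 := LinearMap.ext fun v => hu.1 _ (hu.2 v)
  constructor <;>
    simp [add_mul, mul_sub, sub_mul, mul_add, huu]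

open scoped Classical in
/-- The class function vanishes off the primary elements. -/
theorem green_eq_zero [FiniteDimensional F V] (ι : K → ℂ) (f : Module.End F V)
    (hf : ∀ (P : F[X]) (k : ℕ), P.Monic → Irreducible P → f.charpoly ≠ P ^ k) :
    green ι f = 0 := by
  have hne1 : f.charpoly ≠ 1 := fun h1 => hf (Polynomial.X) 0 monic_X irreducible_X
    (by rw [h1, pow_zero])
  obtain ⟨P, hPmon, hPirr, hPdvd⟩ := exists_monic_irreducible_factor f.charpoly
    (fun hu => hne1 (Monic.eq_one_of_isUnit (LinearMap.charpoly_monic f) hu))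
  obtain ⟨a, Q, hQ, hPQ⟩ := WfDvdMonoid.max_power_factor
    (LinearMap.charpoly_monic f).ne_zero hPirr
  have hQne : Q ≠ 1 := fun h => hf P a hPmon hPirr (by rw [hPQ, h, mul_one])
  have hQmon : Q.Monic := by
    have h := LinearMap.charpoly_monic f
    rw [hPQ] at h
    exact (hPmon.pow a).of_mul_monic_left h
  have hPQ' : aeval f (P ^ a) * aeval f Q = 0 := by
    rw [← map_mul, ← hPQ, LinearMap.aeval_self_charpoly]
  have ha : a ≠ 0 := by
    rintro rfl
    rw [hPQ, pow_zero, one_mul] at hPdvd
    exact hQ hPdvd
  obtain ⟨c, d, hcd⟩ : IsCoprime (P ^ a) Q := (hPirr.coprime_iff_not_dvd.2 hQ).pow_left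
  set X' := LinearMap.ker (aeval f (P ^ a)) with hX'
  have hXinv : Inv f X' := fun v hv => by
    rw [LinearMap.mem_ker] at hv ⊢
    rw [← Module.End.mul_apply, show aeval f (P ^ a) * f = f * aeval f (P ^ a) by
      rw [show f * aeval f (P ^ a) = aeval f (Polynomial.X * P ^ a) by simp,
        show aeval f (P ^ a) * f = aeval f (P ^ a * Polynomial.X) by simp, mul_comm],
      Module.End.mul_apply, hv, map_zero]
  have hbot : X' ≠ ⊥ := by
    intro h
    refine hQ (dvd_of_aeval_eq_zero _ f le_rfl hPirr hPdvd (LinearMap.ext fun v => ?_))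
    have := LinearMap.congr_fun hPQ' v
    rw [Module.End.mul_apply, LinearMap.zero_apply] at this
    exact LinearMap.ker_eq_bot'.1 h _ this
  have htop : X' ≠ ⊤ := by
    intro h
    obtain ⟨R, hRmon, hRirr, hRdvd⟩ := exists_monic_irreducible_factor Q
      (fun hu => hQne (hQmon.eq_one_of_isUnit hu))
    have h1 := dvd_of_aeval_eq_zero _ f le_rfl hRirr (hRdvd.trans ⟨P ^ a, by rw [hPQ, mul_comm]⟩)
      (LinearMap.ker_eq_top.1 h)
    have h2 := hRirr.prime.dvd_of_dvd_pow h1
    exact hQ (((hRirr.associated_of_dvd hPirr h2).symm.dvd).trans hRdvd)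
  -- translations are conjugations
  have hδmem : ∀ u ∈ trans X', u * f - f * u ∈ trans X' := by
    intro u hu
    refine ⟨fun x hx => ?_, fun v => ?_⟩
    · simp [hu.1 _ (hXinv x hx), hu.1 x hx]
    · simpa using X'.sub_mem (hu.2 (f v)) (hXinv _ (hu.2 v))
  let δ : ↥(trans X') →ₗ[F] ↥(trans X') :=
    { toFun := fun u => ⟨(u : Module.End F V) * f - f * (u : Module.End F V), hδmem _ u.2⟩
      map_add' := fun a b => Subtype.ext (by simp [add_mul, mul_add]; abel)
      map_smul' := fun r a => Subtype.ext (by simp [smul_sub]) }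
  have hδ : Function.Injective δ := by
    rw [← LinearMap.ker_eq_bot, LinearMap.ker_eq_bot']
    rintro ⟨u, hu⟩ h0
    have hcomm : Commute u f := sub_eq_zero.1 (congrArg Subtype.val h0)
    refine Subtype.ext (LinearMap.ext fun v => ?_)
    show u v = 0
    have hv : v = aeval f (c * P ^ a) v + aeval f (d * Q) v := by
      rw [← LinearMap.add_apply, ← map_add, hcd, map_one, Module.End.one_apply]
    have hc : ∀ (R : F[X]) (w : V), u (aeval f R w) = aeval f R (u w) := fun R w =>
      aeval_comm (f := f) (f' := f) u (fun x => LinearMap.congr_fun hcomm.eq x) R w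
    have h1 : u (aeval f (c * P ^ a) v) = 0 := by
      rw [hc, map_mul, Module.End.mul_apply, LinearMap.mem_ker.1 (hu.2 v), map_zero]
    have h2 : u (aeval f (d * Q) v) = 0 := by
      refine hu.1 _ ?_
      rw [hX', LinearMap.mem_ker, ← Module.End.mul_apply, ← map_mul,
        show P ^ a * (d * Q) = d * f.charpoly by rw [hPQ]; ring, map_mul,
        LinearMap.aeval_self_charpoly, mul_zero, LinearMap.zero_apply]
    rw [hv, map_add, h1, h2, add_zero]
  have hgreen : ∀ t ∈ trans X', green ι (f + t) = green ι f := by
    intro t ht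
    obtain ⟨⟨u, hu⟩, hδu⟩ := (Finite.injective_iff_surjective.1 hδ) ⟨t, ht⟩
    have ht' : u * f - f * u = t := congrArg Subtype.val hδu
    obtain ⟨h1, h2⟩ := one_add_mul_one_sub hu
    refine green_conj ι (LinearEquiv.ofLinear (1 + u) (1 - u) h1 h2) fun v => ?_
    show ((1 + u) * f) v = ((f + t) * (1 + u)) v
    congr 1
    rw [← ht']
    have hufu : u * f * u = 0 := LinearMap.ext fun w => hu.1 _ (hXinv _ (hu.2 w))
    have hfuu : f * u * u = 0 := LinearMap.ext fun w => by
      show f (u (u w)) = 0
      rw [hu.1 _ (hu.2 w), map_zero]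
    simp only [add_mul, mul_add, sub_mul, one_mul, mul_one, hufu, hfuu, sub_zero, add_zero]
    abel
  have h := sum_green ι f hXinv hbot htop
  rw [Finset.sum_congr rfl (g := fun t => if t ∈ trans X' then green ι f else 0) fun t _ => by
    by_cases ht : t ∈ trans X' <;> simp [ht, hgreen t], ← Finset.sum_filter, Finset.sum_const,
    nsmul_eq_mul] at h
  refine (mul_eq_zero.1 h).resolve_left (Nat.cast_ne_zero.2 (Finset.card_pos.2 ⟨0, ?_⟩).ne')
  exact Finset.mem_filter.2 ⟨Finset.mem_univ _, (trans X').zero_mem⟩

omit [Finite V] in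
theorem Lval_pow [FiniteDimensional F V] (ι : K → ℂ) {P : F[X]} {k : ℕ} {f : Module.End F V}
    (hf : f.charpoly = P ^ k) :
    Lval ι f = (k : ℂ) * ((P.map (algebraMap F K)).roots.map ι).sum := by
  rw [Lval, hf, Polynomial.map_pow, roots_pow, Multiset.map_nsmul, Multiset.sum_nsmul,
    nsmul_eq_mul]

/-- The value on a primary element. -/
theorem green_eq_Dsum [FiniteDimensional F V] (ι : K → ℂ) {P : F[X]} (hirr : Irreducible P)
    (hmon : P.Monic) {k : ℕ} {f : Module.End F V} (hf : f.charpoly = P ^ k) :
    (P.natDegree : ℂ) * green ι f =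
      ((P.map (algebraMap F K)).roots.map ι).sum * Dsum f := by
  have hV : finrank F V = P.natDegree * k := by
    rw [← LinearMap.charpoly_natDegree f, hf, natDegree_pow, mul_comm]
  rw [green, Dsum, Finset.mul_sum, Finset.mul_sum]
  refine Finset.sum_congr rfl fun W _ => ?_
  classical
  by_cases hW : Inv f W
  · obtain ⟨i, -, hi, h1, -⟩ := (charpoly_pow_iff hirr hmon f hV hW).1 hf
    rw [if_pos hW, if_pos hW, LW, dif_pos hW, Lval_pow ι h1, hi]
    push_cast
    ring
  · simp [hW]

open scoped Classical in
theorem Dsum_add_trans (f : Module.End F V) {X : Submodule F V} (hX : Inv f X) (hbot : X ≠ ⊥)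
    (htop : X ≠ ⊤) :
    ∑ t : Module.End F V, (if t ∈ trans X then Dsum (f + t) else 0) = 0 := by
  haveI : FiniteDimensional F V := Module.Finite.of_finite
  refine Eq.trans ?_ (sum_average_additive f hX hbot htop (fun A => (finrank F A : ℂ))
    (fun B => (finrank F B : ℂ)))
  refine Finset.sum_congr rfl fun t _ => ?_
  by_cases ht : t ∈ trans X
  · rw [if_pos ht, if_pos ht, Dsum]
    refine Finset.sum_congr rfl fun W _ => ?_
    have hrk : finrank F W = finrank F ↥(W ⊓ X) + finrank F ↥(W.map X.mkQ) := by
      have h1 := LinearMap.finrank_range_add_finrank_ker (X.mkQ.domRestrict W)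
      have h2 : LinearMap.range (X.mkQ.domRestrict W) = W.map X.mkQ := LinearMap.range_domRestrict ..
      have h3 : (LinearMap.ker (X.mkQ.domRestrict W)).map W.subtype = W ⊓ X := by
        rw [LinearMap.ker_domRestrict, Submodule.ker_mkQ]
        exact Submodule.map_comap_subtype W X
      rw [h2] at h1
      rw [← h3, ← LinearEquiv.finrank_eq (Submodule.equivMapOfInjective _ W.injective_subtype _)]
      omega
    by_cases h : Inv (f + t) W
    · rw [if_pos h, if_pos h, hrk, Nat.cast_add]
    · rw [if_neg h, if_neg h]
  · rw [if_neg ht, if_neg ht]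

open scoped Classical in
/-- The value at the identity. -/
theorem Dsum_one : ∀ (n : ℕ) {V : Type*} [AddCommGroup V] [Module F V] [Finite V],
    finrank F V = n + 1 → Dsum (1 : Module.End F V) =
      -∏ i ∈ Finset.Ico 1 (n + 1), (1 - (Nat.card F : ℂ) ^ i) := by
  intro n
  induction n with
  | zero =>
    intro V _ _ _ hV
    haveI : FiniteDimensional F V := Module.Finite.of_finite
    have htb : (⊤ : Submodule F V) ≠ ⊥ := fun h => by
      have := finrank_top F V
      rw [h, finrank_bot, hV] at this
      omega
    have hdich : ∀ W : Submodule F V, W = ⊥ ∨ W = ⊤ := fun W => by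
      rcases Nat.eq_zero_or_pos (finrank F W) with h | h
      · exact Or.inl (Submodule.finrank_eq_zero.1 h)
      · exact Or.inr (Submodule.eq_top_of_finrank_eq (by
          have := Submodule.finrank_le W
          omega))
    have hm : mob (1 : Module.End F V) ⊤ = -1 := by
      rw [mob_eq, if_neg htb, Finset.sum_eq_single (⊥ : Submodule F V)]
      · rw [if_pos ⟨Ne.bot_lt htb, inv_bot _⟩, mob_bot, zero_sub]
      · intro W _ hW
        rcases hdich W with h | h
        · exact absurd h hW
        · simp [h]
      · exact fun h => absurd (Finset.mem_univ _) h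
    rw [Dsum, Finset.sum_eq_single (⊤ : Submodule F V)]
    · rw [if_pos (inv_top _), hm, finrank_top, hV]
      simp
    · intro W _ hW
      rcases hdich W with h | h
      · subst h; simp
      · exact absurd h hW
    · exact fun h => absurd (Finset.mem_univ _) h
  | succ n ih =>
    intro V _ _ _ hV
    haveI : FiniteDimensional F V := Module.Finite.of_finite
    haveI : Nontrivial V := nontrivial_of_finrank_pos (R := F) (by omega)
    obtain ⟨v, hv⟩ := exists_ne (0 : V)
    set X := Submodule.span F ({v} : Set V)
    have hXrk : finrank F X = 1 := finrank_span_singleton hv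
    have hX : Inv (1 : Module.End F V) X := fun w hw => hw
    have hbot : X ≠ ⊥ := fun h => by rw [h, finrank_bot] at hXrk; omega
    have htop : X ≠ ⊤ := fun h => by rw [h, finrank_top, hV] at hXrk; omega
    have h := Dsum_add_trans (1 : Module.End F V) hX hbot htop
    have hD : ∀ t ∈ trans X, t ≠ 0 → Dsum (1 + t) =
        -∏ i ∈ Finset.Ico 1 (n + 1), (1 - (Nat.card F : ℂ) ^ i) := by
      intro t ht ht0
      set H := LinearMap.ker t with hH
      have hHrk : finrank F H = n + 1 := by
        have h1 := LinearMap.finrank_range_add_finrank_ker t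
        have h2 : finrank F (LinearMap.range t) ≤ 1 := by
          rw [← hXrk]
          refine Submodule.finrank_mono ?_
          rintro _ ⟨w, rfl⟩
          exact ht.2 w
        have h3 : finrank F (LinearMap.range t) ≠ 0 := fun h0 =>
          ht0 (LinearMap.range_eq_bot.1 (Submodule.finrank_eq_zero.1 h0))
        rw [hV, ← hH] at h1
        omega
      rw [← ih (V := ↥H) hHrk, Dsum, Dsum]
      symm
      refine Fintype.sum_of_injective (Submodule.map H.subtype)
        (Submodule.map_injective_of_injective H.injective_subtype) _ _ (fun W hW => ?_) fun W => ?_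
      · by_cases hWinv : Inv (1 + t) W
        · rw [if_pos hWinv]
          have hzero : mob (1 + t) W = 0 := by
            refine mob_eq_zero_of_not_le _ (W₀ := H) (fun w hw => ?_) (fun W' hW' hne hmeet => ?_)
              W hWinv fun hle => hW ⟨W.comap H.subtype, ?_⟩
            · rw [LinearMap.add_apply, LinearMap.mem_ker.1 hw, add_zero]
              exact hw
            · obtain ⟨w, hw, hw0⟩ := (Submodule.ne_bot_iff _).1 hne
              have htw : t w ∈ W' := by
                have := W'.sub_mem (hW' w hw) hw
                simpa using this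
              have h1 : t w = 0 := by
                have : t w ∈ W' ⊓ H := ⟨htw, LinearMap.mem_ker.2 (ht.1 _ (ht.2 w))⟩
                rwa [hmeet, Submodule.mem_bot] at this
              have : w ∈ W' ⊓ H := ⟨hw, LinearMap.mem_ker.2 h1⟩
              rw [hmeet, Submodule.mem_bot] at this
              exact hw0 this
            · exact Submodule.map_comap_eq_self (by rwa [Submodule.range_subtype])
          rw [hzero]
          simp
        · rw [if_neg hWinv]
      · have hcomm : ∀ w : ↥H, H.subtype ((1 : Module.End F ↥H) w) = (1 + t) (H.subtype w) :=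
          fun w => by simp [LinearMap.mem_ker.1 w.2]
        rw [mob_map (f := 1 + t) (f' := (1 : Module.End F ↥H)) H.subtype H.injective_subtype hcomm W,
          ← LinearEquiv.finrank_eq (Submodule.equivMapOfInjective _ H.injective_subtype W)]
        simp only [inv_map (f := 1 + t) (f' := (1 : Module.End F ↥H)) H.subtype H.injective_subtype
          hcomm W]
    rw [Finset.sum_congr rfl (g := fun t => (if t ∈ trans X then
        -∏ i ∈ Finset.Ico 1 (n + 1), (1 - (Nat.card F : ℂ) ^ i) else 0) +
        (if t = 0 then Dsum (1 : Module.End F V) -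
          -∏ i ∈ Finset.Ico 1 (n + 1), (1 - (Nat.card F : ℂ) ^ i) else 0)) fun t _ => ?_] at h
    · rw [Finset.sum_add_distrib, ← Finset.sum_filter, Finset.sum_const, nsmul_eq_mul,
        Finset.sum_ite_eq' Finset.univ, if_pos (Finset.mem_univ _),
        ← Nat.subtype_card (p := fun t => t ∈ trans X) _ (by simp)] at h
      have hcard : Nat.card ↥(trans X) = Nat.card F ^ (n + 1) := by
        let e : ↥(trans X) ≃ ((V ⧸ X) →ₗ[F] ↥X) :=
          { toFun := fun t => X.liftQ (LinearMap.codRestrict X (t : Module.End F V) t.2.2)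
              fun x hx => LinearMap.mem_ker.2 (Subtype.ext (t.2.1 x hx))
            invFun := fun s => ⟨X.subtype ∘ₗ s ∘ₗ X.mkQ, fun x hx => by
              simp [(Submodule.Quotient.mk_eq_zero X).2 hx], fun w => (s (X.mkQ w)).2⟩
            left_inv := fun t => rfl
            right_inv := fun s => Submodule.linearMap_qext _ rfl }
        rw [Nat.card_congr e, Module.natCard_eq_pow_finrank (K := F)
          (V := (V ⧸ X) →ₗ[F] ↥X), Module.finrank_linearMap, hXrk, mul_one]
        congr 1
        have := X.finrank_quotient_add_finrank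
        omega
      rw [show (Nat.card {t : Module.End F V // t ∈ trans X}) = _ from hcard] at h
      rw [Finset.prod_Ico_succ_top (show 1 ≤ n + 1 by omega)]
      push_cast at h
      linear_combination h
    · by_cases ht : t ∈ trans X
      · by_cases ht0 : t = 0
        · subst ht0
          simp
        · simp [ht, ht0, hD t ht ht0]
      · have : t ≠ 0 := fun h0 => ht (h0 ▸ (trans X).zero_mem)
        simp [ht, this]

end Cfsg.Agent.Green
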