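import Cfsg.Agent.Lib.Green.Inner
import Cfsg.Agent.Lib.Characters.Induction

/-!
# Green's class function is a generalised character
-/

namespace Cfsg.Agent.Green

open Module Submodule Cfsg.Agent.Characters

universe v

variable {F : Type*} [Field F] {V : Type v} [AddCommGroup V] [Module F V] [Finite V]

/-- An automorphism as a linear equivalence. -/
noncomputable def unitEquiv (h : (Module.End F V)ˣ) : V ≃ₗ[F] V :=
  LinearMap.GeneralLinearGroup.generalLinearEquiv F V h

theorem unitEquiv_coe (h : (Module.End F V)ˣ) :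
    ((unitEquiv h : V ≃ₗ[F] V) : V →ₗ[F] V) = (h : Module.End F V) := rfl

theorem unitEquiv_conj (g h : (Module.End F V)ˣ) (v : V) :
    (h : Module.End F V) ((g : Module.End F V) v) =
      ((h * g * h⁻¹ : (Module.End F V)ˣ) : Module.End F V) ((h : Module.End F V) v) := by
  rw [← Module.End.mul_apply, ← Module.End.mul_apply, ← Units.val_mul, ← Units.val_mul]
  group

variable [Fintype (Module.End F V)ˣ]

open scoped Classical in
/-- Summing over the subspaces of a dimension is inducing from the stabiliser of one. -/
theorem sum_dim_eq_indFun (j : ℕ) (Φ : (Module.End F V)ˣ → Submodule F V → ℂ)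
    (hΦ : ∀ (g h : (Module.End F V)ˣ) (W : Submodule F V), Inv (g : Module.End F V) W →
      Φ (h * g * h⁻¹) (W.map (h : Module.End F V)) = Φ g W)
    (hS : ∀ W₀ : Submodule F V, finrank F W₀ = j →
      ∀ S : Subgroup (Module.End F V)ˣ, (∀ s ∈ S, Inv ((s : (Module.End F V)ˣ) : Module.End F V) W₀) →
        Cfsg.IsGeneralizedCharacter ↥S (fun s => Φ (s : (Module.End F V)ˣ) W₀)) :
    Cfsg.IsGeneralizedCharacter (Module.End F V)ˣ (fun g => ∑ W : Submodule F V,
      if finrank F W = j ∧ Inv (g : Module.End F V) W then Φ g W else 0) := by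
  haveI : FiniteDimensional F V := Module.Finite.of_finite
  by_cases hex : ∃ W₀ : Submodule F V, finrank F W₀ = j
  swap
  · convert isGen_zero (G := (Module.End F V)ˣ) with g
    exact Finset.sum_eq_zero fun W _ => if_neg fun h => hex ⟨W, h.1⟩
  obtain ⟨W₀, hW₀⟩ := hex
  have hcomp : ∀ (g h : (Module.End F V)ˣ) (W : Submodule F V),
      W.map ((g * h : (Module.End F V)ˣ) : Module.End F V) =
        (W.map (h : Module.End F V)).map (g : Module.End F V) := fun g h W => by
    rw [← Submodule.map_comp]
    rfl
  let S : Subgroup (Module.End F V)ˣ :=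
    { carrier := {s | W₀.map (s : Module.End F V) = W₀}
      one_mem' := Submodule.map_id W₀
      mul_mem' := fun {a b} (ha : W₀.map (a : Module.End F V) = W₀)
        (hb : W₀.map (b : Module.End F V) = W₀) => show W₀.map _ = W₀ by rw [hcomp, hb, ha]
      inv_mem' := fun {a} (ha : W₀.map (a : Module.End F V) = W₀) => show W₀.map _ = W₀ by
        conv_lhs => rw [← ha, ← hcomp, inv_mul_cancel]
        exact Submodule.map_id W₀ }
  have hrk : ∀ (x : (Module.End F V)ˣ) (W : Submodule F V),
      finrank F ↥(W.map (x : Module.End F V)) = finrank F W := fun x W =>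
    (LinearEquiv.finrank_eq (Submodule.equivMapOfInjective _ (unitEquiv x).injective W)).symm
  have hInv : ∀ (s : (Module.End F V)ˣ) (W : Submodule F V),
      Inv (s : Module.End F V) W ↔ W.map (s : Module.End F V) = W := by
    intro s W
    constructor
    · intro hs
      refine Submodule.eq_of_le_of_finrank_eq ?_ (hrk s W)
      rintro _ ⟨w, hw, rfl⟩
      exact hs w hw
    · intro hs w hw
      exact hs ▸ Submodule.mem_map_of_mem hw
  have key : (fun g : (Module.End F V)ˣ => ∑ W : Submodule F V,
      if finrank F W = j ∧ Inv (g : Module.End F V) W then Φ g W else 0) =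
      Cfsg.indFun S (fun s => Φ (s : (Module.End F V)ˣ) W₀) := by
    funext g
    rw [Cfsg.indFun]
    have hterm : ∀ x : (Module.End F V)ˣ,
        Cfsg.extendByZero S (fun s => Φ (s : (Module.End F V)ˣ) W₀) (x⁻¹ * g * x) =
          if Inv (g : Module.End F V) (W₀.map (x : Module.End F V)) then
            Φ g (W₀.map (x : Module.End F V)) else 0 := by
      intro x
      have hiff : x⁻¹ * g * x ∈ S ↔ Inv (g : Module.End F V) (W₀.map (x : Module.End F V)) := by
        rw [hInv]
        show W₀.map _ = W₀ ↔ _
        rw [hcomp, hcomp]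
        constructor
        · intro h
          conv_rhs => rw [← h, ← hcomp x x⁻¹, mul_inv_cancel]
          exact (Submodule.map_id _).symm
        · intro h
          rw [h, ← hcomp, inv_mul_cancel]
          exact Submodule.map_id W₀
      by_cases hx : x⁻¹ * g * x ∈ S
      · rw [CharTheory.IndBasic.extendByZero_of_mem S _ hx, if_pos (hiff.1 hx)]
        rw [← hΦ (x⁻¹ * g * x) x W₀ ((hInv _ _).2 hx)]
        congr 1
        group
      · rw [CharTheory.IndBasic.extendByZero_of_notMem S _ hx, if_neg fun h => hx (hiff.2 h)]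
    rw [Finset.sum_congr rfl fun x _ => hterm x,
      ← Finset.sum_fiberwise Finset.univ (fun x : (Module.End F V)ˣ => W₀.map (x : Module.End F V)),
      Finset.mul_sum]
    refine Finset.sum_congr rfl fun W _ => ?_
    rw [Finset.sum_congr rfl (g := fun _ => if Inv (g : Module.End F V) W then Φ g W else 0)
      fun x hx => by rw [(Finset.mem_filter.1 hx).2], Finset.sum_const, nsmul_eq_mul]
    by_cases hW : finrank F W = j
    · obtain ⟨e, he⟩ := exists_equiv_map (W := W₀) (W' := W) (by rw [hW₀, hW])
      set x₀ := (LinearMap.GeneralLinearGroup.generalLinearEquiv F V).symm e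
      have hx₀ : W₀.map (x₀ : Module.End F V) = W := he
      have hcard : (Finset.univ.filter fun x : (Module.End F V)ˣ =>
          W₀.map (x : Module.End F V) = W).card = Nat.card ↥S := by
        rw [← Nat.card_eq_finsetCard]
        refine (Nat.card_congr ?_).symm
        exact
          { toFun := fun s => ⟨x₀ * s.1, Finset.mem_filter.2 ⟨Finset.mem_univ _, by
              rw [hcomp, show W₀.map (s.1 : Module.End F V) = W₀ from s.2, hx₀]⟩⟩
            invFun := fun x => ⟨x₀⁻¹ * x.1, show W₀.map _ = W₀ by
              rw [hcomp, (Finset.mem_filter.1 x.2).2, ← hx₀, ← hcomp, inv_mul_cancel]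
              exact Submodule.map_id W₀⟩
            left_inv := fun s => Subtype.ext (inv_mul_cancel_left _ _)
            right_inv := fun x => Subtype.ext (mul_inv_cancel_left _ _) }
      rw [hcard, ← mul_assoc, inv_mul_cancel₀ (Nat.cast_ne_zero.2 Nat.card_pos.ne'), one_mul]
      simp [hW]
    · rw [Finset.filter_eq_empty_iff.2 fun x _ h => hW (by rw [← h, hrk, hW₀])]
      simp [hW]
  rw [key]
  exact isGen_indFun S (hS W₀ hW₀ S fun s hs => (hInv _ _).2 hs)

open scoped Classical in
theorem resHom_aux {W₀ : Submodule F V} {S : Subgroup (Module.End F V)ˣ}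
    (hS : ∀ s ∈ S, Inv ((s : (Module.End F V)ˣ) : Module.End F V) W₀) :
    ∃ r : ↥S →* (Module.End F ↥W₀)ˣ, ∀ s : ↥S,
      (r s : Module.End F ↥W₀) = ((s.1 : (Module.End F V)ˣ) : Module.End F V).restrict (hS s.1 s.2) := by
  let r₀ : ↥S →* Module.End F ↥W₀ :=
    { toFun := fun s => ((s.1 : (Module.End F V)ˣ) : Module.End F V).restrict (hS s.1 s.2)
      map_one' := LinearMap.ext fun w => Subtype.ext rfl
      map_mul' := fun a b => LinearMap.ext fun w => Subtype.ext rfl }
  exact ⟨r₀.toHomUnits, fun s => rfl⟩

section Mob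

omit [Fintype (Module.End F V)ˣ]

open scoped Classical in
/-- The Möbius function of the whole space is a generalised character. -/
theorem isGen_mob : ∀ (n : ℕ) {V : Type v} [AddCommGroup V] [Module F V] [Finite V]
    [Fintype (Module.End F V)ˣ], finrank F V ≤ n →
    Cfsg.IsGeneralizedCharacter (Module.End F V)ˣ (fun g => (mob (g : Module.End F V) ⊤ : ℂ)) := by
  intro n
  induction n using Nat.strong_induction_on with
  | _ n ih =>
  intro V _ _ _ _ hV
  haveI : FiniteDimensional F V := Module.Finite.of_finite
  set m := finrank F V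
  have hmain : (fun g : (Module.End F V)ˣ => (mob (g : Module.End F V) ⊤ : ℂ)) =
      (fun _ : (Module.End F V)ˣ => (if (⊤ : Submodule F V) = ⊥ then 1 else 0 : ℂ)) -
        ∑ j ∈ Finset.range m, fun g : (Module.End F V)ˣ => ∑ W : Submodule F V,
          if finrank F W = j ∧ Inv (g : Module.End F V) W then
            (mob (g : Module.End F V) W : ℂ) else 0 := by
    funext g
    rw [Pi.sub_apply, Finset.sum_apply, mob_eq, Finset.sum_comm]
    push_cast
    congr 1
    refine Finset.sum_congr rfl fun W _ => ?_
    by_cases hW : W < ⊤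
    · have hlt : finrank F W < m := Submodule.finrank_lt hW.ne
      rw [Finset.sum_eq_single (finrank F W)]
      · simp [hW]
      · intro j _ hj
        rw [if_neg fun h => hj h.1.symm]
      · exact fun h => absurd (Finset.mem_range.2 hlt) h
    · rw [Finset.sum_eq_zero fun j hj => if_neg fun h => hW (lt_top_iff_ne_top.2 fun htop => by
        rw [htop, finrank_top] at h
        exact absurd h.1 (Finset.mem_range.1 hj).ne')]
      simp [hW]
  rw [hmain]
  refine isGen_sub ?_ (isGen_sum _ _ fun j hj => ?_)
  · split
    · exact isGen_of_isCharacter isCharacter_one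
    · exact isGen_zero
  · refine sum_dim_eq_indFun (F := F) (V := V) j
      (fun (g : (Module.End F V)ˣ) (W : Submodule F V) => ((mob (g : Module.End F V) W : ℤ) : ℂ))
      (fun g h W _ => ?_) fun W₀ hW₀ S hS => ?_
    · show ((mob ((h * g * h⁻¹ : (Module.End F V)ˣ) : Module.End F V)
        (W.map (h : Module.End F V)) : ℤ) : ℂ) = ((mob (g : Module.End F V) W : ℤ) : ℂ)
      rw [mob_map (f := ((h * g * h⁻¹ : (Module.End F V)ˣ) : Module.End F V))
        (f' := (g : Module.End F V)) (h : Module.End F V) (unitEquiv h).injective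
        (unitEquiv_conj g h)]
    · obtain ⟨r, hr⟩ := resHom_aux hS
      letI : Fintype (Module.End F ↥W₀)ˣ := Fintype.ofFinite _
      have := ih j (lt_of_lt_of_le (Finset.mem_range.1 hj) hV) (V := ↥W₀) hW₀.le
      convert isGen_comp r this using 1
      funext s
      show _ = (mob (r s : Module.End F ↥W₀) ⊤ : ℂ)
      rw [hr s, ← mob_restrict (hS s.1 s.2)]

end Mob

section Green

variable {K : Type*} [Field K] [Fintype K] [Algebra F K] [Finite F]

/-- Brauer's lift on the general linear group. -/
theorem isGen_Lval_units {p : ℕ} (hp : p.Prime) [CharP F p] [CharP K p]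
    (hK : ∀ d, 0 < d → d ≤ finrank F V → d ∣ finrank F K) (ι : Kˣ →* ℂˣ)
    (hι : Function.Injective ι) :
    Cfsg.IsGeneralizedCharacter (Module.End F V)ˣ
      (fun g => Lval (ext0 ι) (g : Module.End F V)) := by
  classical
  haveI : FiniteDimensional F V := Module.Finite.of_finite
  set b := Module.finBasis F V
  let A : Module.End F V →+* Module.End K (Fin (finrank F V) → K) :=
    (Matrix.toLinAlgEquiv' (R := K)).toRingEquiv.toRingHom.comp
      (((algebraMap F K).mapMatrix).comp (LinearMap.toMatrixAlgEquiv b).toRingEquiv.toRingHom)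
  let ρ : (Module.End F V)ˣ →* Module.End K (Fin (finrank F V) → K) :=
    A.toMonoidHom.comp (Units.coeHom _)
  have h := isGen_Lval (p := p) hp ι hι ρ fun g hg => by
    have hm : (orderOf g : F) ≠ 0 := fun h0 => hg ((CharP.cast_eq_zero_iff F p _).1 h0)
    have h1 : (g : Module.End F V) ^ (Nat.card K - 1) = 1 :=
      pow_card_sub_one_of_regular hK hm (by
        rw [← Units.val_pow_eq_pow_val, pow_orderOf_eq_one, Units.val_one])
    rw [← Nat.card_eq_fintype_card]
    show A (g : Module.End F V) ^ _ = 1
    rw [← map_pow, h1, map_one]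
  convert h using 1
  funext g
  rw [Lval, Lval, Algebra.algebraMap_self, Polynomial.map_id]
  congr 3
  show _ = (Matrix.toLin' ((LinearMap.toMatrix b b (g : Module.End F V)).map (algebraMap F K))).charpoly
  rw [Matrix.charpoly_toLin', Matrix.charpoly_map, LinearMap.charpoly_toMatrix]

open scoped Classical in
/-- Green's class function is a generalised character. -/
theorem isGen_green {p : ℕ} (hp : p.Prime) [CharP F p] [CharP K p]
    (hK : ∀ d, 0 < d → d ≤ finrank F V → d ∣ finrank F K) (ι : Kˣ →* ℂˣ)
    (hι : Function.Injective ι) :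
    Cfsg.IsGeneralizedCharacter (Module.End F V)ˣ
      (fun g => green (ext0 ι) (g : Module.End F V)) := by
  haveI : FiniteDimensional F V := Module.Finite.of_finite
  set m := finrank F V
  have hmain : (fun g : (Module.End F V)ˣ => green (ext0 ι) (g : Module.End F V)) =
      ∑ j ∈ Finset.range (m + 1), fun g : (Module.End F V)ˣ => ∑ W : Submodule F V,
        if finrank F W = j ∧ Inv (g : Module.End F V) W then
          (mob (g : Module.End F V) W : ℂ) * LW (ext0 ι) (g : Module.End F V) W else 0 := by
    funext g
    rw [Finset.sum_apply, green, Finset.sum_comm]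
    refine Finset.sum_congr rfl fun W _ => ?_
    rw [Finset.sum_eq_single (finrank F W)]
    · simp
    · intro j _ hj
      rw [if_neg fun h => hj h.1.symm]
    · exact fun h => absurd (Finset.mem_range.2 (Nat.lt_succ_of_le (Submodule.finrank_le W))) h
  rw [hmain]
  refine isGen_sum _ _ fun j hj => ?_
  refine sum_dim_eq_indFun j
    (fun g W => (mob (g : Module.End F V) W : ℂ) * LW (ext0 ι) (g : Module.End F V) W)
    (fun g h W _ => ?_) fun W₀ hW₀ S hS => ?_
  · rw [mob_map (f := ((h * g * h⁻¹ : (Module.End F V)ˣ) : Module.End F V))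
      (f' := (g : Module.End F V)) (h : Module.End F V) (unitEquiv h).injective
      (unitEquiv_conj g h),
      LW_map (f := ((h * g * h⁻¹ : (Module.End F V)ˣ) : Module.End F V))
      (f' := (g : Module.End F V)) _ (h : Module.End F V) (unitEquiv h).injective
      (unitEquiv_conj g h)]
  · obtain ⟨r, hr⟩ := resHom_aux hS
    letI : Fintype (Module.End F ↥W₀)ˣ := Fintype.ofFinite _
    have h1 := isGen_mob (F := F) (finrank F ↥W₀) (V := ↥W₀) le_rfl
    have h2 := isGen_Lval_units (V := ↥W₀) hp
      (fun d hd hd' => hK d hd (hd'.trans (Submodule.finrank_le W₀))) ι hι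
    convert isGen_comp r (isGen_mul h1 h2) using 1
    funext s
    show _ = (mob (r s : Module.End F ↥W₀) ⊤ : ℂ) * Lval (ext0 ι) (r s : Module.End F ↥W₀)
    rw [hr s, ← mob_restrict (hS s.1 s.2), LW, dif_pos (hS s.1 s.2)]

end Green

end Cfsg.Agent.Green
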